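import Cfsg.Agent.Lib.Helper9.Golay

/-!
# Self-duality of the Golay code in the bitmask model (S2650 piece GOLAYSD, by helper89)

A mask `m < 2 ^ 24` which is orthogonal to the twelve basis masks `gB` lies in the code.
-/

set_option autoImplicit false

namespace Cfsg.Agent.Lib.Helper89.GolaySD

open Cfsg Cfsg.Agent.Lib.Helper9

/-- The basis masks with their pivots shifted down by `12`. -/
def gBPs : List (ℕ × ℕ) :=
  [(6, 262637), (7, 525274), (8, 1050548), (9, 2101096), (10, 4196943), (3, 36294),
   (4, 69395), (5, 133817), (0, 5279), (1, 10558), (2, 18147), (11, 8391797)]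

theorem red_gBP_shift (m : ℕ) : red gBP m = red gBPs (m >>> 12) := by
  show red [(18, 262637), (19, 525274), (20, 1050548), (21, 2101096), (22, 4196943), (15, 36294),
      (16, 69395), (17, 133817), (12, 5279), (13, 10558), (14, 18147), (23, 8391797)] m =
    red [(6, 262637), (7, 525274), (8, 1050548), (9, 2101096), (10, 4196943), (3, 36294),
      (4, 69395), (5, 133817), (0, 5279), (1, 10558), (2, 18147), (11, 8391797)] (m >>> 12)
  simp only [red, Nat.testBit_shiftRight, Nat.reduceAdd]

set_option maxRecDepth 1000000 in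
/-- The reduction is the identity on the pivot bits `12, …, 23`. -/
theorem red_gBPs_hi : ∀ h < 4096, red gBPs h >>> 12 = h := by decide +kernel

set_option maxRecDepth 1000000 in
/-- A mask below `2 ^ 12` orthogonal to the basis masks is zero. -/
theorem orth_lo : ∀ u < 4096, (∀ b ∈ gB, popc (u &&& b) % 2 = 0) → u = 0 := by decide +kernel

set_option maxRecDepth 1000000 in
theorem gB_inCode : ∀ b ∈ gB, inCode b = true := by decide +kernel

theorem inCode_of_orth (m : ℕ) (hm : m < 2 ^ 24)
    (h : ∀ b ∈ gB, popc (m &&& b) % 2 = 0) : inCode m = true := by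
  have hc : red gBP m ∈ sums gB := red_mem_sums gBP m
  have hhi : m >>> 12 < 4096 := by
    rw [Nat.shiftRight_eq_div_pow]
    exact Nat.div_lt_of_lt_mul (by norm_num at hm ⊢; exact hm)
  have hred : red gBP m >>> 12 = m >>> 12 := by
    rw [red_gBP_shift, red_gBPs_hi _ hhi]
  have hu : m ^^^ red gBP m < 4096 := by
    have h0 : (m ^^^ red gBP m) >>> 12 = 0 := by
      rw [Nat.shiftRight_xor_distrib, hred, Nat.xor_self]
    rw [Nat.shiftRight_eq_div_pow] at h0
    rcases (Nat.div_eq_zero_iff).1 h0 with h1 | h1
    · norm_num at h1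
    · norm_num at h1 ⊢
      exact h1
  have horth : ∀ b ∈ gB, popc ((m ^^^ red gBP m) &&& b) % 2 = 0 := by
    intro b hb
    have h1 := h b hb
    have h2 := popc_and_even hc (mem_sums_of_inCode (gB_inCode b hb))
    rw [Nat.and_xor_distrib_right]
    have h3 := popc_xor_add (m &&& b) (red gBP m &&& b)
    omega
  have hz := orth_lo _ hu horth
  have he : red gBP m = m := (Nat.xor_eq_zero_iff.1 hz).symm
  show (red gBP m == m) = true
  rw [he]
  exact beq_self_eq_true m

end Cfsg.Agent.Lib.Helper89.GolaySD
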