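import Cfsg.Agent.Lib.Helper41.TW3

/-!
# Thompson–Wielandt: step 2 (job piece TW-S2 for S5752)
-/

set_option autoImplicit false

namespace Cfsg.Agent.Lib.Helper89.TWP

open Cfsg Cfsg.Agent.Lib.Helper66 Cfsg.Agent.Lib.Helper41.TW

variable {G : Type*} [Group G] [Finite G] {X Y A1 B1 A2 B2 : Subgroup G}

theorem step2 (S : Setting X Y A1 B1 A2 B2) {p q : ℕ} (hp : p.Prime) (hq : q.Prime)
    (hpq : p ≠ q) (hA : rp p A2 ≠ ⊥) (hB : rp q B2 ≠ ⊥) : rp p B2 ≠ ⊥ := by
  have hpF : Fact p.Prime := ⟨hp⟩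
  set Z : Subgroup G := rp p Y ⊓ Subgroup.centralizer ((rp p Y : Subgroup G) : Set G) with hZ
  have hYZ : Y ≤ Subgroup.normalizer (Z : Set G) :=
    inf_le_normalizer_inf (le_normalizer_rp p Y)
      ((le_normalizer_rp p Y).trans (normalizer_le_normalizer_centralizer _))
  have hZY : Z ≤ Y := inf_le_left.trans (rp_le p Y)
  have hZX : Z ≤ X := inf_le_right.trans
    ((Subgroup.centralizer_le (S.rp_A2_le_rp_Y p)).trans (S.centralizer_rp_A2_le p hA))
  have hZp : IsPGroup p Z := (rp_isPGroup p Y).to_le inf_le_left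
  -- (d)
  have hZc : Z ≤ Subgroup.centralizer ((rp q X ⊓ Y : Subgroup G) : Set G) := by
    apply le_centralizer_of_disjoint
    · exact inf_le_normalizer_inf (hZX.trans (le_normalizer_rp q X))
        (hZY.trans Subgroup.le_normalizer)
    · exact inf_le_right.trans hYZ
    · exact inf_eq_bot_of_pq hp hq hpq hZp ((rp_isPGroup q X).to_le inf_le_left)
  -- (e)
  have hZA1 : Z ≤ A1 := by
    refine le_trans ?_ (S.inf_centralizer_rp_le_A1 hB)
    intro z hz
    refine Subgroup.mem_inf.mpr ⟨hZX hz, ?_⟩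
    rw [Subgroup.mem_centralizer_iff]
    intro c hc
    have hcop : (orderOf z).Coprime q := by
      obtain ⟨k, hk⟩ := hZp ⟨z, hz⟩
      have hk' : z ^ p ^ k = 1 := by
        have := congrArg Subtype.val hk
        simpa using this
      have hdvd : orderOf z ∣ p ^ k := orderOf_dvd_of_pow_eq_one hk'
      exact Nat.Coprime.coprime_dvd_left hdvd
        (Nat.Coprime.pow_left k ((Nat.coprime_primes hp hq).mpr hpq))
    have hcomm : ∀ b ∈ rp q X ⊓ Y, Commute z b := by
      intro b hb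
      have := (Subgroup.mem_centralizer_iff.mp (hZc hz)) b hb
      exact this.symm
    exact (S.thompson_step hq hB (hZX hz) hcop hcomm c hc).symm.eq
  -- (f)
  have hZB1 : Z ≤ B1 := S.le_B1 hZY hZX hYZ
  have hZB2 : Z ≤ B2 := S.le_B2 hZB1 hZA1 hYZ
  -- (g)
  have hZrp : Z ≤ rp p B2 := le_rp hZB2 (S.B2_le_Y.trans hYZ) hZp
  -- (h)
  have hYne : rp p Y ≠ ⊥ := by
    intro h
    apply hA
    have := S.rp_A2_le_rp_Y p
    rw [h] at this
    exact le_bot_iff.mp this
  have hZne : Z ≠ ⊥ := by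
    have hnt : Nontrivial ↥(rp p Y) := (Subgroup.nontrivial_iff_ne_bot _).mpr hYne
    have hlt := IsPGroup.bot_lt_center (rp_isPGroup p Y)
    obtain ⟨z, hz, hz1⟩ := ((Subgroup.center ↥(rp p Y)).bot_or_exists_ne_one).resolve_left hlt.ne'
    intro hbot
    have hzZ : (z : G) ∈ Z := by
      refine Subgroup.mem_inf.mpr ⟨z.2, ?_⟩
      rw [Subgroup.mem_centralizer_iff]
      intro c hc
      have := (Subgroup.mem_center_iff.mp hz) ⟨c, hc⟩
      exact congrArg Subtype.val this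
    rw [hbot, Subgroup.mem_bot] at hzZ
    exact hz1 (Subtype.ext hzZ)
  intro hbot
  rw [hbot] at hZrp
  exact hZne (le_bot_iff.mp hZrp)

end Cfsg.Agent.Lib.Helper89.TWP
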