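import Cfsg.Agent.Lib.Helper41.TW3

/-!
# Thompson–Wielandt: step 4a (job piece TW-S4A for S5752)
-/

set_option autoImplicit false

namespace Cfsg.Agent.Lib.Helper89.TWP

open Cfsg Cfsg.Agent.Lib.Helper66 Cfsg.Agent.Lib.Helper41.TW

variable {G : Type*} [Group G] [Finite G] {X Y A1 B1 A2 B2 : Subgroup G}

omit [Finite G] in
/-- A subgroup whose elements conjugate a set `s` into itself normalizes `closure s`. -/
theorem le_normalizer_closure_of_conj {K' : Subgroup G} {s : Set G}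
    (h : ∀ k ∈ K', ∀ a ∈ s, k * a * k⁻¹ ∈ s) :
    K' ≤ Subgroup.normalizer ((Subgroup.closure s : Subgroup G) : Set G) := by
  apply le_normalizer_of_conj
  intro k hk n hn
  induction hn using Subgroup.closure_induction with
  | mem x hx => exact Subgroup.subset_closure (h k hk x hx)
  | one => simp
  | mul x y _ _ hx hy =>
    have : k * (x * y) * k⁻¹ = (k * x * k⁻¹) * (k * y * k⁻¹) := by group
    rw [this]
    exact Subgroup.mul_mem _ hx hy
  | inv x _ hx =>
    have : k * x⁻¹ * k⁻¹ = (k * x * k⁻¹)⁻¹ := by group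
    rw [this]
    exact Subgroup.inv_mem _ hx

omit [Finite G] in
/-- Conjugates of `q`-elements are `q`-elements. -/
theorem isPGroup_zpowers_conj {q : ℕ} {a : G} (k : G) (h : IsPGroup q (Subgroup.zpowers a)) :
    IsPGroup q (Subgroup.zpowers (k * a * k⁻¹)) := by
  have h1 := h.map (MulAut.conj k).toMonoidHom
  rw [MonoidHom.map_zpowers] at h1
  exact h1

theorem step4a (S : Setting X Y A1 B1 A2 B2) {p q : ℕ} (hp : p.Prime) (hq : q.Prime)
    (hpq : p ≠ q) (hdvd : q ∣ Nat.card A2)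
    (hFR : ∀ a ∈ A2, IsPGroup q (Subgroup.zpowers a) → ∀ r ∈ rp p Y, ∃ w ∈ rp p Y ⊓ B1,
      w⁻¹ * r ∈ Subgroup.normalizer ((Subgroup.zpowers a : Subgroup G) : Set G)) :
    rp p Y ≤ X := by
  have hqF : Fact q.Prime := ⟨hq⟩
  set s : Set G := {a | a ∈ A2 ∧ IsPGroup q (Subgroup.zpowers a)} with hs
  set K : Subgroup G := Subgroup.closure s with hK
  have hKA2 : K ≤ A2 := (Subgroup.closure_le _).mpr (fun a ha => ha.1)
  have hKX : K ≤ X := hKA2.trans S.A2_le_X
  have hXK : X ≤ Subgroup.normalizer (K : Set G) := by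
    apply le_normalizer_closure_of_conj
    intro x hx a ha
    exact ⟨conj_mem (S.X_norm_A2 hx) ha.1, isPGroup_zpowers_conj x ha.2⟩
  have hKne : K ≠ ⊥ := by
    obtain ⟨x, hx⟩ := exists_prime_orderOf_dvd_card' (G := ↥A2) q hdvd
    have hxo : orderOf (x : G) = q := by rw [Subgroup.orderOf_coe]; exact hx
    have hxs : (x : G) ∈ s := by
      refine ⟨x.2, ?_⟩
      apply IsPGroup.of_card (n := 1)
      rw [Nat.card_zpowers, hxo, pow_one]
    have hx1 : (x : G) ≠ 1 := by
      intro h1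
      rw [h1, orderOf_one] at hxo
      exact hq.one_lt.ne hxo
    intro hbot
    have : (x : G) ∈ K := Subgroup.subset_closure hxs
    rw [hbot, Subgroup.mem_bot] at this
    exact hx1 this
  have hRK : rp p Y ≤ Subgroup.normalizer (K : Set G) := by
    apply le_normalizer_closure_of_conj
    intro r hr a ha
    obtain ⟨w, hw, hn⟩ := hFR a ha.1 ha.2 r hr
    have hwB1 : w ∈ B1 := (Subgroup.mem_inf.mp hw).2
    have hc : (w⁻¹ * r) * a * (w⁻¹ * r)⁻¹ ∈ Subgroup.zpowers a :=
      conj_mem hn (Subgroup.mem_zpowers a)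
    set c : G := (w⁻¹ * r) * a * (w⁻¹ * r)⁻¹ with hcdef
    have hcA2 : c ∈ A2 := (Subgroup.zpowers_le.mpr ha.1) hc
    have hcq : IsPGroup q (Subgroup.zpowers c) := ha.2.to_le (Subgroup.zpowers_le.mpr hc)
    have heq : r * a * r⁻¹ = w * c * w⁻¹ := by rw [hcdef]; group
    rw [heq]
    exact ⟨conj_mem (S.B1_norm_A2 hwB1) hcA2, isPGroup_zpowers_conj w hcq⟩
  exact hRK.trans (S.primX K hKX hXK hKne)

end Cfsg.Agent.Lib.Helper89.TWP
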