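import Mathlib

/-!
# S1615 piece P14a (by helper89): no Moore graph of girth 5 whose valency `k` has a prime
`p ∉ {2, 3, 5}` dividing `4 k - 3`

The trace argument of the friendship theorem, over `ZMod p`.
-/

set_option autoImplicit false

namespace Cfsg.Agent.Lib.Helper89.F15

open Matrix

theorem moore_mat {V : Type*} [Fintype V] [DecidableEq V] [Nonempty V] (adj : V → V → Prop)
    [DecidableRel adj] (k : ℕ) (hsymm : ∀ u w, adj u w → adj w u) (hirr : ∀ u, ¬ adj u u)
    (hk : ∀ u, (Finset.univ.filter (fun x => adj u x)).card = k)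
    (h0 : ∀ u w, adj u w → (Finset.univ.filter (fun x => adj u x ∧ adj x w)).card = 0)
    (h1 : ∀ u w, u ≠ w → ¬ adj u w → (Finset.univ.filter (fun x => adj u x ∧ adj x w)).card = 1)
    (p : ℕ) (hp : p.Prime) (hdvd : (p : ℤ) ∣ 4 * (k : ℤ) - 3) (h2 : p ≠ 2) (h3 : p ≠ 3)
    (h5 : p ≠ 5) : False := by
  have : Fact p.Prime := ⟨hp⟩
  obtain ⟨A, hA⟩ : ∃ A : Matrix V V (ZMod p), ∀ u w, A u w = if adj u w then 1 else 0 :=
    ⟨Matrix.of fun u w => if adj u w then 1 else 0, fun u w => rfl⟩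
  obtain ⟨J, hJ⟩ : ∃ J : Matrix V V (ZMod p), ∀ u w, J u w = 1 :=
    ⟨Matrix.of fun _ _ => 1, fun _ _ => rfl⟩
  obtain ⟨κ, hκ⟩ : ∃ κ : ZMod p, κ = (k : ZMod p) := ⟨_, rfl⟩
  obtain ⟨ν, hν⟩ : ∃ ν : ZMod p, ν = (Fintype.card V : ZMod p) := ⟨_, rfl⟩
  -- the relations of the adjacency matrix
  have hAA : A * A = (κ - 1) • (1 : Matrix V V (ZMod p)) + J - A := by
    ext u w
    rw [Matrix.mul_apply]
    have e : ∀ x, A u x * A x w = if adj u x ∧ adj x w then 1 else 0 := by
      intro x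
      rw [hA, hA]
      by_cases h1 : adj u x <;> by_cases h2 : adj x w <;> simp [h1, h2]
    rw [Finset.sum_congr rfl (fun x _ => e x), Finset.sum_boole]
    simp only [Matrix.sub_apply, Matrix.add_apply, Matrix.smul_apply, hJ, hA, smul_eq_mul,
      Matrix.one_apply]
    by_cases huw : u = w
    · subst huw
      have e2 : (Finset.univ.filter (fun x => adj u x ∧ adj x u)) =
          Finset.univ.filter (fun x => adj u x) := by
        apply Finset.filter_congr
        intro x _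
        exact ⟨fun h => h.1, fun h => ⟨h, hsymm _ _ h⟩⟩
      rw [e2, hk u, if_pos rfl, if_neg (hirr u), hκ]
      ring
    · by_cases ha : adj u w
      · rw [h0 u w ha, if_neg huw, if_pos ha]
        simp
      · rw [h1 u w huw ha, if_neg huw, if_neg ha]
        simp
  have hAJ : A * J = κ • J := by
    ext u w
    rw [Matrix.mul_apply]
    simp only [hJ, mul_one, Matrix.smul_apply, smul_eq_mul]
    rw [Finset.sum_congr rfl (fun x _ => hA u x), Finset.sum_boole, hk u, hκ]
  have hJJ : J * J = ν • J := by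
    ext u w
    rw [Matrix.mul_apply]
    simp [hJ, hν]
  have htrA : Matrix.trace A = 0 := by
    rw [Matrix.trace]
    apply Finset.sum_eq_zero
    intro u _
    rw [Matrix.diag_apply, hA, if_neg (hirr u)]
  have htrJ : Matrix.trace J = ν := by
    rw [Matrix.trace]
    simp [hJ, hν]
  -- scalar relations
  have h43 : 4 * κ = 3 := by
    have h : ((4 * (k : ℤ) - 3 : ℤ) : ZMod p) = 0 := (ZMod.intCast_zmod_eq_zero_iff_dvd _ p).2 hdvd
    push_cast at h
    rw [hκ]
    linear_combination h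
  have hκν : κ ^ 2 = ν - 1 := by
    have e1 : A * A * J = (κ ^ 2) • J := by
      rw [mul_assoc, hAJ, Matrix.mul_smul, hAJ, smul_smul, pow_two]
    have e2 : A * A * J = (ν - 1) • J := by
      rw [hAA, sub_mul, add_mul, Matrix.smul_mul, one_mul, hJJ, hAJ]
      module
    have e3 := congrFun (congrFun (e1.symm.trans e2) (Classical.arbitrary V))
      (Classical.arbitrary V)
    simpa [hJ] using e3
  have h16 : 16 * ν = 25 := by linear_combination (-16) * hκν + (4 * κ + 3) * h43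
  -- the matrix `B = 2 A + 1`
  obtain ⟨B, hB⟩ : ∃ B : Matrix V V (ZMod p), B = (2 : ZMod p) • A + 1 := ⟨_, rfl⟩
  have hBB : B * B = (4 : ZMod p) • J := by
    have e : B * B = (4 : ZMod p) • (A * A) + (4 : ZMod p) • A + 1 := by
      rw [hB]
      simp only [add_mul, mul_add, Matrix.smul_mul, Matrix.mul_smul, mul_one, one_mul, smul_smul]
      module
    have e2 : (4 : ZMod p) • ((κ - 1) • (1 : Matrix V V (ZMod p)) + J - A) + (4 : ZMod p) • A + 1 =
        (4 * κ - 3) • (1 : Matrix V V (ZMod p)) + (4 : ZMod p) • J := by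
      module
    rw [e, hAA, e2, h43, sub_self, zero_smul, zero_add]
  have hBJ : B * J = (2 * κ + 1) • J := by
    rw [hB, add_mul, one_mul, Matrix.smul_mul, hAJ]
    module
  have htrB : Matrix.trace B = ν := by
    rw [hB, Matrix.trace_add, Matrix.trace_smul, htrA, Matrix.trace_one, hν]
    simp
  have hJpow : ∀ n : ℕ, J ^ (n + 1) = ν ^ n • J := by
    intro n
    induction n with
    | zero => simp
    | succ n ih => rw [pow_succ, ih, Matrix.smul_mul, hJJ, smul_smul, pow_succ]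
  -- `p = 2 (n + 1) + 1`
  obtain ⟨m, hm⟩ : ∃ m, p = 2 * m + 1 := hp.eq_two_or_odd'.resolve_left h2
  have hm1 : 1 ≤ m := by
    by_contra h
    have hm0 : m = 0 := by omega
    subst hm0
    exact hp.one_lt.ne' (by simpa using hm)
  obtain ⟨n, rfl⟩ : ∃ n, m = n + 1 := ⟨m - 1, by omega⟩
  have hBp : B ^ p = (4 ^ (n + 1) * ν ^ n * (2 * κ + 1)) • J := by
    have e : B ^ p = B ^ (2 * (n + 1) + 1) := congrArg (fun e => B ^ e) hm
    rw [e, pow_succ', pow_mul, pow_two, hBB, smul_pow, hJpow, Matrix.mul_smul, Matrix.mul_smul,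
      hBJ, smul_smul, smul_smul]
  have htr : (4 ^ (n + 1) * ν ^ n * (2 * κ + 1)) * ν = ν := by
    have e1 : Matrix.trace (B ^ p) = (4 ^ (n + 1) * ν ^ n * (2 * κ + 1)) * ν := by
      rw [hBp, Matrix.trace_smul, htrJ, smul_eq_mul]
    have e2 : Matrix.trace (B ^ p) = ν := by
      rw [ZMod.trace_pow_card, htrB, ZMod.pow_card]
    rw [← e1, e2]
  -- Fermat
  have h2ne : (2 : ZMod p) ≠ 0 := by
    intro h
    have h' : ((2 : ℕ) : ZMod p) = 0 := by exact_mod_cast h
    rw [ZMod.natCast_eq_zero_iff] at h'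
    exact h2 ((Nat.prime_dvd_prime_iff_eq hp Nat.prime_two).1 h')
  have h5ne : (5 : ZMod p) ≠ 0 := by
    intro h
    have h' : ((5 : ℕ) : ZMod p) = 0 := by exact_mod_cast h
    rw [ZMod.natCast_eq_zero_iff] at h'
    exact h5 ((Nat.prime_dvd_prime_iff_eq hp Nat.prime_five).1 h')
  have hpm : 2 * (n + 1) = p - 1 := by omega
  have h4m : (4 : ZMod p) ^ (n + 1) = 1 := by
    have e : (4 : ZMod p) = 2 ^ 2 := by norm_num
    rw [e, ← pow_mul, hpm]
    exact ZMod.pow_card_sub_one_eq_one h2ne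
  have h25m : (25 : ZMod p) ^ (n + 1) = 1 := by
    have e : (25 : ZMod p) = 5 ^ 2 := by norm_num
    rw [e, ← pow_mul, hpm]
    exact ZMod.pow_card_sub_one_eq_one h5ne
  have h4ν : (4 * ν) ^ (n + 1) = 1 := by
    have e : (4 * ν) ^ (n + 1) = (4 : ZMod p) ^ (n + 1) * (4 * ν) ^ (n + 1) := by
      rw [h4m, one_mul]
    rw [e, ← mul_pow, show (4 : ZMod p) * (4 * ν) = 25 from by linear_combination h16, h25m]
  have hfin : 2 * κ + 1 = ν := by
    have e : (4 ^ (n + 1) * ν ^ n * (2 * κ + 1)) * ν = (4 * ν) ^ (n + 1) * (2 * κ + 1) := by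
      rw [mul_pow, pow_succ ν n]
      ring
    rw [e, h4ν, one_mul] at htr
    exact htr
  have h15 : ((15 : ℕ) : ZMod p) = 0 := by
    push_cast
    linear_combination (-8) * h43 + 16 * hfin + h16
  rw [ZMod.natCast_eq_zero_iff] at h15
  have h15' : p ∣ 3 * 5 := h15
  rcases (Nat.Prime.dvd_mul hp).1 h15' with h | h
  · exact h3 ((Nat.prime_dvd_prime_iff_eq hp Nat.prime_three).1 h)
  · exact h5 ((Nat.prime_dvd_prime_iff_eq hp Nat.prime_five).1 h)

end Cfsg.Agent.Lib.Helper89.F15
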