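import Cfsg.Agent.Lib.Helper4.TPDefs

/-!
Project TP (S4033, helper4), piece SOLVB (helper89): a nontrivial normal `r`-subgroup of
`G ⧸ center G` gives a normal `r`-subgroup of `G` which is not central.
-/

set_option autoImplicit false

namespace Cfsg.Agent.Lib.Helper4.TP

universe u

theorem solvb : SolvBStmt.{u} := by
  intro G _ _ r hr R hRn hRne hRp
  have hfact : Fact r.Prime := ⟨hr⟩
  obtain ⟨π, hπdef⟩ : ∃ π : G →* G ⧸ Subgroup.center G,
      π = QuotientGroup.mk' (Subgroup.center G) := ⟨_, rfl⟩
  have hπ : Function.Surjective π := by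
    rw [hπdef]
    exact QuotientGroup.mk'_surjective _
  have hπker : π.ker = Subgroup.center G := by
    rw [hπdef]
    exact QuotientGroup.ker_mk' _
  obtain ⟨R0, hR0def⟩ : ∃ R0 : Subgroup G, R0 = R.comap π := ⟨_, rfl⟩
  have hR0n : R0.Normal := by
    rw [hR0def]
    exact hRn.comap π
  -- `R0` is nilpotent
  have hnil : Group.IsNilpotent ↥R0 := by
    subst hR0def
    have hRnil : Group.IsNilpotent ↥R := hRp.isNilpotent
    apply Subgroup.isNilpotent_of_ker_le_center (π.subgroupComap R)
    intro x hx
    rw [MonoidHom.mem_ker] at hx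
    have hx1 : π (x : G) = 1 := by
      have h := congrArg Subtype.val hx
      exact h
    have hxZ : (x : G) ∈ Subgroup.center G := by
      have hk : (x : G) ∈ π.ker := MonoidHom.mem_ker.mpr hx1
      rw [hπker] at hk
      exact hk
    rw [Subgroup.mem_center_iff]
    intro y
    apply Subtype.ext
    exact Subgroup.mem_center_iff.mp hxZ (y : G)
  obtain ⟨P⟩ : Nonempty (Sylow r ↥R0) := inferInstance
  have hPn : (P : Subgroup ↥R0).Normal := inferInstance
  have hPc : (P : Subgroup ↥R0).Characteristic := Sylow.characteristic_of_normal P hPn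
  refine ⟨(P : Subgroup ↥R0).map R0.subtype, inferInstance, ?_, ?_⟩
  · exact P.isPGroup'.map R0.subtype
  · intro hle
    have hPZ : (P : Subgroup ↥R0) ≤ (Subgroup.center G).subgroupOf R0 := by
      intro x hx
      rw [Subgroup.mem_subgroupOf]
      exact hle (Subgroup.mem_map_of_mem R0.subtype hx)
    have hdvd : ((Subgroup.center G).subgroupOf R0).index ∣ (P : Subgroup ↥R0).index :=
      Subgroup.index_dvd_of_le hPZ
    have hnd : ¬ r ∣ (P : Subgroup ↥R0).index := P.not_dvd_index
    have h1 : ((⊥ : Subgroup (G ⧸ Subgroup.center G)).comap π).relIndex R0 = Nat.card R := by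
      rw [Subgroup.relIndex_comap, hR0def, Subgroup.map_comap_eq_self_of_surjective hπ,
        Subgroup.relIndex_bot_left]
    have h2 : (⊥ : Subgroup (G ⧸ Subgroup.center G)).comap π = Subgroup.center G := by
      rw [MonoidHom.comap_bot]
      exact hπker
    rw [h2] at h1
    have hrel : ((Subgroup.center G).subgroupOf R0).index = Nat.card R := h1
    have hr_dvd : r ∣ Nat.card R := by
      rcases hRp.card_eq_or_dvd with h3 | h3
      · exact absurd (Subgroup.card_eq_one.mp h3) hRne
      · exact h3
    rw [hrel] at hdvd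
    exact hnd (dvd_trans hr_dvd hdvd)

end Cfsg.Agent.Lib.Helper4.TP
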