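import Cfsg.Agent.Lib.Helper89.WCtlCenter
import Cfsg.Agent.Lib.Helper88.HFreeC

/-!
# Control of weak closure of elements, `H`-free version

The same skeleton as `WCtlLocal` / `WCtlMain`, for a saturated fusion system `F` that is
`H`-free (`F.IsSectionFree p H`): the local hypothesis `LocOKH` is only required for finite
groups `L` in which `H` is not involved.  (`H`-freeness passes to normalizer systems of fully
normalized subgroups by `Cfsg.Agent.Lib.Helper88.sectionFree_normalizer`.)
-/

set_option autoImplicit false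
universe u v

namespace Cfsg.Agent.Lib.Helper89.WCtl

open Cfsg Cfsg.FusionSystem Cfsg.Agent.Lib.Helper90 Cfsg.Agent.Lib.Helper91
  Cfsg.Agent.Lib.Helper88

/-- The local hypothesis on the element `x` of `Z(S)`, restricted to finite groups `L` in which
`H` is not involved. -/
def LocOKH (p : ℕ) (W : ∀ (Q : Type u) [Group Q], Subgroup Q) (H : Type v) [Group H]
    {Ω : Type u} [Group Ω] (S : Subgroup Ω) (x : Ω) : Prop :=
  ∀ (R : Subgroup Ω), R ≤ S → centralizerIn S S ≤ R → ∀ (hx : x ∈ R)
    (L : Type u) [Group L] [Finite L] (ι : ↥R →* L), Function.Injective ι →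
    ∀ T : Sylow p L, (T : Subgroup L) = ι.range →
    Subgroup.centralizer ((pCore p L : Subgroup L) : Set L) ≤ pCore p L →
    ¬ Involves H L →
    (∀ g ∈ Subgroup.normalizer ((wOf W (T : Subgroup L) : Subgroup L) : Set L),
      g * ι ⟨x, hx⟩ * g⁻¹ = ι ⟨x, hx⟩) →
    ∀ g : L, g * ι ⟨x, hx⟩ * g⁻¹ = ι ⟨x, hx⟩

variable {W : ∀ (Q : Type u) [Group Q], Subgroup Q} {p : ℕ}
  {Ω : Type u} [Group Ω]

theorem locOKH_mono {H : Type v} [Group H] {S S' : Subgroup Ω} {x : Ω} (hS' : S' ≤ S)
    (hZ : centralizerIn S S ≤ centralizerIn S' S') (h : LocOKH p W H S x) :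
    LocOKH p W H S' x := by
  intro R hR hZR
  exact h R (hR.trans hS') (hZ.trans hZR)

theorem locOKH_of_locOK {H : Type v} [Group H] {S : Subgroup Ω} {x : Ω}
    (h : LocOK p W S x) : LocOKH p W H S x := by
  intro R hR hZR hx L _ _ ι hι T hT hcore _
  exact h R hR hZR hx L ι hι T hT hcore

/-- Models exist (the model theorem `S5090`). -/
theorem hasModels [Fact p.Prime] : HasModels p Ω :=
  fun _ _ hT 𝒩 h𝒩 => Cfsg.Agent.S5090.result p hT 𝒩 h𝒩

section local_step

variable {S : Subgroup Ω} {F : FusionSystem S}

theorem aut_fix_of_local_free [Finite S] [Fact p.Prime] (hW2 : FunctorIso p W)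
    (hWZ : FunctorZ p W) {H : Type v} [Group H] (hfree : F.IsSectionFree p H)
    (hS : IsPGroup p S) (hF : F.IsSaturated p) {P : Subgroup Ω}
    (hfa : F.IsFullyAutomized p P) (hrec : F.IsReceptive P) (hc : centralizerIn S P ≤ P)
    {x : Ω} (hxZ : x ∈ centralizerIn S S) (hloc : LocOKH p W H S x)
    (hK : AutW W F (normalizerIn S P) x) :
    ∀ f : Ω → Ω, Mor F P f → (∀ y ∈ P, f y ∈ P) → f x = x := by
  have hPS : P ≤ S := hfa.1
  have hRS : normalizerIn S P ≤ S := inf_le_left
  haveI : Finite (normalizerIn S P) := finite_of_le hRS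
  have hfn : F.IsFullyNormalized P := fullyNormalized_of_fa_rec hS hfa hrec
  have hcen : F.IsCentric P := centric_of_rec hrec hc
  have hE : F.IsNormalizerSystem P (normalizerSys F P hPS) :=
    normalizerSys_isNormalizerSystem hPS
  have hEsat : (normalizerSys F P hPS).IsSaturated p :=
    Cfsg.Agent.S5098.result p hS F hF P hfn _ hE
  have hEn : (normalizerSys F P hPS).IsNormal P :=
    Cfsg.Agent.S5126.normal_in_normalizer F P hPS _ hE
  have hEc : (normalizerSys F P hPS).IsCentric P :=
    Cfsg.Agent.S5126.centric_in_normalizer F P hcen _ hE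
  have hRp : IsPGroup p (normalizerIn S P) := hS.to_le hRS
  obtain ⟨L, instL, ι, hM⟩ :=
    Cfsg.Agent.S5090.result p hRp (normalizerSys F P hPS) ⟨hEsat, P, hEn, hEc⟩
  have hinv : ¬ Involves H L := hfree P hfn hcen _ hE L ι hM
  obtain ⟨hfin, hreal, ⟨T, hT⟩, hcore⟩ := hM
  intro f hf hfP
  have hxS : x ∈ S := hxZ.1
  have hxP : x ∈ P := hc ⟨hxS, mem_centralizer_of_le hPS hxZ⟩
  have hPR : P ≤ normalizerIn S P := le_normalizerIn hPS
  have hxR : x ∈ normalizerIn S P := hPR hxP
  have hZR : centralizerIn S S ≤ normalizerIn S P := fun z hz =>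
    hPR (hc ⟨hz.1, mem_centralizer_of_le hPS hz⟩)
  have hfE : Mor (normalizerSys F P hPS) P f :=
    (mor_normalizerSys_iff hPS).2
      ⟨hf, hPR, fun y hy => hPR (hfP y hy), extQ_of_le le_rfl hf hfP⟩
  obtain ⟨g, hg⟩ := Cfsg.Agent.Lib.Helper91.exists_conj_of_mor hreal hfE
  have key := hloc (normalizerIn S P) hRS hZR hxR L ι hreal.1 T hT hcore hinv ?_ g
  · have h1 := hg x hxP
    rw [aFun_apply' ι hxR, key] at h1
    exact Cfsg.Agent.Lib.Helper91.aFun_injOn hreal.1 (hPR (hfP x hxP)) hxR (h1.trans (aFun_apply' ι hxR).symm)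
  · intro n hn
    -- the isomorphism of `N_S(P)` onto the Sylow subgroup `T`
    have hmemT : ∀ y : ↥(normalizerIn S P), ι y ∈ (T : Subgroup L) := fun y => by
      rw [hT]
      exact ⟨y, rfl⟩
    have hbij : Function.Bijective (ι.codRestrict (T : Subgroup L) hmemT) := by
      constructor
      · intro a b hab
        exact hreal.1 (congrArg Subtype.val hab)
      · rintro ⟨t, ht⟩
        have ht' : t ∈ ι.range := hT ▸ ht
        obtain ⟨y, rfl⟩ := ht'
        exact ⟨y, rfl⟩
    have hwT : ∀ (y : Ω) (hy : y ∈ normalizerIn S P),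
        y ∈ wOf W (normalizerIn S P) ↔ ι ⟨y, hy⟩ ∈ wOf W (T : Subgroup L) := fun y hy =>
      wOf_equiv W hW2 hRp (MulEquiv.ofBijective _ hbij) ⟨y, hy⟩
    have hVR : wOf W (normalizerIn S P) ≤ normalizerIn S P := wOf_le W _
    have hnV : ∀ y (hy : y ∈ wOf W (normalizerIn S P)),
        n * ι ⟨y, hVR hy⟩ * n⁻¹ ∈ wOf W (T : Subgroup L) := fun y hy =>
      (Subgroup.mem_normalizer_iff.1 hn _).1 ((hwT y (hVR hy)).1 hy)
    have hconj : ∀ y ∈ wOf W (normalizerIn S P), n * aFun ι y * n⁻¹ ∈ ι.range := by
      intro y hy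
      rw [aFun_apply' ι (hVR hy), ← hT]
      exact wOf_le W _ (hnV y hy)
    obtain ⟨ψ, hψ, hψc⟩ := Cfsg.Agent.Lib.Helper91.exists_mor_of_conj hreal hVR n hconj
    have hψF : Mor F (wOf W (normalizerIn S P)) ψ := mor_of_normalizerSys hPS hE hψ
    have hψV : ∀ y ∈ wOf W (normalizerIn S P), ψ y ∈ wOf W (normalizerIn S P) := by
      intro y hy
      have hψR : ψ y ∈ normalizerIn S P := hψ.mem hy
      rw [hwT _ hψR, ← aFun_apply' ι hψR, hψc y hy, aFun_apply' ι (hVR hy)]
      exact hnV y hy
    have hxV : x ∈ wOf W (normalizerIn S P) :=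
      wOf_center W hWZ hRp hxR (mem_centralizer_of_le hRS hxZ)
    have h2 := hK ψ hψF hψV
    have h3 := hψc x hxV
    rw [h2, aFun_apply' ι hxR] at h3
    exact h3.symm


end local_step

/-- Automorphisms of a normal centric subgroup `U` of `S` fix `x`. -/
theorem aut_fix_of_normal_centric_free {S : Subgroup Ω} {F : FusionSystem S} [Finite S]
    [Fact p.Prime] (hW2 : FunctorIso p W) (hWZ : FunctorZ p W)
    {H : Type v} [Group H] (hfree : F.IsSectionFree p H)
    (hS : IsPGroup p S) (hF : F.IsSaturated p) {x : Ω} (hxZ : x ∈ centralizerIn S S)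
    (hloc : LocOKH p W H S x) (hA : AutW W F S x) {U : Subgroup Ω} (hUS : U ≤ S)
    (hUn : S ≤ Subgroup.normalizer (U : Set Ω)) (hUc : centralizerIn S U ≤ U) :
    ∀ χ : Ω → Ω, Mor F U χ → (∀ y ∈ U, χ y ∈ U) → χ x = x := by
  obtain ⟨U', hconj, hfa, hrec⟩ := hF U hUS
  obtain ⟨c, hc, hcimg⟩ := isConj_iff.1 hconj
  obtain ⟨θ, hθ, rfl⟩ := exists_normalizer_map hS hfa hrec hc hcimg
  have hNU : normalizerIn S U = S := inf_eq_left.2 hUn
  rw [hNU] at hθ
  have hθS : ∀ y ∈ S, θ y ∈ S := fun y hy => hθ.mem hy
  have hsurj := hθ.surj_of_finite hθS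
  have hxS : x ∈ S := hxZ.1
  have hθx : θ x = x :=
    hA θ (hθ.restrict (wOf_le W S)) (wOf_mor_self W hW2 hS hθ hθS)
  have hxU : x ∈ U := hUc ⟨hxS, mem_centralizer_of_le hUS hxZ⟩
  have hU'S : img U θ ≤ S := hfa.1
  have hθU : Mor F U θ := hθ.restrict hUS
  have hU'c : centralizerIn S (img U θ) ≤ img U θ := by
    intro c' hc'
    obtain ⟨d, hd, rfl⟩ := hsurj c' hc'.1
    have hdU : d ∈ U := by
      apply hUc
      refine ⟨hd, ?_⟩
      show d ∈ Subgroup.centralizer (U : Set Ω)
      rw [Subgroup.mem_centralizer_iff]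
      intro u hu
      apply hθ.inj (S.mul_mem (hUS hu) hd) (S.mul_mem hd (hUS hu))
      rw [hθ.map_mul (hUS hu) hd, hθ.map_mul hd (hUS hu)]
      exact Subgroup.mem_centralizer_iff.1 hc'.2 (θ u) (hθU.mem_img_of_mem hu)
    exact hθU.mem_img_of_mem hdU
  have hNU' : normalizerIn S (img U θ) = S := by
    apply inf_eq_left.2
    intro a ha
    have : Finite (img U θ) := finite_of_le hU'S
    apply mem_normalizer_of_finite
    intro y hy
    obtain ⟨b, hb, rfl⟩ := hsurj a ha
    obtain ⟨u, hu, rfl⟩ := hθU.mem_img.1 hy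
    have h1 : θ b * θ u * (θ b)⁻¹ = θ (b * u * b⁻¹) := by
      rw [hθ.map_mul (S.mul_mem hb (hUS hu)) (S.inv_mem hb), hθ.map_mul hb (hUS hu),
        hθ.map_inv hb]
    rw [h1]
    exact hθU.mem_img_of_mem (conj_mem_of_mem_normalizer (hUn hb) hu)
  have hK : AutW W F (normalizerIn S (img U θ)) x := by
    rw [hNU']
    exact hA
  exact fix_of_conj hθ hUS hxU hθx
    (aut_fix_of_local_free hW2 hWZ hfree hS hF hfa hrec hU'c hxZ hloc hK)

/-- The skeleton theorem. -/
theorem wctl_fix_free [Fact p.Prime] (hW2 : FunctorIso p W) (hWZ : FunctorZ p W)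
    {H : Type v} [Group H] (x : Ω) :
    ∀ (n : ℕ) (S : Subgroup Ω) [Finite S] (F : FusionSystem S), Nat.card S = n →
      IsPGroup p S → F.IsSaturated p → F.IsSectionFree p H → x ∈ centralizerIn S S →
      LocOKH p W H S x → AutW W F S x → FixAll F x := by
  intro n
  induction n using Nat.strong_induction_on with
  | _ n IH =>
  intro S _ F hn hS hF hfree hxZ hloc hA
  have hxS : x ∈ S := hxZ.1
  have hgood : ∀ (P : Subgroup Ω) (f : Ω → Ω), Mor F P f → ∀ y ∈ P, (f y = x ↔ y = x) := by
    refine alperin_induction_card hS hF (fun P f => ∀ y ∈ P, (f y = x ↔ y = x))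
      ?_ ?_ ?_ ?_ ?_
    · intro P f g h hfg y hy
      rw [← hfg y hy]
      exact h y hy
    · intro P P₀ f _ h h0 y hy
      exact h y (h0 hy)
    · intro P Q f g _ _ hPQ hf hg y hy
      show g (f y) = x ↔ y = x
      rw [hg _ (hPQ y hy), hf y hy]
    · intro P f hf h z hz
      obtain ⟨y, hy, rfl⟩ := hf.mem_img.1 hz
      rw [hf.invFn_apply hy]
      exact (h y hy).symm
    · intro P hfa hrec IHA f hf hfP
      have hPS : P ≤ S := hfa.1
      have : Finite P := finite_of_le hPS
      by_cases hxP : x ∈ P
      swap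
      · intro y hy
        constructor
        · intro h
          exact absurd (h ▸ hfP y hy) hxP
        · intro h
          exact absurd (h ▸ hy) hxP
      suffices hfx : f x = x by
        intro y hy
        constructor
        · intro h
          exact hf.inj hy hxP (h.trans hfx.symm)
        · intro h
          rw [h]
          exact hfx
      by_cases hc : centralizerIn S P ≤ P
      swap
      · -- `P` is not centric: extend `f`
        have himg : img P f = P := hf.img_eq_self hfP
        obtain ⟨f', hf', hf'eq⟩ := receptive_extend' hrec hf himg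
        have hlt : P < extFn S P f := by
          refine lt_of_le_of_ne hf.le_extFn (fun h => hc ?_)
          have h1 : centralizerIn S P ≤ extFn S P f := hf.centralizerIn_le_extFn
          rwa [← h] at h1
        have : Finite (extFn S P f) := finite_of_le hf'.le
        have hg : ∀ y ∈ extFn S P f, (f' y = x ↔ y = x) :=
          IHA _ f' (card_lt_of_lt hlt) hf'
        rw [← hf'eq x hxP]
        exact (hg x (hf.le_extFn hxP)).2 rfl
      -- `P` is centric: the local step, for which we need `K(N_S(P))`
      have hKall : ∀ (m : ℕ) (T : Subgroup Ω), T ≤ S → x ∈ T →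
          (Nat.card P < Nat.card T ∨ T = S) → Nat.card S - Nat.card T = m → AutW W F T x := by
        intro m
        induction m using Nat.strong_induction_on with
        | _ m IHK =>
        intro T hTS hxT hT hm
        by_cases hTeq : T = S
        · rw [hTeq]
          exact hA
        have hTlt : T < S := lt_of_le_of_ne hTS hTeq
        have hPT : Nat.card P < Nat.card T := hT.resolve_right hTeq
        have : Finite T := finite_of_le hTS
        have hTp : IsPGroup p T := hS.to_le hTS
        have hVT : wOf W T ≤ T := wOf_le W T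
        have hVS : wOf W T ≤ S := hVT.trans hTS
        have hNT : T < normalizerIn S T := lt_normalizerIn hS hTlt
        have hNV : normalizerIn S T ≤ normalizerIn S (wOf W T) :=
          normalizerIn_le_wOf W hW2 hS hTS
        have hNVS : normalizerIn S (wOf W T) ≤ S := inf_le_left
        have : Finite (normalizerIn S (wOf W T)) := finite_of_le hNVS
        have : Finite (normalizerIn S T) := finite_of_le inf_le_left
        have hc1 : Nat.card T < Nat.card (normalizerIn S T) := card_lt_of_lt hNT
        have hc2 : Nat.card (normalizerIn S T) ≤ Nat.card (normalizerIn S (wOf W T)) :=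
          Subgroup.card_le_of_le hNV
        obtain ⟨V', hconj, hfaV, hrecV⟩ := hF (wOf W T) hVS
        obtain ⟨c, hc', hcimg⟩ := isConj_iff.1 hconj
        obtain ⟨θ, hθ, hθimg⟩ := exists_normalizer_map hS hfaV hrecV hc' hcimg
        have hθgood : ∀ y ∈ normalizerIn S (wOf W T), (θ y = x ↔ y = x) :=
          IHA _ θ (by omega) hθ
        have hxN : x ∈ normalizerIn S (wOf W T) := hNV (hNT.le hxT)
        have hθx : θ x = x := (hθgood x hxN).2 rfl
        have hxV : x ∈ wOf W T :=
          wOf_center W hWZ hTp hxT (mem_centralizer_of_le hTS hxZ)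
        have hVN : wOf W T ≤ normalizerIn S (wOf W T) := le_normalizerIn hVS
        refine fix_of_conj hθ hVN hxV hθx ?_
        rw [hθimg]
        intro ψ' hψ' hψ'V
        have hV'S : V' ≤ S := hfaV.1
        have hxV' : x ∈ V' := by
          have h1 := (hθ.restrict hVN).mem_img_of_mem hxV
          rwa [hθimg, hθx] at h1
        have hcS' : Nat.card (normalizerIn S (wOf W T)) ≤ Nat.card (normalizerIn S V') := by
          refine card_le_of_mor_into hθ inf_le_left (fun a ha => ?_)
          have := hθ.map_normalizerIn hVN ha ha.2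
          rwa [hθimg] at this
        have : Finite V' := finite_of_le hV'S
        by_cases hS' : normalizerIn S V' = S
        · -- `V'` is normal in `S`
          have hV'n : S ≤ Subgroup.normalizer (V' : Set Ω) := by
            intro s hs
            have h : s ∈ normalizerIn S V' := by rw [hS']; exact hs
            exact h.2
          have himg' : img V' ψ' = V' := hψ'.img_eq_self hψ'V
          obtain ⟨ψ₂, hψ₂, hψ₂eq⟩ := receptive_extend' hrecV hψ' himg'
          have hUle : V' ⊔ centralizerIn S V' ≤ extFn S V' ψ' :=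
            sup_le hψ'.le_extFn hψ'.centralizerIn_le_extFn
          have hψ₂U : Mor F (V' ⊔ centralizerIn S V') ψ₂ := hψ₂.restrict hUle
          have himg₂ : img V' ψ₂ = V' := by
            rw [img_congr hψ₂eq]
            exact himg'
          have hUU : ∀ z ∈ V' ⊔ centralizerIn S V', ψ₂ z ∈ V' ⊔ centralizerIn S V' := by
            refine hψ₂U.map_sup_le (fun y hy => by rw [hψ₂eq y hy]; exact hψ'V y hy)
              (fun c hc => ?_)
            have := map_centralizerIn hψ₂U (le_sup_left : V' ≤ V' ⊔ centralizerIn S V')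
              (le_sup_right (a := V') hc) hc.2
            rwa [himg₂] at this
          have hUS : V' ⊔ centralizerIn S V' ≤ S := hψ₂U.le
          have hUn := normalizer_sup_centralizer hV'S hV'n
          have hUc : centralizerIn S (V' ⊔ centralizerIn S V') ≤ V' ⊔ centralizerIn S V' := by
            intro z hz
            exact Subgroup.mem_sup_right
              ⟨hz.1, Subgroup.centralizer_le (fun y hy => Subgroup.mem_sup_left hy) hz.2⟩
          have h1 := aut_fix_of_normal_centric_free hW2 hWZ hfree hS hF hxZ hloc hA hUS hUn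
            hUc ψ₂ hψ₂U hUU
          rw [← hψ₂eq x hxV']
          exact h1
        · -- `N_S(V') < S`: induction on `|S|`
          have hS'lt : normalizerIn S V' < S := lt_of_le_of_ne inf_le_left hS'
          have : Finite (normalizerIn S V') := finite_of_le inf_le_left
          have hS'p : IsPGroup p (normalizerIn S V') := hS.to_le inf_le_left
          have hfnV : F.IsFullyNormalized V' := fullyNormalized_of_fa_rec hS hfaV hrecV
          have hE : F.IsNormalizerSystem V' (normalizerSys F V' hV'S) :=
            normalizerSys_isNormalizerSystem hV'S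
          have hEsat := Cfsg.Agent.S5098.result p hS F hF V' hfnV _ hE
          have hxS' : x ∈ normalizerIn S V' := le_normalizerIn hV'S hxV'
          have hxZ' : x ∈ centralizerIn (normalizerIn S V') (normalizerIn S V') :=
            ⟨hxS', mem_centralizer_of_le inf_le_left hxZ⟩
          have hZZ : centralizerIn S S ≤
              centralizerIn (normalizerIn S V') (normalizerIn S V') := by
            intro z hz
            refine ⟨⟨hz.1, ?_⟩, mem_centralizer_of_le inf_le_left hz⟩
            apply mem_normalizer_of_finite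
            intro v hv
            have h1 := Subgroup.mem_centralizer_iff.1 hz.2 v (hV'S hv)
            rw [← h1, mul_inv_cancel_right]
            exact hv
          have hloc' : LocOKH p W H (normalizerIn S V') x :=
            locOKH_mono inf_le_left hZZ hloc
          have hfree' : (normalizerSys F V' hV'S).IsSectionFree p H :=
            sectionFree_normalizer hS hF hasModels hfree hfnV _ hE
          have hcardS' : Nat.card (normalizerIn S V') < Nat.card S := card_lt_of_lt hS'lt
          have hA' : AutW W (normalizerSys F V' hV'S) (normalizerIn S V') x := by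
            intro ψ hψ hψW
            exact IHK (Nat.card S - Nat.card (normalizerIn S V')) (by omega)
              (normalizerIn S V') inf_le_left hxS' (Or.inl (by omega)) rfl ψ
              (mor_of_normalizerSys hV'S hE hψ) hψW
          have hfix := IH (Nat.card (normalizerIn S V')) (by rw [← hn]; exact hcardS')
            (normalizerIn S V') (normalizerSys F V' hV'S) rfl hS'p hEsat hfree' hxZ' hloc' hA'
          have hψ'E : Mor (normalizerSys F V' hV'S) V' ψ' :=
            (mor_normalizerSys_iff hV'S).2
              ⟨hψ', le_normalizerIn hV'S, fun y hy => le_normalizerIn hV'S (hψ'V y hy),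
                extQ_of_le le_rfl hψ' hψ'V⟩
          exact hfix V' ψ' hψ'E hxV'
      refine aut_fix_of_local_free hW2 hWZ hfree hS hF hfa hrec hc hxZ hloc ?_ f hf hfP
      have hPR : P ≤ normalizerIn S P := le_normalizerIn hPS
      by_cases hPeq : P = S
      · have hN : normalizerIn S P = S := by
          rw [hPeq]
          exact inf_eq_left.2 Subgroup.le_normalizer
        rw [hN]
        exact hA
      · have hPlt : P < S := lt_of_le_of_ne hPS hPeq
        have : Finite (normalizerIn S P) := finite_of_le inf_le_left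
        exact hKall _ (normalizerIn S P) inf_le_left (hPR hxP)
          (Or.inl (card_lt_of_lt (lt_normalizerIn hS hPlt))) rfl
  intro P f hf hxP
  exact (hgood P f hf x hxP).2 rfl


/-- An element of the centre of `N_F(W(S))` satisfying the (`H`-free) local hypothesis is in
the centre of the `H`-free saturated system `F`. -/
theorem mem_center_of_mem_normalizer_center_free [Fact p.Prime] (hW2 : FunctorIso p W)
    (hWZ : FunctorZ p W) {H : Type v} [Group H] {S : Subgroup Ω} [Finite S]
    (hS : IsPGroup p S) (F : FusionSystem S)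
    (hF : F.IsSaturated p) (hfree : F.IsSectionFree p H)
    (N : FusionSystem (normalizerIn S (wOf W S)))
    (hN : F.IsNormalizerSystem (wOf W S) N) {x : Ω} (hx : x ∈ N.center)
    (hloc : LocOKH p W H S x) : x ∈ F.center := by
  have hVS : wOf W S ≤ S := wOf_le W S
  have hNS : normalizerIn S (wOf W S) = S := normalizerIn_wOf_eq hW2 hS
  have hfixN : FixAll N x := fixAll_of_mem_center hx
  have hxN : x ∈ normalizerIn S (wOf W S) := center_le_top N hx
  have hxS : x ∈ S := hxN.1
  have hxZ : x ∈ centralizerIn S S := by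
    refine ⟨hxS, ?_⟩
    show x ∈ Subgroup.centralizer (S : Set Ω)
    rw [Subgroup.mem_centralizer_iff]
    intro s hs
    have hsN : s ∈ normalizerIn S (wOf W S) := by rw [hNS]; exact hs
    have h1 : s * x * s⁻¹ = x := hfixN _ _ (mor_conj N le_rfl hsN) hxN
    calc s * x = s * x * s⁻¹ * s := by group
      _ = x * s := by rw [h1]
  have hA : AutW W F S x := by
    intro ψ hψ hψV
    have hψN : Mor N (wOf W S) ψ :=
      (isNormalizerSystem_mor_iff hVS hN).2
        ⟨hψ, le_normalizerIn hVS, fun y hy => le_normalizerIn hVS (hψV y hy),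
          extQ_of_le le_rfl hψ hψV⟩
    exact hfixN _ _ hψN (wOf_center W hWZ hS hxS hxZ.2)
  exact mem_center_of_fixAll hS hF hxS
    (wctl_fix_free hW2 hWZ x (Nat.card S) S F rfl hS hF hfree hxZ hloc hA)

end Cfsg.Agent.Lib.Helper89.WCtl
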