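import Mathlib

/-!
# S1615 piece P16a (by helper89): two distinct braided involutions generate `S₃`
-/

set_option autoImplicit false
set_option linter.unusedSimpArgs false

namespace Cfsg.Agent.Lib.Helper89.F15

variable {G : Type*} [Group G]

theorem s3_perm_gen : ∀ x y : Equiv.Perm (Fin 3), x * x = 1 → y * y = 1 → x ≠ 1 → y ≠ 1 →
    x ≠ y → ∀ z : Equiv.Perm (Fin 3),
      z = 1 ∨ z = x ∨ z = y ∨ z = x * y ∨ z = y * x ∨ z = x * y * x := by
  decide

/-- The labelling of the three involutions. -/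
def s3Lab (a b : G) (i : Fin 3) : G := if i = 0 then a else if i = 1 then b else a * b * a

theorem s3_iso {a b : G} (haa : a * a = 1) (hbb : b * b = 1) (hbr : a * b * a = b * a * b)
    (hne : a ≠ b) {S : Set G} (hS : S = {a, b, a * b * a}) :
    Nonempty (↥(Subgroup.closure S) ≃* Equiv.Perm (Fin 3)) := by
  classical
  subst hS
  have hai : a⁻¹ = a := inv_eq_of_mul_eq_one_right haa
  have hbi : b⁻¹ = b := inv_eq_of_mul_eq_one_right hbb
  have haa2 : ∀ x, a * (a * x) = x := fun x => by rw [← mul_assoc, haa, one_mul]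
  have hbb2 : ∀ x, b * (b * x) = x := fun x => by rw [← mul_assoc, hbb, one_mul]
  have hbr1 : a * (b * a) = b * (a * b) := by rw [← mul_assoc, hbr, mul_assoc]
  have hbr2 : ∀ x, a * (b * (a * x)) = b * (a * (b * x)) := fun x => by
    rw [← mul_assoc, ← mul_assoc, hbr, mul_assoc, mul_assoc]
  have hcc : (a * b * a) * (a * b * a) = 1 := by
    simp only [mul_assoc, haa2, hbb2, hbb, hbr1]
  have hci : (a * b * a)⁻¹ = a * b * a := inv_eq_of_mul_eq_one_right hcc
  have hab1 : a * b ≠ 1 := by
    intro h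
    have : a⁻¹ = b := inv_eq_of_mul_eq_one_right h
    exact hne (hai.symm.trans this)
  have hba1 : b * a ≠ 1 := by
    intro h
    have : b⁻¹ = a := inv_eq_of_mul_eq_one_right h
    exact hne (this.symm.trans hbi)
  -- the labelling is injective
  have e0 : s3Lab a b 0 = a := rfl
  have e1 : s3Lab a b 1 = b := rfl
  have e2 : s3Lab a b 2 = a * b * a := rfl
  have h02 : a ≠ a * b * a := by
    intro h
    apply hba1
    have h' : a * 1 = a * (b * a) := by rw [mul_one, ← mul_assoc]; exact h
    exact (mul_left_cancel h').symm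
  have h12 : b ≠ a * b * a := by
    intro h
    apply hab1
    rw [hbr] at h
    have h' : b * 1 = b * (a * b) := by rw [mul_one, ← mul_assoc]; exact h
    exact (mul_left_cancel h').symm
  have hinj : Function.Injective (s3Lab a b) := by
    intro i j hij
    fin_cases i <;> fin_cases j
    · rfl
    · exact absurd hij hne
    · exact absurd hij h02
    · exact absurd hij.symm hne
    · rfl
    · exact absurd hij h12
    · exact absurd hij.symm h02
    · exact absurd hij.symm h12
    · rfl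
  -- every element of the closure permutes the three involutions
  have hex : ∀ h ∈ Subgroup.closure ({a, b, a * b * a} : Set G),
      ∃ σ : Equiv.Perm (Fin 3), ∀ i, h * s3Lab a b i * h⁻¹ = s3Lab a b (σ i) := by
    intro h hh
    induction hh using Subgroup.closure_induction with
    | mem x hx =>
      rcases hx with rfl | rfl | rfl
      · refine ⟨Equiv.swap 1 2, fun i => ?_⟩
        rw [hai]
        fin_cases i
        · show x * s3Lab x b 0 * x = s3Lab x b (Equiv.swap 1 2 0)
          rw [show Equiv.swap (1 : Fin 3) 2 0 = 0 from by decide, e0]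
          simp only [mul_assoc, haa2, haa, mul_one, one_mul]
        · show x * s3Lab x b 1 * x = s3Lab x b (Equiv.swap 1 2 1)
          rw [show Equiv.swap (1 : Fin 3) 2 1 = 2 from by decide, e1, e2]
        · show x * s3Lab x b 2 * x = s3Lab x b (Equiv.swap 1 2 2)
          rw [show Equiv.swap (1 : Fin 3) 2 2 = 1 from by decide, e1, e2]
          simp only [mul_assoc, haa2, haa, mul_one, one_mul]
      · refine ⟨Equiv.swap 0 2, fun i => ?_⟩
        rw [hbi]
        fin_cases i
        · show x * s3Lab a x 0 * x = s3Lab a x (Equiv.swap 0 2 0)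
          rw [show Equiv.swap (0 : Fin 3) 2 0 = 2 from by decide, e0, e2, hbr]
        · show x * s3Lab a x 1 * x = s3Lab a x (Equiv.swap 0 2 1)
          rw [show Equiv.swap (0 : Fin 3) 2 1 = 1 from by decide, e1]
          simp only [mul_assoc, hbb2, hbb, mul_one, one_mul]
        · show x * s3Lab a x 2 * x = s3Lab a x (Equiv.swap 0 2 2)
          rw [show Equiv.swap (0 : Fin 3) 2 2 = 0 from by decide, e0, e2, hbr]
          simp only [mul_assoc, hbb2, hbb, mul_one, one_mul]
      · refine ⟨Equiv.swap 0 1, fun i => ?_⟩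
        rw [hci]
        fin_cases i
        · show a * b * a * s3Lab a b 0 * (a * b * a) = s3Lab a b (Equiv.swap 0 1 0)
          rw [show Equiv.swap (0 : Fin 3) 1 0 = 1 from by decide, e0, e1]
          simp only [mul_assoc, haa2, hbb2, haa, hbb, hbr1, hbr2, mul_one, one_mul]
        · show a * b * a * s3Lab a b 1 * (a * b * a) = s3Lab a b (Equiv.swap 0 1 1)
          rw [show Equiv.swap (0 : Fin 3) 1 1 = 0 from by decide, e0, e1]
          simp only [mul_assoc, haa2, hbb2, haa, hbb, hbr1, hbr2, mul_one, one_mul]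
        · show a * b * a * s3Lab a b 2 * (a * b * a) = s3Lab a b (Equiv.swap 0 1 2)
          rw [show Equiv.swap (0 : Fin 3) 1 2 = 2 from by decide, e2]
          simp only [mul_assoc, haa2, hbb2, haa, hbb, hbr1, hbr2, mul_one, one_mul]
    | one => exact ⟨1, fun i => by simp⟩
    | mul x y _ _ hx hy =>
      obtain ⟨σ, hσ⟩ := hx
      obtain ⟨τ, hτ⟩ := hy
      refine ⟨σ * τ, fun i => ?_⟩
      rw [Equiv.Perm.mul_apply, ← hσ, ← hτ, mul_inv_rev]
      simp only [mul_assoc]
    | inv x _ hx =>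
      obtain ⟨σ, hσ⟩ := hx
      refine ⟨σ⁻¹, fun i => ?_⟩
      have h := hσ (σ⁻¹ i)
      rw [show σ (σ⁻¹ i) = i from σ.apply_symm_apply i] at h
      rw [← h, inv_inv]
      simp only [mul_assoc, inv_mul_cancel_left, inv_mul_cancel, mul_one]
  -- the homomorphism
  have huniq : ∀ (h : G) (σ τ : Equiv.Perm (Fin 3)),
      (∀ i, h * s3Lab a b i * h⁻¹ = s3Lab a b (σ i)) →
      (∀ i, h * s3Lab a b i * h⁻¹ = s3Lab a b (τ i)) → σ = τ := by
    intro h σ τ hσ hτ
    ext i
    exact congrArg Fin.val (hinj ((hσ i).symm.trans (hτ i)))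
  obtain ⟨φ, hφ⟩ : ∃ φ : ↥(Subgroup.closure ({a, b, a * b * a} : Set G)) → Equiv.Perm (Fin 3),
      ∀ (h : ↥(Subgroup.closure ({a, b, a * b * a} : Set G))) (i : Fin 3),
        (h : G) * s3Lab a b i * (h : G)⁻¹ = s3Lab a b (φ h i) :=
    ⟨fun h => Classical.choose (hex h h.2), fun h => Classical.choose_spec (hex h h.2)⟩
  have hmul : ∀ x y, φ (x * y) = φ x * φ y := by
    intro x y
    apply huniq ((x * y : ↥(Subgroup.closure ({a, b, a * b * a} : Set G))) : G) _ _ (hφ (x * y))
    intro i
    rw [Equiv.Perm.mul_apply, ← hφ x, ← hφ y, Subgroup.coe_mul, mul_inv_rev]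
    simp only [mul_assoc]
  obtain ⟨Φ, hΦ⟩ : ∃ Φ : ↥(Subgroup.closure ({a, b, a * b * a} : Set G)) →* Equiv.Perm (Fin 3),
      ∀ h, Φ h = φ h := ⟨MonoidHom.mk' φ hmul, fun _ => rfl⟩
  have haH : a ∈ Subgroup.closure ({a, b, a * b * a} : Set G) :=
    Subgroup.subset_closure (by simp)
  have hbH : b ∈ Subgroup.closure ({a, b, a * b * a} : Set G) :=
    Subgroup.subset_closure (by simp)
  -- the images of `a` and `b`
  have ha0 : Φ ⟨a, haH⟩ 0 = 0 := by
    apply hinj
    rw [hΦ, ← hφ ⟨a, haH⟩ 0, e0]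
    show a * a * a⁻¹ = a
    rw [mul_inv_cancel_right]
  have ha1 : Φ ⟨a, haH⟩ 1 = 2 := by
    apply hinj
    rw [hΦ, ← hφ ⟨a, haH⟩ 1, e1, e2]
    show a * b * a⁻¹ = a * b * a
    rw [hai]
  have hb0 : Φ ⟨b, hbH⟩ 0 = 2 := by
    apply hinj
    rw [hΦ, ← hφ ⟨b, hbH⟩ 0, e0, e2]
    show b * a * b⁻¹ = a * b * a
    rw [hbi, hbr]
  have hxx : Φ ⟨a, haH⟩ * Φ ⟨a, haH⟩ = 1 := by
    rw [← map_mul, ← map_one Φ]
    congr 1
    exact Subtype.ext haa
  have hyy : Φ ⟨b, hbH⟩ * Φ ⟨b, hbH⟩ = 1 := by
    rw [← map_mul, ← map_one Φ]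
    congr 1
    exact Subtype.ext hbb
  have hx1 : Φ ⟨a, haH⟩ ≠ 1 := by
    intro h
    have h' := ha1
    rw [h] at h'
    exact absurd h' (by decide)
  have hy1 : Φ ⟨b, hbH⟩ ≠ 1 := by
    intro h
    have h' := hb0
    rw [h] at h'
    exact absurd h' (by decide)
  have hxy : Φ ⟨a, haH⟩ ≠ Φ ⟨b, hbH⟩ := by
    intro h
    have h' := ha0
    rw [h, hb0] at h'
    exact absurd h' (by decide)
  have hsurj : Function.Surjective Φ := by
    intro z
    rcases s3_perm_gen _ _ hxx hyy hx1 hy1 hxy z with h | h | h | h | h | h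
    · exact ⟨1, by rw [map_one, h]⟩
    · exact ⟨_, h.symm⟩
    · exact ⟨_, h.symm⟩
    · exact ⟨⟨a, haH⟩ * ⟨b, hbH⟩, by rw [map_mul, h]⟩
    · exact ⟨⟨b, hbH⟩ * ⟨a, haH⟩, by rw [map_mul, h]⟩
    · exact ⟨⟨a, haH⟩ * ⟨b, hbH⟩ * ⟨a, haH⟩, by rw [map_mul, map_mul, h]⟩
  -- the closure has at most six elements
  have hU : ∀ x ∈ Subgroup.closure ({a, b, a * b * a} : Set G),
      x = 1 ∨ x = a ∨ x = b ∨ x = a * b ∨ x = b * a ∨ x = a * b * a := by
    have hstep : ∀ g ∈ ({a, b, a * b * a} : Set G), ∀ y : G,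
        (y = 1 ∨ y = a ∨ y = b ∨ y = a * b ∨ y = b * a ∨ y = a * b * a) →
        (g * y = 1 ∨ g * y = a ∨ g * y = b ∨ g * y = a * b ∨ g * y = b * a ∨
          g * y = a * b * a) := by
      intro g hg y hy
      rcases hg with rfl | rfl | rfl <;> rcases hy with rfl | rfl | rfl | rfl | rfl | rfl <;>
        simp [mul_assoc, haa2, hbb2, haa, hbb, hbr1, hbr2]
    intro x hx
    induction hx using Subgroup.closure_induction_left with
    | one => exact Or.inl rfl
    | mul_left g hg y _ ih => exact hstep g hg y ih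
    | inv_mul_cancel g hg y _ ih =>
      have hgi : g⁻¹ = g := by
        rcases hg with rfl | rfl | rfl
        · exact hai
        · exact hbi
        · exact hci
      rw [hgi]
      exact hstep g hg y ih
  have hsub : ((Subgroup.closure ({a, b, a * b * a} : Set G) : Subgroup G) : Set G) ⊆
      ((({1, a, b, a * b, b * a, a * b * a} : Finset G) : Finset G) : Set G) := by
    intro x hx
    simp only [Finset.coe_insert, Finset.coe_singleton, Set.mem_insert_iff, Set.mem_singleton_iff]
    exact hU x hx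
  have hfin : ((Subgroup.closure ({a, b, a * b * a} : Set G) : Subgroup G) : Set G).Finite :=
    Set.Finite.subset (Finset.finite_toSet _) hsub
  have : Finite ↥(Subgroup.closure ({a, b, a * b * a} : Set G)) := hfin.to_subtype
  have hcard : Nat.card ↥(Subgroup.closure ({a, b, a * b * a} : Set G)) ≤ 6 := by
    have h1 : Nat.card ↥(Subgroup.closure ({a, b, a * b * a} : Set G)) =
        ((Subgroup.closure ({a, b, a * b * a} : Set G) : Subgroup G) : Set G).ncard :=
      Nat.card_coe_set_eq _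
    rw [h1]
    refine (Set.ncard_le_ncard hsub (Finset.finite_toSet _)).trans ?_
    rw [Set.ncard_coe_finset]
    exact Finset.card_le_six
  have hcard' : Nat.card (Equiv.Perm (Fin 3)) = 6 := by
    rw [Nat.card_eq_fintype_card, Fintype.card_perm]
    rfl
  have hbij : Function.Bijective Φ := hsurj.bijective_of_nat_card_le (by rw [hcard']; exact hcard)
  exact ⟨MulEquiv.ofBijective Φ hbij⟩

end Cfsg.Agent.Lib.Helper89.F15
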