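import Mathlib
import Cfsg.Agent.Lib.Helper92.FT12Defs
import Cfsg.Agent.S1418
import Cfsg.Agent.S1419

/-!
# FT-PARTA (helper89): assembly of part (a) of B&G Theorem 12.12 (S1421)
-/

set_option autoImplicit false

open Cfsg Cfsg.Agent.Lib.Helper92.FT

namespace Cfsg.Agent.Lib.Helper89.FT12

universe u

/-- primary decomposition: an element all of whose prime divisors lie in `T` is a product of
`T`-primary powers of itself -/
private theorem ft12pa_primary {G : Type u} [Group G] [Finite G] (E : Subgroup G) (T : Set ℕ) :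
    ∀ n : ℕ, ∀ e ∈ E, orderOf e = n → (∀ r : ℕ, r.Prime → r ∣ n → r ∈ T) →
      e ∈ Subgroup.closure {x : G | x ∈ E ∧ ∃ p ∈ T, PElt p x} := by
  intro n
  induction n using Nat.strong_induction_on with
  | _ n ih =>
    intro e he hn hT
    by_cases h1 : n = 1
    · rw [h1, orderOf_eq_one_iff] at hn
      rw [hn]
      exact Subgroup.one_mem _
    · have hn0 : n ≠ 0 := by
        rw [← hn]
        exact (orderOf_pos e).ne'
      obtain ⟨r, hr, hrn⟩ := Nat.exists_prime_and_dvd h1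
      obtain ⟨k, m, hrm, hnkm⟩ := Nat.exists_eq_pow_mul_and_not_dvd hn0 r hr.ne_one
      have hk : k ≠ 0 := by
        rintro rfl
        rw [pow_zero, one_mul] at hnkm
        exact hrm (hnkm ▸ hrn)
      have hm0 : m ≠ 0 := by
        rintro rfl
        rw [mul_zero] at hnkm
        exact hn0 hnkm
      have hrk0 : r ^ k ≠ 0 := pow_ne_zero _ hr.ne_zero
      have ho1 : orderOf (e ^ (r ^ k)) = m := by
        rw [orderOf_pow_of_dvd hrk0 (by rw [hn, hnkm]; exact dvd_mul_right _ _), hn, hnkm,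
          Nat.mul_div_cancel_left _ (Nat.pos_of_ne_zero hrk0)]
      have ho2 : orderOf (e ^ m) = r ^ k := by
        rw [orderOf_pow_of_dvd hm0 (by rw [hn, hnkm]; exact dvd_mul_left _ _), hn, hnkm,
          Nat.mul_div_cancel _ (Nat.pos_of_ne_zero hm0)]
      have hmlt : m < n := by
        rw [hnkm]
        have h2 : 2 ≤ r ^ k := by
          calc 2 ≤ r := hr.two_le
            _ = r ^ 1 := (pow_one r).symm
            _ ≤ r ^ k := Nat.pow_le_pow_right hr.pos (Nat.one_le_iff_ne_zero.mpr hk)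
        nlinarith [Nat.pos_of_ne_zero hm0]
      have hmem1 : e ^ (r ^ k) ∈ Subgroup.closure {x : G | x ∈ E ∧ ∃ p ∈ T, PElt p x} :=
        ih m hmlt _ (E.pow_mem he _) ho1
          (fun s hs hsm => hT s hs (by rw [hnkm]; exact dvd_mul_of_dvd_right hsm _))
      have hmem2 : e ^ m ∈ Subgroup.closure {x : G | x ∈ E ∧ ∃ p ∈ T, PElt p x} :=
        Subgroup.subset_closure ⟨E.pow_mem he _, r, hT r hr hrn, k, ho2⟩
      have hcop : Nat.Coprime (r ^ k) m :=
        Nat.Coprime.pow_left k ((Nat.Prime.coprime_iff_not_dvd hr).2 hrm)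
      have hbez := Nat.gcd_eq_gcd_ab (r ^ k) m
      rw [hcop.gcd_eq_one] at hbez
      have hee : e = (e ^ (r ^ k)) ^ (Nat.gcdA (r ^ k) m) * (e ^ m) ^ (Nat.gcdB (r ^ k) m) := by
        rw [← zpow_natCast e (r ^ k), ← zpow_natCast e m, ← zpow_mul, ← zpow_mul, ← zpow_add,
          ← hbez]
        simp
      rw [hee]
      exact Subgroup.mul_mem _ (Subgroup.zpow_mem _ hmem1 _) (Subgroup.zpow_mem _ hmem2 _)

private theorem ft12pa_normalizer_closure {G : Type u} [Group G] (E : Subgroup G) (N : Set G)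
    (hN : ∀ g ∈ E, ∀ x ∈ N, g * x * g⁻¹ ∈ N) :
    E ≤ Subgroup.normalizer ((Subgroup.closure N : Subgroup G) : Set G) := by
  have key : ∀ g ∈ E, ∀ x ∈ Subgroup.closure N, g * x * g⁻¹ ∈ Subgroup.closure N := by
    intro g hg x hx
    induction hx using Subgroup.closure_induction with
    | mem x hx => exact Subgroup.subset_closure (hN g hg x hx)
    | one => simp
    | mul x y _ _ hx hy =>
      have h1 : g * (x * y) * g⁻¹ = (g * x * g⁻¹) * (g * y * g⁻¹) := by group
      rw [h1]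
      exact Subgroup.mul_mem _ hx hy
    | inv x _ hx =>
      have h1 : g * x⁻¹ * g⁻¹ = (g * x * g⁻¹)⁻¹ := by group
      rw [h1]
      exact Subgroup.inv_mem _ hx
  intro g hg
  rw [Subgroup.mem_normalizer_iff]
  intro h
  constructor
  · exact key g hg h
  · intro hh
    have h1 := key g⁻¹ (E.inv_mem hg) _ hh
    have h2 : g⁻¹ * (g * h * g⁻¹) * g⁻¹⁻¹ = h := by group
    rw [h2] at h1
    exact h1

private theorem ft12pa_comm_closure {G : Type u} [Group G] (N : Set G)
    (hN : ∀ x ∈ N, ∀ y ∈ N, x * y = y * x) :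
    ∀ a ∈ Subgroup.closure N, ∀ b ∈ Subgroup.closure N, a * b = b * a := by
  have h1 : Subgroup.closure N ≤ Subgroup.centralizer N := by
    rw [Subgroup.closure_le]
    intro x hx
    rw [SetLike.mem_coe, Subgroup.mem_centralizer_iff]
    intro y hy
    exact hN y hy x hx
  have h2 : Subgroup.closure N ≤
      Subgroup.centralizer ((Subgroup.closure N : Subgroup G) : Set G) := by
    rw [Subgroup.closure_le]
    intro x hx
    rw [SetLike.mem_coe, Subgroup.mem_centralizer_iff]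
    intro y hy
    exact (Subgroup.mem_centralizer_iff.mp (h1 hy) x hx).symm
  intro a ha b hb
  exact Subgroup.mem_centralizer_iff.mp (h2 hb) a ha

private theorem ft12pa_sylow_comm {G : Type u} [Group G] [Finite G] (p : ℕ) [Fact p.Prime]
    (hS : ∃ S : Sylow p G, IsMulCommutative (S : Subgroup G)) (P : Subgroup G)
    (hP : IsPGroup p P) : ∀ a ∈ P, ∀ b ∈ P, a * b = b * a := by
  obtain ⟨S, hSc⟩ := hS
  obtain ⟨Q, hQ⟩ := hP.exists_le_sylow
  obtain ⟨g, rfl⟩ := MulAction.exists_smul_eq G Q S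
  intro a ha b hb
  have h1 : (⟨a, hQ ha⟩ : ↥(Q : Subgroup G)) * ⟨b, hQ hb⟩ = ⟨b, hQ hb⟩ * ⟨a, hQ ha⟩ := by
    apply (Sylow.equivSMul Q g).injective
    rw [map_mul, map_mul]
    exact hSc.is_comm.comm _ _
  exact congrArg Subtype.val h1

private theorem ft12pa_mem_of_normal {G : Type u} [Group G] [Finite G] (p : ℕ) [Fact p.Prime]
    (E P : Subgroup G) (hP : SylIn p P E) (hN : E ≤ Subgroup.normalizer (P : Set G))
    (y : G) (hy : y ∈ E) (hpy : PElt p y) : y ∈ P := by
  obtain ⟨hPE, -, hidx⟩ := hP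
  obtain ⟨k, hk⟩ := hpy
  have : (P.subgroupOf E).Normal := (Subgroup.normal_subgroupOf_iff_le_normalizer hPE).mpr hN
  have h1 : (⟨y, hy⟩ : ↥E) ^ (P.subgroupOf E).index ∈ P.subgroupOf E :=
    Subgroup.pow_index_mem _ _
  have h2 : y ^ (P.relIndex E) ∈ P := by
    have h3 : y ^ (P.subgroupOf E).index ∈ P := by
      simpa using Subgroup.mem_subgroupOf.mp h1
    exact h3
  have hcop : Nat.Coprime (P.relIndex E) (orderOf y) := by
    rw [hk]
    exact Nat.Coprime.pow_right k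
      (Nat.Coprime.symm ((Nat.Prime.coprime_iff_not_dvd (Fact.out)).2 hidx))
  obtain ⟨m, hm⟩ := exists_pow_eq_self_of_coprime hcop
  rw [← hm]
  exact P.pow_mem h2 m

private theorem ft12pa_le_normalizer_map {G : Type u} [Group G] (M : Subgroup G)
    (K : Subgroup ↥M) [hK : K.Normal] :
    M ≤ Subgroup.normalizer ((K.map M.subtype : Subgroup G) : Set G) := by
  intro g hg
  rw [Subgroup.mem_normalizer_iff]
  intro h
  constructor
  · rintro ⟨k, hk, rfl⟩
    exact ⟨⟨g, hg⟩ * k * ⟨g, hg⟩⁻¹, hK.conj_mem k hk ⟨g, hg⟩, rfl⟩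
  · rintro ⟨k, hk, hk'⟩
    refine ⟨⟨g, hg⟩⁻¹ * k * ⟨g, hg⟩, ?_, ?_⟩
    · have h1 := hK.conj_mem k hk ⟨g, hg⟩⁻¹
      rw [inv_inv] at h1
      exact h1
    · have h2 : (M.subtype (⟨g, hg⟩⁻¹ * k * ⟨g, hg⟩) : G) = g⁻¹ * (M.subtype k) * g := rfl
      rw [h2, hk']
      group

/-- conjugation by an element normalizing `S` preserves the centralizer of `S` -/
private theorem ft12pa_conj_centralizer {G : Type u} [Group G] (S : Subgroup G) (g : G)
    (hg : ∀ s, s ∈ S ↔ g * s * g⁻¹ ∈ S) (y : G)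
    (hy : y ∈ Subgroup.centralizer (S : Set G)) :
    g * y * g⁻¹ ∈ Subgroup.centralizer (S : Set G) := by
  rw [Subgroup.mem_centralizer_iff] at hy ⊢
  intro s hs
  have hs' : g⁻¹ * s * g ∈ S := by
    rw [hg]
    have h1 : g * (g⁻¹ * s * g) * g⁻¹ = s := by group
    rw [h1]
    exact hs
  have h2 := hy _ hs'
  calc s * (g * y * g⁻¹) = g * ((g⁻¹ * s * g) * y) * g⁻¹ := by group
    _ = g * (y * (g⁻¹ * s * g)) * g⁻¹ := by rw [h2]
    _ = g * y * g⁻¹ * s := by group

theorem partA_of (ht : TauStmt.{u}) (hs : NSylStmt.{u}) (hn : NonabStmt.{u}) :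
    PartAStmt.{u} := by
  intro G _ _ hG M E hyp
  obtain ⟨hM, hE, h⟩ := hyp
  obtain ⟨-, t2, t3⟩ := ht G hG M E hM hE
  have t3' := t3 h
  have hfix : ∀ x ∈ sigmaCore M, x ≠ 1 →
      ∀ e ∈ E ⊓ Subgroup.centralizer ({x} : Set G), Fix M e := by
    intro x hx hx1 e he hbot
    have hxmem : x ∈ sigmaCore M ⊓ Subgroup.centralizer ({e} : Set G) := by
      refine Subgroup.mem_inf.mpr ⟨hx, ?_⟩
      rw [Subgroup.mem_centralizer_iff]
      intro y hy
      rw [Set.mem_singleton_iff] at hy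
      rw [hy]
      exact (Subgroup.mem_centralizer_iff.mp (Subgroup.mem_inf.mp he).2 x
        (Set.mem_singleton x)).symm
    rw [hbot, Subgroup.mem_bot] at hxmem
    exact hx1 hxmem
  by_cases hσ : sigmaCore M = ⊥
  · refine ⟨⊥, bot_le, ?_, ⟨⟨fun a b => Subsingleton.elim _ _⟩⟩, ?_⟩
    · rw [Subgroup.normalizer_eq_top]
      exact le_top
    · intro x hx hx1
      rw [hσ, Subgroup.mem_bot] at hx
      exact absurd hx hx1
  by_cases hcase : ∃ p ∈ tau2 M, ∀ S : Sylow p G, ¬ IsMulCommutative (S : Subgroup G)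
  · obtain ⟨p, hp, hS⟩ := hcase
    have : Fact p.Prime := ⟨hp.1⟩
    obtain ⟨A, hA⟩ := t2 p hp
    have h19 := Cfsg.Agent.S1419.result hG M hM E hE p hp hS A ⟨hA.hAE, hA.hA, hA.hA2⟩
    have h18 := Cfsg.Agent.S1418.result hG M hM E hE p hp A ⟨hA.hAE, hA.hA, hA.hA2⟩
    have hτ : tau2 M = {p} := h19.1
    have hEA : E ≤ Subgroup.normalizer (A : Set G) := h18.1.1
    have hEσ : E ≤ Subgroup.normalizer ((sigmaCore M : Subgroup G) : Set G) :=
      hE.1.trans (ft12pa_le_normalizer_map M (piCore (sigma M) ↥M))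
    obtain ⟨hn1, -⟩ := hn G hG M E hM hE p A hA hS hσ
    refine ⟨A ⊓ Subgroup.centralizer (sigmaCore M : Set G), inf_le_left.trans hA.hAE, ?_, ?_, ?_⟩
    · intro g hg
      rw [Subgroup.mem_normalizer_iff]
      intro x
      have hgA := Subgroup.mem_normalizer_iff.mp (hEA hg)
      have hgσ := Subgroup.mem_normalizer_iff.mp (hEσ hg)
      have hgσ' := Subgroup.mem_normalizer_iff.mp (hEσ (E.inv_mem hg))
      rw [Subgroup.mem_inf, Subgroup.mem_inf, ← hgA x]
      constructor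
      · rintro ⟨h1, h2⟩
        exact ⟨h1, ft12pa_conj_centralizer _ g hgσ x h2⟩
      · rintro ⟨h1, h2⟩
        refine ⟨h1, ?_⟩
        have h3 := ft12pa_conj_centralizer _ g⁻¹ hgσ' _ h2
        have h4 : g⁻¹ * (g * x * g⁻¹) * g⁻¹⁻¹ = x := by group
        rw [h4] at h3
        exact h3
    · refine ⟨⟨fun a b => ?_⟩⟩
      apply Subtype.ext
      have h1 := hA.hA.1.is_comm.comm ⟨a.1, (Subgroup.mem_inf.mp a.2).1⟩
        ⟨b.1, (Subgroup.mem_inf.mp b.2).1⟩
      have h2 : (a.1 : G) * b.1 = b.1 * a.1 := congrArg Subtype.val h1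
      exact h2
    · intro x hx hx1 e he
      have hF := hfix x hx hx1 e he
      have heE : e ∈ E := (Subgroup.mem_inf.mp he).1
      have hpe : PElt p e := by
        have h0 : orderOf e ≠ 0 := (orderOf_pos e).ne'
        refine ⟨_, Nat.eq_prime_pow_of_unique_prime_dvd h0 ?_⟩
        intro d hd hdvd
        have h1 := t3' e heE hF d hd hdvd
        rw [hτ] at h1
        exact h1
      exact hn1 e heE hpe hF
  · push Not at hcase
    have hsyl : ∀ p, p ∈ tau2 M → ∃ P : Subgroup G, SylIn p P E := by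
      intro p hp
      have : Fact p.Prime := ⟨hp.1⟩
      obtain ⟨Q⟩ : Nonempty (Sylow p ↥E) := inferInstance
      refine ⟨(Q : Subgroup ↥E).map E.subtype, Subgroup.map_subtype_le _,
        Q.isPGroup'.map _, ?_⟩
      show ¬ p ∣ (((Q : Subgroup ↥E).map E.subtype).comap E.subtype).index
      rw [Subgroup.comap_map_eq_self_of_injective E.subtype_injective]
      exact Q.not_dvd_index
    have hkey : ∀ p, p ∈ tau2 M → ∀ P : Subgroup G, SylIn p P E →
        E ≤ Subgroup.normalizer (P : Set G) ∧ (∀ a ∈ P, ∀ b ∈ P, a * b = b * a) ∧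
          (∀ y ∈ E, PElt p y → y ∈ P) := by
      intro p hp P hP
      have : Fact p.Prime := ⟨hp.1⟩
      have hPn := hs G hG M E hM hE p hp (hcase p hp) P hP
      exact ⟨hPn, ft12pa_sylow_comm p (hcase p hp) P hP.2.1,
        fun y hy hpy => ft12pa_mem_of_normal p E P hP hPn y hy hpy⟩
    have hNcomm : ∀ x ∈ {x : G | x ∈ E ∧ ∃ p ∈ tau2 M, PElt p x},
        ∀ y ∈ {x : G | x ∈ E ∧ ∃ p ∈ tau2 M, PElt p x}, x * y = y * x := by
      rintro x ⟨hxE, p, hp, hxp⟩ y ⟨hyE, q, hq, hyq⟩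
      obtain ⟨P, hP⟩ := hsyl p hp
      obtain ⟨Q, hQ⟩ := hsyl q hq
      obtain ⟨hPn, hPc, hPm⟩ := hkey p hp P hP
      obtain ⟨hQn, -, hQm⟩ := hkey q hq Q hQ
      have hxP := hPm x hxE hxp
      have hyQ := hQm y hyE hyq
      by_cases hpq : p = q
      · subst hpq
        exact hPc x hxP y (hPm y hyE hyq)
      · have : Fact p.Prime := ⟨hp.1⟩
        have : Fact q.Prime := ⟨hq.1⟩
        have hdisj : Disjoint P Q := IsPGroup.disjoint_of_ne p q hpq P Q hP.2.1 hQ.2.1
        have h1 : x * y * x⁻¹ * y⁻¹ ∈ P := by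
          have h2 := (Subgroup.mem_normalizer_iff.mp (hPn hyE) x⁻¹).mp (P.inv_mem hxP)
          have h3 : x * y * x⁻¹ * y⁻¹ = x * (y * x⁻¹ * y⁻¹) := by group
          rw [h3]
          exact P.mul_mem hxP h2
        have h2 : x * y * x⁻¹ * y⁻¹ ∈ Q := by
          have h3 := (Subgroup.mem_normalizer_iff.mp (hQn hxE) y).mp hyQ
          exact Q.mul_mem h3 (Q.inv_mem hyQ)
        have h3 : x * y * x⁻¹ * y⁻¹ = 1 := Subgroup.disjoint_def.mp hdisj h1 h2
        calc x * y = (x * y * x⁻¹ * y⁻¹) * (y * x) := by group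
          _ = y * x := by rw [h3, one_mul]
    refine ⟨Subgroup.closure {x : G | x ∈ E ∧ ∃ p ∈ tau2 M, PElt p x}, ?_, ?_, ?_, ?_⟩
    · rw [Subgroup.closure_le]
      intro x hx
      exact hx.1
    · apply ft12pa_normalizer_closure
      rintro g hg x ⟨hxE, p, hp, k, hk⟩
      refine ⟨E.mul_mem (E.mul_mem hg hxE) (E.inv_mem hg), p, hp, k, ?_⟩
      rw [← hk]
      exact (MulAut.conj g).orderOf_eq x
    · have h1 := ft12pa_comm_closure _ hNcomm
      exact ⟨⟨fun a b => Subtype.ext (h1 a.1 a.2 b.1 b.2)⟩⟩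
    · intro x hx hx1 e he
      have hF := hfix x hx hx1 e he
      have heE : e ∈ E := (Subgroup.mem_inf.mp he).1
      exact ft12pa_primary E (tau2 M) (orderOf e) e heE rfl
        (fun r hr hdvd => t3' e heE hF r hr hdvd)

end Cfsg.Agent.Lib.Helper89.FT12
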