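import Mathlib
import Cfsg.Agent.Lib.Helper89.FusBasic

set_option autoImplicit false

namespace Cfsg.Agent.Lib.Helper89

open Cfsg Cfsg.FusionSystem

variable {Ω : Type*} [Group Ω]

section Alperin2

variable {T U : Subgroup Ω}

theorem alperin_star' {p : ℕ} [Fact p.Prime] [Finite T] (hT : IsPGroup p T)
    (E : FusionSystem T) (D : FusionSystem U)
    {P : Subgroup Ω}
    (hIH : ∀ (P' : Subgroup Ω) (φ' : P' →* Ω), Nat.card P < Nat.card P' → φ' ∈ E.Hom P' →
      φ' ∈ D.Hom P')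
    {R : Subgroup Ω} (ρ : P →* Ω) (hρ : ρ ∈ E.Hom P) (hR : ρ.range = R)
    (hfa : E.IsFullyAutomized p R) (hrec : E.IsReceptive R)
    (hD : ∀ α ∈ E.autGroup R, R.subtype.comp α.toMonoidHom ∈ D.Hom R) : ρ ∈ D.Hom P := by
  have hP : P ≤ T := hom_le E hρ
  have hRT : R ≤ T := hfa.1
  have : Finite P := finite_of_le hP
  have : Finite R := finite_of_le hRT
  let e : P ≃* R := isoOfRange ρ (E.injective_of_mem hρ) hR
  have he : ∀ x : P, ((e x : R) : Ω) = ρ x := fun x => rfl
  by_cases hPT : P = T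
  · have hRT' : R = T := by
      apply Subgroup.eq_of_le_of_card_ge hRT
      rw [← hPT, Nat.card_congr e.toEquiv]
    subst hPT
    subst hRT'
    obtain ⟨α, hα, hα'⟩ := exists_mulAut E hρ hR
    exact hom_congr D (hD α hα) fun x => (hα' x).symm
  · -- the p-subgroup K of Aut_E(R)
    obtain ⟨ψ, hψ, hψ'⟩ := exists_inv E hρ hR
    have hψe : ∀ y : R, ψ y = ((e.symm y : P) : Ω) := by
      intro y
      have h1 := hψ' (e.symm y) (by rw [← he, e.apply_symm_apply]; exact y.2)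
      have h2 : (⟨ρ (e.symm y), by rw [← he, e.apply_symm_apply]; exact y.2⟩ : R) = y := by
        apply Subtype.ext
        show ρ (e.symm y) = y
        rw [← he, e.apply_symm_apply]
      rw [h2] at h1
      exact h1
    set K : Subgroup (MulAut R) := (autInducedBy T P).map (MulAut.congr e).toMonoidHom with hKdef
    have hKp : IsPGroup p K := (isPGroup_autInducedBy T P hT).map _
    have hKle : K ≤ E.autGroup R := by
      rintro _ ⟨α, hα, rfl⟩
      rw [mem_autGroup_iff E hRT]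
      have hα' : P.subtype.comp α.toMonoidHom ∈ E.Hom P :=
        (mem_autGroup_iff E hP α).mp (autInducedBy_le_autGroup E hP hα)
      have hψP : ∀ y : R, ψ y ∈ P := fun y => by rw [hψe]; exact (e.symm y).2
      have h1 : (P.subtype.comp α.toMonoidHom).comp (ψ.codRestrict P hψP) ∈ E.Hom R :=
        E.comp_mem hψ hα' hψP
      refine comp_mem' E h1 hρ (fun y => (α _).2) _ fun y => ?_
      have hy : e.symm y = ⟨ψ y, hψP y⟩ := Subtype.ext (hψe y).symm
      show ρ (α (e.symm y)) = ρ ⟨(α ⟨ψ y, hψP y⟩ : P), _⟩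
      rw [hy]
    obtain ⟨a, ha, hak⟩ := exists_conj_into_autInducedBy E hfa K hKp hKle
    let ρ' : P →* Ω := R.subtype.comp (a.toMonoidHom.comp e.toMonoidHom)
    have hρ'app : ∀ x : P, ρ' x = ((a (e x) : R) : Ω) := fun x => rfl
    have haE : R.subtype.comp a.toMonoidHom ∈ E.Hom R := (mem_autGroup_iff E hRT a).mp ha
    have hρ' : ρ' ∈ E.Hom P :=
      comp_mem' E hρ haE (fun x => (e x).2) ρ' fun x => rfl
    have hρ'R : ρ'.range = R := by
      apply le_antisymm
      · rintro _ ⟨x, rfl⟩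
        exact (a (e x)).2
      · intro y hy
        refine ⟨e.symm (a⁻¹ ⟨y, hy⟩), ?_⟩
        rw [hρ'app]
        simp
    have hN : normalizerIn T P ≤ extender T P ρ' := by
      intro g hg
      apply Subgroup.subset_closure
      refine ⟨hg.1, hg.2, ?_⟩
      have hk : (MulAut.congr e) (conjAut P g hg.2) ∈ K :=
        ⟨conjAut P g hg.2, conjAut_mem_autInducedBy T P g hg.2 hg.1, rfl⟩
      obtain ⟨h, hh, hh'⟩ := (mem_autInducedBy_iff T R _).mp (hak _ hk)
      refine ⟨h, hh, fun x hx => ?_⟩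
      have h3 := hh' (a (e x))
      rw [hρ'app, hρ'app, ← h3]
      simp only [MulAut.mul_apply, MulAut.inv_apply_self, MulAut.congr_apply,
        MulEquiv.trans_apply, MulEquiv.symm_apply_apply]
      rfl
    obtain ⟨χ, hχ, hχ'⟩ := hrec.2 P ρ' hρ' hρ'R
    have hχN : χ.comp (Subgroup.inclusion hN) ∈ E.Hom (normalizerIn T P) := restrict_mem E hχ hN
    have hχD := hIH _ _ (card_lt_card_normalizerIn hT hP hPT) hχN
    have hρ'D : ρ' ∈ D.Hom P :=
      restrict_mem' D hχD (le_normalizerIn hP) ρ' fun x => (hχ' x x.2 _).symm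
    have hainv : R.subtype.comp (a⁻¹).toMonoidHom ∈ D.Hom R :=
      hD a⁻¹ ((E.autGroup R).inv_mem ha)
    refine comp_mem' D hρ'D hainv (fun x => (a (e x)).2) ρ fun x => ?_
    show ρ x = ((a⁻¹ ⟨ρ' x, _⟩ : R) : Ω)
    have : (⟨ρ' x, (a (e x)).2⟩ : R) = a (e x) := rfl
    rw [this, MulAut.inv_apply_self]
    rfl

theorem alperin_step' {p : ℕ} [Fact p.Prime] [Finite T] (hT : IsPGroup p T)
    (E : FusionSystem T) (D : FusionSystem U)
    {P : Subgroup Ω}
    (hIH : ∀ (P' : Subgroup Ω) (φ' : P' →* Ω), Nat.card P < Nat.card P' → φ' ∈ E.Hom P' →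
      φ' ∈ D.Hom P')
    {R : Subgroup Ω} (ρ : P →* Ω) (hρ : ρ ∈ E.Hom P) (hρR : ρ.range = R)
    (hfa : E.IsFullyAutomized p R) (hrec : E.IsReceptive R)
    (hD : ∀ α ∈ E.autGroup R, R.subtype.comp α.toMonoidHom ∈ D.Hom R)
    (φ : P →* Ω) (hφ : φ ∈ E.Hom P) : φ ∈ D.Hom P := by
  have hρD : ρ ∈ D.Hom P := alperin_star' hT E D hIH ρ hρ hρR hfa hrec hD
  obtain ⟨φ', hφ', hφ'inv⟩ := E.inv_mem hφ
  have hφ'P : ∀ y : φ.range, φ' y ∈ P := by
    rintro ⟨_, x, rfl⟩
    rw [hφ'inv]; exact x.2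
  let σ : φ.range →* Ω := ρ.comp (φ'.codRestrict P hφ'P)
  have hσ : σ ∈ E.Hom φ.range := E.comp_mem hφ' hρ hφ'P
  have hσφ : ∀ x : P, σ ⟨φ x, ⟨x, rfl⟩⟩ = ρ x := by
    intro x
    show ρ ⟨φ' ⟨φ x, _⟩, _⟩ = ρ x
    congr 1
    apply Subtype.ext
    exact hφ'inv x
  have hσR : σ.range = R := by
    apply le_antisymm
    · rintro _ ⟨y, rfl⟩
      rw [← hρR]
      exact ⟨_, rfl⟩
    · intro z hz
      rw [← hρR] at hz
      obtain ⟨x, rfl⟩ := hz
      exact ⟨⟨φ x, ⟨x, rfl⟩⟩, hσφ x⟩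
  have hcard : Nat.card φ.range = Nat.card P :=
    (Nat.card_congr (isoOfRange φ (E.injective_of_mem hφ) rfl).toEquiv).symm
  have hIH' : ∀ (P' : Subgroup Ω) (φ' : P' →* Ω), Nat.card φ.range < Nat.card P' →
      φ' ∈ E.Hom P' → φ' ∈ D.Hom P' := by
    intro P' φ' h1 h2
    exact hIH P' φ' (hcard ▸ h1) h2
  have hσD : σ ∈ D.Hom φ.range := alperin_star' hT E D hIH' σ hσ hσR hfa hrec hD
  obtain ⟨τ, hτ, hτ'⟩ := D.inv_mem hσD
  have hρσ : ∀ x : P, ρ x ∈ σ.range := fun x => ⟨⟨φ x, ⟨x, rfl⟩⟩, hσφ x⟩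
  refine comp_mem' D hρD hτ hρσ φ fun x => ?_
  have h1 := hτ' ⟨φ x, ⟨x, rfl⟩⟩
  have h2 : (⟨σ ⟨φ x, ⟨x, rfl⟩⟩, ⟨⟨φ x, ⟨x, rfl⟩⟩, rfl⟩⟩ : σ.range) = ⟨ρ x, hρσ x⟩ :=
    Subtype.ext (hσφ x)
  rw [h2] at h1
  exact h1.symm


/-! ### The extender -/

theorem le_extender_of_aut {R : Subgroup Ω} (hRT : R ≤ T) (α : MulAut R) :
    R ≤ extender T R (R.subtype.comp α.toMonoidHom) := by
  intro g hg
  apply Subgroup.subset_closure
  refine ⟨hRT hg, Subgroup.le_normalizer hg, ((α ⟨g, hg⟩ : R) : Ω), hRT (α ⟨g, hg⟩).2, ?_⟩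
  intro x hx
  have h1 : (⟨g * (x : Ω) * g⁻¹, hx⟩ : R) = ⟨g, hg⟩ * x * ⟨g, hg⟩⁻¹ := rfl
  show ((α ⟨g * (x : Ω) * g⁻¹, hx⟩ : R) : Ω) = _
  rw [h1, map_mul, map_mul, map_inv]
  rfl

/-- if the extender of an automorphism of a receptive `R` is strictly larger than `R`, the
automorphism is the restriction of a map on a strictly larger subgroup -/
theorem aut_mem_of_extender [Finite T] (E : FusionSystem T) (D : FusionSystem U)
    {R : Subgroup Ω}
    (hIH : ∀ (P' : Subgroup Ω) (φ' : P' →* Ω), Nat.card R < Nat.card P' → φ' ∈ E.Hom P' →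
      φ' ∈ D.Hom P')
    (hrec : E.IsReceptive R) (α : MulAut R) (hα : α ∈ E.autGroup R) (g₀ : Ω)
    (hg₀ : g₀ ∈ extender T R (R.subtype.comp α.toMonoidHom)) (hg₀R : g₀ ∉ R) :
    R.subtype.comp α.toMonoidHom ∈ D.Hom R := by
  have hRT : R ≤ T := hrec.1
  have hαE : R.subtype.comp α.toMonoidHom ∈ E.Hom R := (mem_autGroup_iff E hRT α).mp hα
  have hrange : (R.subtype.comp α.toMonoidHom).range = R := by
    apply le_antisymm
    · rintro _ ⟨x, rfl⟩
      exact (α x).2
    · intro y hy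
      exact ⟨α⁻¹ ⟨y, hy⟩, by simp⟩
  obtain ⟨χ, hχ, hχ'⟩ := hrec.2 R _ hαE hrange
  have hle := le_extender_of_aut hRT α
  have hXT : extender T R (R.subtype.comp α.toMonoidHom) ≤ T := hom_le E hχ
  have : Finite (extender T R (R.subtype.comp α.toMonoidHom)) := finite_of_le hXT
  have hlt : Nat.card R < Nat.card (extender T R (R.subtype.comp α.toMonoidHom)) := by
    by_contra hcon
    have := Subgroup.eq_of_le_of_card_ge hle (not_lt.mp hcon)
    exact hg₀R (this ▸ hg₀)
  have hχD := hIH _ χ hlt hχ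
  exact restrict_mem' D hχD hle _ fun x => (hχ' x x.2 _).symm

theorem mem_normalizer_of_aut {R : Subgroup Ω} (ν : MulAut R) (g : Ω)
    (h : ∀ x : R, ((ν x : R) : Ω) = g * x * g⁻¹) : g ∈ Subgroup.normalizer (R : Set Ω) := by
  rw [Subgroup.mem_normalizer_iff]
  intro y
  constructor
  · intro hy
    rw [← h ⟨y, hy⟩]
    exact (ν ⟨y, hy⟩).2
  · intro hy
    have h1 := h (ν⁻¹ ⟨g * y * g⁻¹, hy⟩)
    rw [MulAut.apply_inv_self] at h1
    have h2 : y = ((ν⁻¹ ⟨g * y * g⁻¹, hy⟩ : R) : Ω) := by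
      have h3 : g * y * g⁻¹ = g * ((ν⁻¹ ⟨g * y * g⁻¹, hy⟩ : R) : Ω) * g⁻¹ := h1
      exact mul_left_cancel (mul_right_cancel h3)
    rw [h2]
    exact (ν⁻¹ ⟨g * y * g⁻¹, hy⟩).2

/-- **Alperin, centric radical form**: a saturated system `E` over a finite `p`-group lies in any
fusion system `D` that contains the `E`-automorphisms of the fully automized receptive subgroups `R`
with `C_T(R) ≤ R` all of whose normal `p`-subgroups of automorphisms are inner. -/
theorem alperin_cr {p : ℕ} [Fact p.Prime] [Finite T] (hT : IsPGroup p T)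
    (E : FusionSystem T) (hE : E.IsSaturated p) (D : FusionSystem U)
    (hD : ∀ R : Subgroup Ω, E.IsFullyAutomized p R → E.IsReceptive R → centralizerIn T R ≤ R →
      (∀ N : Subgroup (E.autGroup R), N.Normal → IsPGroup p N →
        N.map (E.autGroup R).subtype ≤ Inn R) →
      ∀ α ∈ E.autGroup R, R.subtype.comp α.toMonoidHom ∈ D.Hom R) :
    ∀ P : Subgroup Ω, E.Hom P ⊆ D.Hom P := by
  have key : ∀ (n : ℕ) (P : Subgroup Ω) (φ : P →* Ω), Nat.card T - Nat.card P = n →
      φ ∈ E.Hom P → φ ∈ D.Hom P := by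
    intro n
    induction n using Nat.strong_induction_on with
    | _ n ih =>
      intro P φ hn hφ
      have hP : P ≤ T := hom_le E hφ
      have hIH : ∀ (P' : Subgroup Ω) (φ' : P' →* Ω), Nat.card P < Nat.card P' →
          φ' ∈ E.Hom P' → φ' ∈ D.Hom P' := by
        intro P' φ' hlt hφ'
        have h1 : Nat.card P' ≤ Nat.card T := Subgroup.card_le_of_le (hom_le E hφ')
        exact ih (Nat.card T - Nat.card P') (by omega) P' φ' rfl hφ'
      obtain ⟨R, ⟨ρ, hρ, hρR⟩, hfa, hrec⟩ := hE P hP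
      have hRT : R ≤ T := hfa.1
      have : Finite R := finite_of_le hRT
      have hcard : Nat.card R = Nat.card P :=
        (Nat.card_congr (isoOfRange ρ (E.injective_of_mem hρ) hρR).toEquiv).symm
      have hIHR : ∀ (P' : Subgroup Ω) (φ' : P' →* Ω), Nat.card R < Nat.card P' →
          φ' ∈ E.Hom P' → φ' ∈ D.Hom P' := fun P' φ' h1 h2 => hIH P' φ' (hcard ▸ h1) h2
      refine alperin_step' hT E D hIH ρ hρ hρR hfa hrec ?_ φ hφ
      intro α hα
      by_cases hc : centralizerIn T R ≤ R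
      · by_cases hr : ∀ N : Subgroup (E.autGroup R), N.Normal → IsPGroup p N →
            N.map (E.autGroup R).subtype ≤ Inn R
        · exact hD R hfa hrec hc hr α hα
        · push Not at hr
          obtain ⟨N, hNn, hNp, hNinn⟩ := hr
          obtain ⟨ν', hν'N, hν'⟩ := SetLike.not_le_iff_exists.mp hNinn
          obtain ⟨ν, hνN, rfl⟩ := hν'N
          -- `N ≤ Aut_T(R)`
          have hNle : ∀ k ∈ N, (k : MulAut R) ∈ autInducedBy T R := by
            have hKp : IsPGroup p (N.map (E.autGroup R).subtype) := hNp.map _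
            have hKle : N.map (E.autGroup R).subtype ≤ E.autGroup R := by
              rintro _ ⟨k, -, rfl⟩
              exact k.2
            obtain ⟨a, ha, hak⟩ := exists_conj_into_autInducedBy E hfa _ hKp hKle
            intro k hk
            have h1 : (⟨a, ha⟩ : E.autGroup R)⁻¹ * k * (⟨a, ha⟩ : E.autGroup R)⁻¹⁻¹ ∈ N :=
              hNn.conj_mem k hk _
            have h2 := hak _ ⟨_, h1, rfl⟩
            have h3 : a * ((E.autGroup R).subtype
                ((⟨a, ha⟩ : E.autGroup R)⁻¹ * k * (⟨a, ha⟩ : E.autGroup R)⁻¹⁻¹)) * a⁻¹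
                = (k : MulAut R) := by
              simp [mul_assoc]
            rw [h3] at h2
            exact h2
          obtain ⟨g₀, hg₀T, hg₀⟩ := (mem_autInducedBy_iff T R _).mp (hNle ν hνN)
          have hg₀n : g₀ ∈ Subgroup.normalizer (R : Set Ω) := mem_normalizer_of_aut _ g₀ hg₀
          have hg₀R : g₀ ∉ R := by
            intro hmem
            apply hν'
            refine ⟨⟨g₀, hmem⟩, ?_⟩
            apply MulEquiv.ext
            intro x
            apply Subtype.ext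
            exact (hg₀ x).symm
          refine aut_mem_of_extender E D hIHR hrec α hα g₀ ?_ hg₀R
          apply Subgroup.subset_closure
          refine ⟨hg₀T, hg₀n, ?_⟩
          have h1 : (⟨α, hα⟩ : E.autGroup R) * ν * (⟨α, hα⟩ : E.autGroup R)⁻¹ ∈ N :=
            hNn.conj_mem ν hνN _
          obtain ⟨h, hh, hh'⟩ := (mem_autInducedBy_iff T R _).mp (hNle _ h1)
          refine ⟨h, hh, fun x hx => ?_⟩
          have h2 := hh' (α x)
          have h3 : ((⟨α, hα⟩ : E.autGroup R) * ν * (⟨α, hα⟩ : E.autGroup R)⁻¹ : E.autGroup R).1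
              (α x) = α ((ν : MulAut R) x) := by
            simp
          rw [h3] at h2
          have h4 : (⟨g₀ * (x : Ω) * g₀⁻¹, hx⟩ : R) = (ν : MulAut R) x :=
            Subtype.ext (hg₀ x).symm
          show ((α ⟨g₀ * (x : Ω) * g₀⁻¹, hx⟩ : R) : Ω) = h * ((α x : R) : Ω) * h⁻¹
          rw [h4]
          exact h2
      · obtain ⟨g₀, hg₀C, hg₀R⟩ := SetLike.not_le_iff_exists.mp hc
        refine aut_mem_of_extender E D hIHR hrec α hα g₀ ?_ hg₀R
        apply Subgroup.subset_closure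
        have hcomm : ∀ x : R, g₀ * (x : Ω) * g₀⁻¹ = x := by
          intro x
          have := hg₀C.2 x x.2
          rw [← this]; group
        have hn : g₀ ∈ Subgroup.normalizer (R : Set Ω) := by
          rw [Subgroup.mem_normalizer_iff]
          intro y
          constructor
          · intro hy
            rw [hcomm ⟨y, hy⟩]; exact hy
          · intro hy
            have := hcomm ⟨g₀ * y * g₀⁻¹, hy⟩
            have h5 : g₀ * y * g₀⁻¹ = y := by
              have h6 : g₀ * (g₀ * y * g₀⁻¹) * g₀⁻¹ = g₀ * y * g₀⁻¹ := this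
              exact mul_left_cancel (mul_right_cancel h6)
            rw [← h5]; exact hy
        refine ⟨hg₀C.1, hn, 1, T.one_mem, fun x hx => ?_⟩
        have h4 : (⟨g₀ * (x : Ω) * g₀⁻¹, hx⟩ : R) = x := Subtype.ext (hcomm x)
        rw [h4]
        simp
  intro P φ hφ
  exact key _ P φ rfl hφ

end Alperin2

end Cfsg.Agent.Lib.Helper89
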