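import Mathlib
import Cfsg.Agent.Lib.Helper89.FusBasic

set_option autoImplicit false

namespace Cfsg.Agent.Lib.Helper89

open Cfsg Cfsg.FusionSystem

/-! ### An Engel-type criterion: coprime automorphisms with nilpotent commutator map are trivial -/

theorem engel_step {P : Type*} [Group P] (β : MulAut P) (m : ℕ) (hm : β ^ m = 1)
    (htors : ∀ u : P, u ^ m = 1 → u = 1) (w : P)
    (h : (w⁻¹ * β w)⁻¹ * β (w⁻¹ * β w) = 1) : w⁻¹ * β w = 1 := by
  set u := w⁻¹ * β w with hu
  have hβu : β u = u := by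
    have := h
    rw [inv_mul_eq_one] at this
    exact this.symm
  have hβw : β w = w * u := by rw [hu]; group
  have hpow : ∀ j : ℕ, (β ^ j) w = w * u ^ j := by
    intro j
    induction j with
    | zero => simp
    | succ j ih =>
      rw [pow_succ', MulAut.mul_apply, ih, map_mul, map_pow, hβu, hβw, pow_succ']
      group
  have h1 := hpow m
  rw [hm] at h1
  have h2 : u ^ m = 1 := by
    have : w = w * u ^ m := h1
    exact (mul_eq_left.mp this.symm)
  exact htors u h2

theorem engel_trivial {P : Type*} [Group P] (β : MulAut P) (m : ℕ) (hm : β ^ m = 1)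
    (htors : ∀ u : P, u ^ m = 1 → u = 1) (n : ℕ)
    (hnil : ∀ x : P, (fun y => y⁻¹ * β y)^[n] x = 1) : β = 1 := by
  have key : ∀ (k : ℕ) (x : P), (fun y => y⁻¹ * β y)^[k + 1] x = 1 → x⁻¹ * β x = 1 := by
    intro k
    induction k with
    | zero => intro x hx; simpa using hx
    | succ k ih =>
      intro x hx
      apply ih
      rw [Function.iterate_succ_apply', Function.iterate_succ_apply'] at hx
      rw [Function.iterate_succ_apply']
      exact engel_step β m hm htors _ hx
  apply MulEquiv.ext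
  intro x
  have hx : x⁻¹ * β x = 1 := by
    cases n with
    | zero =>
      have h1 : ∀ y : P, y = 1 := fun y => by simpa using hnil y
      rw [h1 x, map_one]; simp
    | succ n => exact key n x (hnil x)
  rw [inv_mul_eq_one] at hx
  exact hx.symm

theorem isPGroup_of_coprime_trivial {G : Type*} [Group G] [Finite G] {p : ℕ} [Fact p.Prime]
    (h : ∀ (g : G) (m : ℕ), m.Coprime p → g ^ m = 1 → g = 1) : IsPGroup p G := by
  intro g
  have hp : p.Prime := Fact.out
  obtain ⟨k, m, hm, hkm⟩ := Nat.exists_eq_pow_mul_and_not_dvd (orderOf_pos g).ne' p hp.ne_one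
  refine ⟨k, h (g ^ p ^ k) m ?_ ?_⟩
  · exact (Nat.Coprime.symm ((Nat.Prime.coprime_iff_not_dvd hp).mpr hm))
  · rw [← pow_mul, ← hkm, pow_orderOf_eq_one]

variable {Ω : Type*} [Group Ω] {S : Subgroup Ω}

theorem autGroup_le_autInducedBy_of_isPGroup (F : FusionSystem S) {p : ℕ} [Fact p.Prime]
    {R : Subgroup Ω} (hfa : F.IsFullyAutomized p R) (hp : IsPGroup p (F.autGroup R)) :
    F.autGroup R ≤ autInducedBy S R := by
  obtain ⟨hRS, Sy, hSy⟩ := hfa
  intro α hα
  have htop : (⊤ : Subgroup (F.autGroup R)) = Sy :=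
    Sy.3 (hp.to_subgroup ⊤) le_top
  have h1 : (⟨α, hα⟩ : F.autGroup R) ∈ (Sy : Subgroup (F.autGroup R)) := by
    rw [← htop]; exact Subgroup.mem_top _
  rw [hSy, Subgroup.mem_subgroupOf] at h1
  exact h1

end Cfsg.Agent.Lib.Helper89
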