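import Mathlib
import Cfsg.Agent.Lib.Helper89.FusAlperin2

set_option autoImplicit false

namespace Cfsg.Agent.Lib.Helper89

open Cfsg Cfsg.FusionSystem

variable {Ω : Type*} [Group Ω] {T : Subgroup Ω}

/-- images of normalizing elements normalize the image -/
theorem map_mem_normalizer {N P R : Subgroup Ω} {χ : N →* Ω}
    (hPN : P ≤ N) (hNn : N ≤ Subgroup.normalizer (P : Set Ω))
    (h1 : ∀ (x : Ω) (hx : x ∈ P), χ ⟨x, hPN hx⟩ ∈ R)
    (h2 : ∀ y ∈ R, ∃ (x : Ω) (hx : x ∈ P), χ ⟨x, hPN hx⟩ = y) (g : N) :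
    χ g ∈ Subgroup.normalizer (R : Set Ω) := by
  have hconj : ∀ (k : N) (y : Ω), y ∈ R → χ k * y * (χ k)⁻¹ ∈ R := by
    intro k y hy
    obtain ⟨x, hx, rfl⟩ := h2 y hy
    have hk : (k : Ω) * x * (k : Ω)⁻¹ ∈ P := (Subgroup.mem_normalizer_iff.mp (hNn k.2) x).mp hx
    have h3 : χ k * χ ⟨x, hPN hx⟩ * (χ k)⁻¹ = χ ⟨(k : Ω) * x * (k : Ω)⁻¹, hPN hk⟩ := by
      rw [← map_inv, ← map_mul, ← map_mul]
      rfl
    rw [h3]
    exact h1 _ hk
  rw [Subgroup.mem_normalizer_iff]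
  intro y
  constructor
  · exact hconj g y
  · intro hy
    have := hconj g⁻¹ _ hy
    rw [map_inv] at this
    have h4 : (χ g)⁻¹ * (χ g * y * (χ g)⁻¹) * (χ g)⁻¹⁻¹ = y := by group
    rw [h4] at this
    exact this

theorem le_extender (E : FusionSystem T) {Q : Subgroup Ω} {φ : Q →* Ω} (hφ : φ ∈ E.Hom Q) :
    Q ≤ extender T Q φ := by
  intro g hg
  apply Subgroup.subset_closure
  refine ⟨hom_le E hφ hg, Subgroup.le_normalizer hg, φ ⟨g, hg⟩, hom_mem E hφ _, ?_⟩
  intro x hx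
  have h1 : (⟨g * (x : Ω) * g⁻¹, hx⟩ : Q) = ⟨g, hg⟩ * x * ⟨g, hg⟩⁻¹ := rfl
  rw [h1, map_mul, map_mul, map_inv]

theorem extender_le_normalizerIn (Q : Subgroup Ω) (φ : Q →* Ω) :
    extender T Q φ ≤ normalizerIn T Q := by
  apply (Subgroup.closure_le _).mpr
  rintro g ⟨h1, h2, -⟩
  exact ⟨h1, h2⟩

/-- a fully automized receptive subgroup receives the normalizers of its conjugates -/
theorem exists_map_normalizer {p : ℕ} [Fact p.Prime] [Finite T] (hT : IsPGroup p T)
    (E : FusionSystem T) {P R : Subgroup Ω} (ρ : P →* Ω) (hρ : ρ ∈ E.Hom P) (hR : ρ.range = R)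
    (hfa : E.IsFullyAutomized p R) (hrec : E.IsReceptive R) :
    ∃ χ ∈ E.Hom (normalizerIn T P),
      (∀ (x : Ω) (hx : x ∈ P), χ ⟨x, le_normalizerIn (hom_le E hρ) hx⟩ ∈ R) ∧
      (∀ y ∈ R, ∃ (x : Ω) (hx : x ∈ P), χ ⟨x, le_normalizerIn (hom_le E hρ) hx⟩ = y) ∧
      ∀ g : normalizerIn T P, χ g ∈ normalizerIn T R := by
  have hP : P ≤ T := hom_le E hρ
  have hRT : R ≤ T := hfa.1
  have : Finite P := finite_of_le hP
  have : Finite R := finite_of_le hRT
  let e : P ≃* R := isoOfRange ρ (E.injective_of_mem hρ) hR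
  have he : ∀ x : P, ((e x : R) : Ω) = ρ x := fun x => rfl
  obtain ⟨ψ, hψ, hψ'⟩ := exists_inv E hρ hR
  have hψe : ∀ y : R, ψ y = ((e.symm y : P) : Ω) := by
    intro y
    have h1 := hψ' (e.symm y) (by rw [← he, e.apply_symm_apply]; exact y.2)
    have h2 : (⟨ρ (e.symm y), by rw [← he, e.apply_symm_apply]; exact y.2⟩ : R) = y := by
      apply Subtype.ext
      show ρ (e.symm y) = y
      rw [← he, e.apply_symm_apply]
    rw [h2] at h1
    exact h1
  set K : Subgroup (MulAut R) := (autInducedBy T P).map (MulAut.congr e).toMonoidHom with hKdef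
  have hKp : IsPGroup p K := (isPGroup_autInducedBy T P hT).map _
  have hKle : K ≤ E.autGroup R := by
    rintro _ ⟨α, hα, rfl⟩
    rw [mem_autGroup_iff E hRT]
    have hα' : P.subtype.comp α.toMonoidHom ∈ E.Hom P :=
      (mem_autGroup_iff E hP α).mp (autInducedBy_le_autGroup E hP hα)
    have hψP : ∀ y : R, ψ y ∈ P := fun y => by rw [hψe]; exact (e.symm y).2
    have h1 : (P.subtype.comp α.toMonoidHom).comp (ψ.codRestrict P hψP) ∈ E.Hom R :=
      E.comp_mem hψ hα' hψP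
    refine comp_mem' E h1 hρ (fun y => (α _).2) _ fun y => ?_
    have hy : e.symm y = ⟨ψ y, hψP y⟩ := Subtype.ext (hψe y).symm
    show ρ (α (e.symm y)) = ρ ⟨(α ⟨ψ y, hψP y⟩ : P), _⟩
    rw [hy]
  obtain ⟨a, ha, hak⟩ := exists_conj_into_autInducedBy E hfa K hKp hKle
  let ρ' : P →* Ω := R.subtype.comp (a.toMonoidHom.comp e.toMonoidHom)
  have hρ'app : ∀ x : P, ρ' x = ((a (e x) : R) : Ω) := fun x => rfl
  have haE : R.subtype.comp a.toMonoidHom ∈ E.Hom R := (mem_autGroup_iff E hRT a).mp ha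
  have hρ' : ρ' ∈ E.Hom P :=
    comp_mem' E hρ haE (fun x => (e x).2) ρ' fun x => rfl
  have hρ'R : ρ'.range = R := by
    apply le_antisymm
    · rintro _ ⟨x, rfl⟩
      exact (a (e x)).2
    · intro y hy
      refine ⟨e.symm (a⁻¹ ⟨y, hy⟩), ?_⟩
      rw [hρ'app]
      simp
  have hN : normalizerIn T P ≤ extender T P ρ' := by
    intro g hg
    apply Subgroup.subset_closure
    refine ⟨hg.1, hg.2, ?_⟩
    have hk : (MulAut.congr e) (conjAut P g hg.2) ∈ K :=
      ⟨conjAut P g hg.2, conjAut_mem_autInducedBy T P g hg.2 hg.1, rfl⟩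
    obtain ⟨h, hh, hh'⟩ := (mem_autInducedBy_iff T R _).mp (hak _ hk)
    refine ⟨h, hh, fun x hx => ?_⟩
    have h3 := hh' (a (e x))
    rw [hρ'app, hρ'app, ← h3]
    simp only [MulAut.mul_apply, MulAut.inv_apply_self, MulAut.congr_apply,
      MulEquiv.trans_apply, MulEquiv.symm_apply_apply]
    rfl
  obtain ⟨χ, hχ, hχ'⟩ := hrec.2 P ρ' hρ' hρ'R
  have hχN : χ.comp (Subgroup.inclusion hN) ∈ E.Hom (normalizerIn T P) := restrict_mem E hχ hN
  have key : ∀ (x : Ω) (hx : x ∈ P),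
      (χ.comp (Subgroup.inclusion hN)) ⟨x, le_normalizerIn hP hx⟩ = ρ' ⟨x, hx⟩ :=
    fun x hx => hχ' x hx _
  have h1 : ∀ (x : Ω) (hx : x ∈ P),
      (χ.comp (Subgroup.inclusion hN)) ⟨x, le_normalizerIn hP hx⟩ ∈ R := by
    intro x hx
    rw [key x hx, hρ'app]
    exact (a (e ⟨x, hx⟩)).2
  have h2 : ∀ y ∈ R, ∃ (x : Ω) (hx : x ∈ P),
      (χ.comp (Subgroup.inclusion hN)) ⟨x, le_normalizerIn hP hx⟩ = y := by
    intro y hy
    rw [← hρ'R] at hy
    obtain ⟨x, rfl⟩ := hy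
    exact ⟨x.1, x.2, key x.1 x.2⟩
  refine ⟨χ.comp (Subgroup.inclusion hN), hχN, h1, h2, fun g => ⟨hom_mem E hχN g, ?_⟩⟩
  exact map_mem_normalizer (le_normalizerIn hP) inf_le_right h1 h2 g


/-- in a saturated system, a fully normalized subgroup is fully automized and receptive -/
theorem fullyNormalized_fa_rec {p : ℕ} [Fact p.Prime] [Finite T] (hT : IsPGroup p T)
    (E : FusionSystem T) (hE : E.IsSaturated p) {P : Subgroup Ω} (hP : E.IsFullyNormalized P) :
    E.IsFullyAutomized p P ∧ E.IsReceptive P := by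
  have hPT : P ≤ T := hP.1
  obtain ⟨R, ⟨ρ, hρ, hρR⟩, hfa, hrec⟩ := hE P hPT
  have hRT : R ≤ T := hfa.1
  obtain ⟨χ, hχ, h1, h2, h3⟩ := exists_map_normalizer hT E ρ hρ hρR hfa hrec
  have : Finite P := finite_of_le hPT
  have : Finite R := finite_of_le hRT
  have hNT : normalizerIn T P ≤ T := normalizerIn_le P
  have hN'T : normalizerIn T R ≤ T := normalizerIn_le R
  have : Finite (normalizerIn T P) := finite_of_le hNT
  have : Finite (normalizerIn T R) := finite_of_le hN'T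
  have hχinj := E.injective_of_mem hχ
  -- χ is onto the normalizer of R
  have hrange : χ.range = normalizerIn T R := by
    apply Subgroup.eq_of_le_of_card_ge
    · rintro _ ⟨g, rfl⟩
      exact h3 g
    · rw [← Nat.card_congr (isoOfRange χ hχinj rfl).toEquiv]
      exact hP.2 R ⟨ρ, hρ, hρR⟩
  obtain ⟨χinv, hχinv, hχinv'⟩ := exists_inv E hχ hrange
  -- the restriction of χ to P
  have hPN : P ≤ normalizerIn T P := le_normalizerIn hPT
  have hχP : χ.comp (Subgroup.inclusion hPN) ∈ E.Hom P := restrict_mem E hχ hPN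
  have hχPR : (χ.comp (Subgroup.inclusion hPN)).range = R := by
    apply le_antisymm
    · rintro _ ⟨x, rfl⟩
      exact h1 x.1 x.2
    · intro y hy
      obtain ⟨x, hx, h⟩ := h2 y hy
      exact ⟨⟨x, hx⟩, h⟩
  let eP : P ≃* R := isoOfRange _ (E.injective_of_mem hχP) hχPR
  have heP : ∀ x : P, ((eP x : R) : Ω) = χ ⟨x, hPN x.2⟩ := fun x => rfl
  constructor
  · -- fully automized
    set m := MulAut.congr eP with hm
    have hmapp : ∀ (α : MulAut P) (y : R), m α y = eP (α (eP.symm y)) := fun α y => rfl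
    obtain ⟨ψ, hψ, hψ'⟩ := exists_inv E hχP hχPR
    have hψe : ∀ y : R, ψ y = ((eP.symm y : P) : Ω) := by
      intro y
      have hy : (χ.comp (Subgroup.inclusion hPN)) (eP.symm y) ∈ R := by
        have : ((eP (eP.symm y) : R) : Ω) ∈ R := (eP (eP.symm y)).2
        exact this
      have h4 := hψ' (eP.symm y) hy
      have h5 : (⟨(χ.comp (Subgroup.inclusion hPN)) (eP.symm y), hy⟩ : R) = y := by
        apply Subtype.ext
        show ((eP (eP.symm y) : R) : Ω) = y
        rw [eP.apply_symm_apply]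
      rw [h5] at h4
      exact h4
    have hψP : ∀ y : R, ψ y ∈ P := fun y => by rw [hψe]; exact (eP.symm y).2
    -- Aut_E(P) corresponds to Aut_E(R)
    have hA1 : ∀ α ∈ E.autGroup P, m α ∈ E.autGroup R := by
      intro α hα
      rw [mem_autGroup_iff E hRT]
      have hα' : P.subtype.comp α.toMonoidHom ∈ E.Hom P := (mem_autGroup_iff E hPT α).mp hα
      have h4 : (P.subtype.comp α.toMonoidHom).comp (ψ.codRestrict P hψP) ∈ E.Hom R :=
        E.comp_mem hψ hα' hψP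
      refine comp_mem' E h4 hχP (fun y => (α _).2) _ fun y => ?_
      have hy : eP.symm y = ⟨ψ y, hψP y⟩ := Subtype.ext (hψe y).symm
      show ((eP (α (eP.symm y)) : R) : Ω) = _
      rw [hy]
      rfl
    have hA2 : ∀ β ∈ E.autGroup R, m.symm β ∈ E.autGroup P := by
      intro β hβ
      rw [mem_autGroup_iff E hPT]
      have hβ' : R.subtype.comp β.toMonoidHom ∈ E.Hom R := (mem_autGroup_iff E hRT β).mp hβ
      have h4 : (R.subtype.comp β.toMonoidHom).comp
          ((χ.comp (Subgroup.inclusion hPN)).codRestrict R fun x => (eP x).2) ∈ E.Hom P :=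
        E.comp_mem hχP hβ' _
      refine comp_mem' E h4 hψ (fun x => (β _).2) _ fun x => ?_
      show ((eP.symm (β (eP x)) : P) : Ω) = ψ ⟨((β (eP x) : R) : Ω), _⟩
      rw [← hψe]
    have hAmap : (E.autGroup P).map m.toMonoidHom = E.autGroup R := by
      apply le_antisymm
      · rintro _ ⟨α, hα, rfl⟩
        exact hA1 α hα
      · intro β hβ
        exact ⟨m.symm β, hA2 β hβ, m.apply_symm_apply β⟩
    -- Aut_T(P) corresponds to Aut_T(R)
    have hconjm : ∀ (g : Ω) (hg : g ∈ normalizerIn T P) (y : R),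
        ((m (conjAut P g hg.2) y : R) : Ω) = χ ⟨g, hg⟩ * y * (χ ⟨g, hg⟩)⁻¹ := by
      intro g hg y
      rw [hmapp, heP]
      have h4 : (⟨((conjAut P g hg.2 (eP.symm y) : P) : Ω), hPN (conjAut P g hg.2 (eP.symm y)).2⟩ :
          normalizerIn T P) = ⟨g, hg⟩ * ⟨(eP.symm y : P), hPN (eP.symm y).2⟩ * ⟨g, hg⟩⁻¹ := rfl
      rw [h4, map_mul, map_mul, map_inv, ← heP, eP.apply_symm_apply]
    have hBmap : (autInducedBy T P).map m.toMonoidHom = autInducedBy T R := by
      apply le_antisymm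
      · rintro _ ⟨α, hα, rfl⟩
        obtain ⟨g, hg, hg'⟩ := (mem_autInducedBy_iff T P α).mp hα
        have hgn : g ∈ Subgroup.normalizer (P : Set Ω) := mem_normalizer_of_aut α g hg'
        have hα' : α = conjAut P g hgn := by
          apply MulEquiv.ext; intro x; apply Subtype.ext; exact hg' x
        rw [mem_autInducedBy_iff]
        refine ⟨χ ⟨g, ⟨hg, hgn⟩⟩, hom_mem E hχ _, fun y => ?_⟩
        show ((m α y : R) : Ω) = _
        rw [hα']
        exact hconjm g ⟨hg, hgn⟩ y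
      · intro β hβ
        obtain ⟨h, hh, hh'⟩ := (mem_autInducedBy_iff T R β).mp hβ
        have hhn : h ∈ Subgroup.normalizer (R : Set Ω) := mem_normalizer_of_aut β h hh'
        have hhr : h ∈ χ.range := by rw [hrange]; exact ⟨hh, hhn⟩
        obtain ⟨g, rfl⟩ := hhr
        refine ⟨conjAut P g g.2.2, conjAut_mem_autInducedBy T P g g.2.2 g.2.1, ?_⟩
        apply MulEquiv.ext; intro y; apply Subtype.ext
        rw [hh' y]
        exact hconjm g g.2 y
    obtain ⟨-, Sy', hSy'⟩ := hfa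
    have hBA : autInducedBy T P ≤ E.autGroup P := autInducedBy_le_autGroup E hPT
    have hBA' : autInducedBy T R ≤ E.autGroup R := autInducedBy_le_autGroup E hRT
    have hminj : Function.Injective m.toMonoidHom := m.injective
    have hcard : Nat.card ((autInducedBy T P).subgroupOf (E.autGroup P)) =
        p ^ (Nat.card (E.autGroup P)).factorization p := by
      have e1 : Nat.card ((autInducedBy T P).subgroupOf (E.autGroup P)) =
          Nat.card (autInducedBy T P) :=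
        Nat.card_congr (Subgroup.subgroupOfEquivOfLe hBA).toEquiv
      have e2 : Nat.card (autInducedBy T P) = Nat.card (autInducedBy T R) := by
        rw [← hBmap, Subgroup.card_map_of_injective hminj]
      have e3 : Nat.card ((autInducedBy T R).subgroupOf (E.autGroup R)) =
          Nat.card (autInducedBy T R) :=
        Nat.card_congr (Subgroup.subgroupOfEquivOfLe hBA').toEquiv
      have e4 : Nat.card (E.autGroup P) = Nat.card (E.autGroup R) := by
        rw [← hAmap, Subgroup.card_map_of_injective hminj]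
      have e5 := Sy'.card_eq_multiplicity
      have e6 : Nat.card (Sy' : Subgroup (E.autGroup R)) =
          Nat.card ((autInducedBy T R).subgroupOf (E.autGroup R)) := by rw [hSy']
      rw [e1, e2, ← e3, ← e6, e4]
      exact e5
    exact ⟨hPT, Sylow.ofCard _ hcard, rfl⟩
  · -- receptive
    refine ⟨hPT, fun Q φ hφ hφP => ?_⟩
    have hφN : ∀ x : Q, φ x ∈ normalizerIn T P := fun x => hPN (hφP ▸ ⟨x, rfl⟩)
    let φ₂ : Q →* Ω := χ.comp (φ.codRestrict _ hφN)
    have hφ₂ : φ₂ ∈ E.Hom Q := E.comp_mem hφ hχ hφN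
    have hφ₂app : ∀ x : Q, φ₂ x = χ ⟨φ x, hφN x⟩ := fun x => rfl
    have hφ₂R : φ₂.range = R := by
      apply le_antisymm
      · rintro _ ⟨x, rfl⟩
        exact h1 (φ x) (hφP ▸ ⟨x, rfl⟩)
      · intro y hy
        obtain ⟨x', hx', h⟩ := h2 y hy
        rw [← hφP] at hx'
        obtain ⟨x, rfl⟩ := hx'
        exact ⟨x, h⟩
    obtain ⟨ψ₂, hψ₂, hψ₂'⟩ := hrec.2 Q φ₂ hφ₂ hφ₂R
    have hXle : extender T Q φ ≤ extender T Q φ₂ := by
      apply (Subgroup.closure_le _).mpr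
      rintro g ⟨hgT, hgn, h, hh, hcond⟩
      apply Subgroup.subset_closure
      have hhn : h ∈ Subgroup.normalizer (P : Set Ω) := by
        rw [Subgroup.mem_normalizer_iff]
        intro y
        constructor
        · intro hy
          rw [← hφP] at hy
          obtain ⟨x, rfl⟩ := hy
          have hx : g * (x : Ω) * g⁻¹ ∈ Q := (Subgroup.mem_normalizer_iff.mp hgn x).mp x.2
          rw [← hcond x hx, ← hφP]
          exact ⟨_, rfl⟩
        · intro hy
          rw [← hφP] at hy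
          obtain ⟨x', hx'⟩ := hy
          have hx'' : g⁻¹ * (x' : Ω) * g⁻¹⁻¹ ∈ Q :=
            (Subgroup.mem_normalizer_iff.mp (Subgroup.inv_mem _ hgn) x').mp x'.2
          have hx3 : g * (g⁻¹ * (x' : Ω) * g⁻¹⁻¹) * g⁻¹ ∈ Q := by
            have : g * (g⁻¹ * (x' : Ω) * g⁻¹⁻¹) * g⁻¹ = x' := by group
            rw [this]; exact x'.2
          have h4 := hcond ⟨_, hx''⟩ hx3
          have h5 : (⟨g * (g⁻¹ * (x' : Ω) * g⁻¹⁻¹) * g⁻¹, hx3⟩ : Q) = x' := by
            apply Subtype.ext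
            show g * (g⁻¹ * (x' : Ω) * g⁻¹⁻¹) * g⁻¹ = x'
            group
          rw [h5, hx'] at h4
          have h6 : y = φ ⟨g⁻¹ * (x' : Ω) * g⁻¹⁻¹, hx''⟩ :=
            mul_left_cancel (mul_right_cancel h4)
          rw [h6, ← hφP]
          exact ⟨_, rfl⟩
      refine ⟨hgT, hgn, χ ⟨h, ⟨hh, hhn⟩⟩, hom_mem E hχ _, fun x hx => ?_⟩
      rw [hφ₂app, hφ₂app]
      have h4 : (⟨φ ⟨g * (x : Ω) * g⁻¹, hx⟩, hφN _⟩ : normalizerIn T P) =
          ⟨h, ⟨hh, hhn⟩⟩ * ⟨φ x, hφN x⟩ * ⟨h, ⟨hh, hhn⟩⟩⁻¹ := Subtype.ext (hcond x hx)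
      rw [h4, map_mul, map_mul, map_inv]
    have hψ₃ : ψ₂.comp (Subgroup.inclusion hXle) ∈ E.Hom (extender T Q φ) :=
      restrict_mem E hψ₂ hXle
    have hQX : Q ≤ extender T Q φ := le_extender E hφ
    have hXn : extender T Q φ ≤ Subgroup.normalizer (Q : Set Ω) :=
      (extender_le_normalizerIn Q φ).trans inf_le_right
    have key : ∀ (x : Ω) (hx : x ∈ Q),
        (ψ₂.comp (Subgroup.inclusion hXle)) ⟨x, hQX hx⟩ = φ₂ ⟨x, hx⟩ :=
      fun x hx => hψ₂' x hx _
    have hψ₃N : ∀ g : extender T Q φ,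
        (ψ₂.comp (Subgroup.inclusion hXle)) g ∈ normalizerIn T R := by
      intro g
      refine ⟨hom_mem E hψ₃ g, ?_⟩
      refine map_mem_normalizer hQX hXn ?_ ?_ g
      · intro x hx
        rw [key x hx, ← hφ₂R]
        exact ⟨_, rfl⟩
      · intro y hy
        rw [← hφ₂R] at hy
        obtain ⟨x, rfl⟩ := hy
        exact ⟨x.1, x.2, key x.1 x.2⟩
    refine ⟨χinv.comp ((ψ₂.comp (Subgroup.inclusion hXle)).codRestrict _ hψ₃N),
      E.comp_mem hψ₃ hχinv hψ₃N, fun x hQ hN => ?_⟩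
    show χinv ⟨(ψ₂.comp (Subgroup.inclusion hXle)) ⟨x, hN⟩, _⟩ = φ ⟨x, hQ⟩
    have h4 : (⟨(ψ₂.comp (Subgroup.inclusion hXle)) ⟨x, hN⟩, hψ₃N _⟩ : normalizerIn T R) =
        ⟨χ ⟨φ ⟨x, hQ⟩, hφN _⟩, hrange ▸ ⟨_, rfl⟩⟩ := Subtype.ext (key x hQ)
    rw [h4]
    exact hχinv' ⟨φ ⟨x, hQ⟩, hφN _⟩ _

/-- a fully normalized subgroup of a saturated system receives the normalizers of its conjugates -/
theorem exists_map_normalizer_fn {p : ℕ} [Fact p.Prime] [Finite T] (hT : IsPGroup p T)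
    (E : FusionSystem T) (hE : E.IsSaturated p) {Q P : Subgroup Ω} (φ : Q →* Ω)
    (hφ : φ ∈ E.Hom Q) (hφP : φ.range = P) (hP : E.IsFullyNormalized P) :
    ∃ χ ∈ E.Hom (normalizerIn T Q),
      (∀ (x : Ω) (hx : x ∈ Q), χ ⟨x, le_normalizerIn (hom_le E hφ) hx⟩ ∈ P) ∧
      (∀ y ∈ P, ∃ (x : Ω) (hx : x ∈ Q), χ ⟨x, le_normalizerIn (hom_le E hφ) hx⟩ = y) ∧
      ∀ g : normalizerIn T Q, χ g ∈ normalizerIn T P := by
  obtain ⟨hfa, hrec⟩ := fullyNormalized_fa_rec hT E hE hP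
  exact exists_map_normalizer hT E φ hφ hφP hfa hrec

end Cfsg.Agent.Lib.Helper89
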