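import Cfsg.Agent.Lib.Helper90.Basic
import Cfsg.Agent.Lib.Helper90.Ext
import Cfsg.Agent.Lib.Helper90.Sys
import Cfsg.Agent.Lib.Helper91.Sat
import Cfsg.Agent.Lib.Helper88.FusQuot

/-!
# Characteristic functors on `p`-groups and fusion systems: basic transport lemmas

`W` assigns to every group (in a fixed universe) a subgroup.  `wOf W T` is the value of `W` on the
subgroup `T` of an ambient group, as a subgroup of the ambient group.  We record the transport of
`wOf` along isomorphisms (in particular along maps of a fusion system), and the predicates used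
by the "control of weak closure of elements" skeleton (`WCtlLocal`, `WCtlMain`).
-/

set_option autoImplicit false
universe u

namespace Cfsg.Agent.Lib.Helper89.WCtl

open Cfsg Cfsg.FusionSystem Cfsg.Agent.Lib.Helper90 Cfsg.Agent.Lib.Helper91
  Cfsg.Agent.Lib.Helper88

/-- The value of the functor `W` on the subgroup `T`, as a subgroup of the ambient group. -/
def wOf (W : ∀ (Q : Type u) [Group Q], Subgroup Q) {A : Type u} [Group A] (T : Subgroup A) :
    Subgroup A :=
  (W ↥T).map T.subtype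

theorem wOf_def (W : ∀ (Q : Type u) [Group Q], Subgroup Q) {A : Type u} [Group A]
    (T : Subgroup A) : wOf W T = (W ↥T).map T.subtype := rfl

/-- `W` is carried to `W` by isomorphisms of finite `p`-groups. -/
def FunctorIso (p : ℕ) (W : ∀ (Q : Type u) [Group Q], Subgroup Q) : Prop :=
  ∀ (Q R : Type u) [Group Q] [Group R] [Finite Q], IsPGroup p Q →
    ∀ φ : Q ≃* R, (W Q).map φ.toMonoidHom = W R

/-- `W` contains the centre of every finite `p`-group. -/
def FunctorZ (p : ℕ) (W : ∀ (Q : Type u) [Group Q], Subgroup Q) : Prop :=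
  ∀ (Q : Type u) [Group Q] [Finite Q], IsPGroup p Q → Subgroup.center Q ≤ W Q

section groups

variable (W : ∀ (Q : Type u) [Group Q], Subgroup Q) {p : ℕ}
  {A : Type u} [Group A] {B : Type u} [Group B]

theorem wOf_le (T : Subgroup A) : wOf W T ≤ T := by
  rintro _ ⟨y, -, rfl⟩
  exact y.2

theorem mem_wOf_iff (T : Subgroup A) (x : T) : (x : A) ∈ wOf W T ↔ x ∈ W ↥T := by
  constructor
  · rintro ⟨y, hy, hyx⟩
    have : y = x := Subtype.ext hyx
    rw [← this]
    exact hy
  · intro h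
    exact ⟨x, h, rfl⟩

theorem wOf_equiv (hW2 : FunctorIso p W) {T : Subgroup A} {T' : Subgroup B} [Finite T]
    (hT : IsPGroup p T) (e : T ≃* T') (x : T) :
    (x : A) ∈ wOf W T ↔ ((e x : T') : B) ∈ wOf W T' := by
  rw [mem_wOf_iff, mem_wOf_iff, ← hW2 ↥T ↥T' hT e]
  constructor
  · intro h
    exact ⟨x, h, rfl⟩
  · rintro ⟨y, hy, hyx⟩
    have : y = x := e.injective hyx
    rw [← this]
    exact hy

theorem wOf_center (hWZ : FunctorZ p W) {T : Subgroup A} [Finite T] (hT : IsPGroup p T)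
    {x : A} (hx : x ∈ T) (hc : x ∈ Subgroup.centralizer (T : Set A)) : x ∈ wOf W T := by
  have h1 : (⟨x, hx⟩ : T) ∈ Subgroup.center T := by
    rw [Subgroup.mem_center_iff]
    intro g
    exact Subtype.ext (Subgroup.mem_centralizer_iff.1 hc g g.2)
  exact (mem_wOf_iff W T ⟨x, hx⟩).2 (hWZ ↥T hT h1)

end groups

section fusion

variable (W : ∀ (Q : Type u) [Group Q], Subgroup Q) {p : ℕ}
  {Ω : Type u} [Group Ω] {S : Subgroup Ω} {F : FusionSystem S} {T T' : Subgroup Ω}
  {f : Ω → Ω}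

theorem wOf_mor (hW2 : FunctorIso p W) [Finite T] (hT : IsPGroup p T) (hf : Mor F T f)
    (himg : img T f = T') {y : Ω} (hy : y ∈ T) : y ∈ wOf W T ↔ f y ∈ wOf W T' := by
  obtain ⟨e, he⟩ := hf.exists_equiv himg
  have h := wOf_equiv W hW2 hT e ⟨y, hy⟩
  rw [he] at h
  exact h

theorem wOf_mor_self (hW2 : FunctorIso p W) [Finite T] (hT : IsPGroup p T) (hf : Mor F T f)
    (hfT : ∀ y ∈ T, f y ∈ T) : ∀ y ∈ wOf W T, f y ∈ wOf W T := by
  intro y hy
  exact (wOf_mor W hW2 hT hf (hf.img_eq_self hfT) (wOf_le W T hy)).1 hy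

theorem wOf_mor_img (hW2 : FunctorIso p W) [Finite T] (hT : IsPGroup p T) (hf : Mor F T f)
    (himg : img T f = T') : img (wOf W T) f = wOf W T' := by
  have hV : Mor F (wOf W T) f := hf.restrict (wOf_le W T)
  ext z
  rw [hV.mem_img]
  constructor
  · rintro ⟨y, hy, rfl⟩
    exact (wOf_mor W hW2 hT hf himg (wOf_le W T hy)).1 hy
  · intro hz
    have hz' : z ∈ img T f := himg ▸ wOf_le W T' hz
    obtain ⟨y, hy, rfl⟩ := hf.mem_img.1 hz'
    exact ⟨y, (wOf_mor W hW2 hT hf himg hy).2 hz, rfl⟩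

theorem normalizerIn_le_wOf (hW2 : FunctorIso p W) [Finite S] (hS : IsPGroup p S)
    (hTS : T ≤ S) : normalizerIn S T ≤ normalizerIn S (wOf W T) := by
  intro a ha
  have : Finite T := finite_of_le hTS
  have : Finite (wOf W T) := finite_of_le ((wOf_le W T).trans hTS)
  refine ⟨ha.1, ?_⟩
  apply mem_normalizer_of_finite
  have hm : Mor (innerFusionSystem S) T (fun x => a * x * a⁻¹) := mor_conj _ hTS ha.1
  exact wOf_mor_self W hW2 (hS.to_le hTS) hm
    (fun y hy => conj_mem_of_mem_normalizer ha.2 hy)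

/-- Every automorphism of `W(T)` in the system fixes `x`. -/
def AutW (F : FusionSystem S) (T : Subgroup Ω) (x : Ω) : Prop :=
  ∀ ψ : Ω → Ω, Mor F (wOf W T) ψ → (∀ y ∈ wOf W T, ψ y ∈ wOf W T) → ψ x = x

/-- Every map of the system whose source contains `x` fixes `x`. -/
def FixAll (F : FusionSystem S) (x : Ω) : Prop :=
  ∀ (P : Subgroup Ω) (f : Ω → Ω), Mor F P f → x ∈ P → f x = x

/-- The local hypothesis on the element `x` of `Z(S)`: in every finite group `L` with
`C_L(O_p(L)) ≤ O_p(L)` having (a copy of) a subgroup `R` of `S` containing `Z(S)` as a Sylow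
`p`-subgroup, if `x` is centralized by `N_L(W(R))` then `x` is central in `L`. -/
def LocOK (p : ℕ) (W : ∀ (Q : Type u) [Group Q], Subgroup Q) (S : Subgroup Ω) (x : Ω) : Prop :=
  ∀ (R : Subgroup Ω), R ≤ S → centralizerIn S S ≤ R → ∀ (hx : x ∈ R)
    (L : Type u) [Group L] [Finite L] (ι : ↥R →* L), Function.Injective ι →
    ∀ T : Sylow p L, (T : Subgroup L) = ι.range →
    Subgroup.centralizer ((pCore p L : Subgroup L) : Set L) ≤ pCore p L →
    (∀ g ∈ Subgroup.normalizer ((wOf W (T : Subgroup L) : Subgroup L) : Set L),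
      g * ι ⟨x, hx⟩ * g⁻¹ = ι ⟨x, hx⟩) →
    ∀ g : L, g * ι ⟨x, hx⟩ * g⁻¹ = ι ⟨x, hx⟩

variable {W}

/-- Transport of "automorphisms fix `x`" along a map `θ` of the system fixing `x`. -/
theorem fix_of_conj {H V : Subgroup Ω} {θ : Ω → Ω} {x : Ω} (hθ : Mor F H θ) (hVH : V ≤ H)
    (hxV : x ∈ V) (hθx : θ x = x)
    (h' : ∀ ψ' : Ω → Ω, Mor F (img V θ) ψ' → (∀ y ∈ img V θ, ψ' y ∈ img V θ) → ψ' x = x) :
    ∀ ψ : Ω → Ω, Mor F V ψ → (∀ y ∈ V, ψ y ∈ V) → ψ x = x := by
  intro ψ hψ hψV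
  have hθV : Mor F V θ := hθ.restrict hVH
  have hinv : Mor F (img V θ) (invFn V θ) := hθV.inv
  have h1 : Mor F (img V θ) (ψ ∘ invFn V θ) :=
    hinv.comp hψ (fun y hy => hθV.invFn_mem hy)
  have h2 : Mor F (img V θ) (θ ∘ (ψ ∘ invFn V θ)) :=
    h1.comp hθV (fun y hy => hψV _ (hθV.invFn_mem hy))
  have h3 : ∀ y ∈ img V θ, (θ ∘ (ψ ∘ invFn V θ)) y ∈ img V θ := fun y hy =>
    hθV.mem_img_of_mem (hψV _ (hθV.invFn_mem hy))
  have h4 := h' _ h2 h3
  have h5 : (θ ∘ (ψ ∘ invFn V θ)) x = θ (ψ x) := by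
    show θ (ψ (invFn V θ x)) = θ (ψ x)
    have : invFn V θ x = x := by
      conv_lhs => rw [← hθx]
      exact hθV.invFn_apply hxV
    rw [this]
  rw [h5] at h4
  exact hθV.inj (hψV x hxV) hxV (h4.trans hθx.symm)

theorem mor_of_normalizerSys [Finite S] {Q P : Subgroup Ω} (hQ : Q ≤ S)
    {E : FusionSystem (normalizerIn S Q)} (hE : F.IsNormalizerSystem Q E) {f : Ω → Ω}
    (h : Mor E P f) : Mor F P f :=
  ((isNormalizerSystem_mor_iff hQ hE).1 h).1

theorem locOK_mono {p : ℕ} {S S' : Subgroup Ω} {x : Ω} (hS' : S' ≤ S)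
    (hZ : centralizerIn S S ≤ centralizerIn S' S') (h : LocOK p W S x) : LocOK p W S' x := by
  intro R hR hZR
  exact h R (hR.trans hS') (hZ.trans hZR)

end fusion

end Cfsg.Agent.Lib.Helper89.WCtl
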