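import Cfsg.Agent.Lib.Helper89.WCtlBase
import Cfsg.Agent.Lib.Helper91.KLModel
import Cfsg.Agent.S5090
import Cfsg.Agent.S5098
import Cfsg.Agent.S5126

/-!
# The local step of the weak-closure skeleton

For a fully automized, receptive, `S`-centric subgroup `P` of a saturated fusion system `F`
over `S`, the normalizer system `N_F(P)` has a model `L` (with Sylow `p`-subgroup `N_S(P)`).
If the local hypothesis `LocOK` holds for the element `x ∈ Z(S)` and every `F`-automorphism
of `W(N_S(P))` fixes `x`, then every `F`-automorphism of `P` fixes `x`.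
-/

set_option autoImplicit false
universe u

namespace Cfsg.Agent.Lib.Helper89.WCtl

open Cfsg Cfsg.FusionSystem Cfsg.Agent.Lib.Helper90 Cfsg.Agent.Lib.Helper91
  Cfsg.Agent.Lib.Helper88

variable {W : ∀ (Q : Type u) [Group Q], Subgroup Q} {p : ℕ}
  {Ω : Type u} [Group Ω] {S : Subgroup Ω} {F : FusionSystem S}

theorem mem_centralizer_of_le {P : Subgroup Ω} (hP : P ≤ S) {x : Ω}
    (hx : x ∈ centralizerIn S S) : x ∈ Subgroup.centralizer (P : Set Ω) :=
  Subgroup.centralizer_le (fun _ hy => hP hy) hx.2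

theorem aut_fix_of_local [Finite S] [Fact p.Prime] (hW2 : FunctorIso p W) (hWZ : FunctorZ p W)
    (hS : IsPGroup p S) (hF : F.IsSaturated p) {P : Subgroup Ω}
    (hfa : F.IsFullyAutomized p P) (hrec : F.IsReceptive P) (hc : centralizerIn S P ≤ P)
    {x : Ω} (hxZ : x ∈ centralizerIn S S) (hloc : LocOK p W S x)
    (hK : AutW W F (normalizerIn S P) x) :
    ∀ f : Ω → Ω, Mor F P f → (∀ y ∈ P, f y ∈ P) → f x = x := by
  have hPS : P ≤ S := hfa.1
  have hRS : normalizerIn S P ≤ S := inf_le_left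
  haveI : Finite (normalizerIn S P) := finite_of_le hRS
  have hfn : F.IsFullyNormalized P := fullyNormalized_of_fa_rec hS hfa hrec
  have hcen : F.IsCentric P := centric_of_rec hrec hc
  have hE : F.IsNormalizerSystem P (normalizerSys F P hPS) :=
    normalizerSys_isNormalizerSystem hPS
  have hEsat : (normalizerSys F P hPS).IsSaturated p :=
    Cfsg.Agent.S5098.result p hS F hF P hfn _ hE
  have hEn : (normalizerSys F P hPS).IsNormal P :=
    Cfsg.Agent.S5126.normal_in_normalizer F P hPS _ hE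
  have hEc : (normalizerSys F P hPS).IsCentric P :=
    Cfsg.Agent.S5126.centric_in_normalizer F P hcen _ hE
  have hRp : IsPGroup p (normalizerIn S P) := hS.to_le hRS
  obtain ⟨L, instL, ι, hfin, hreal, ⟨T, hT⟩, hcore⟩ :=
    Cfsg.Agent.S5090.result p hRp (normalizerSys F P hPS) ⟨hEsat, P, hEn, hEc⟩
  intro f hf hfP
  have hxS : x ∈ S := hxZ.1
  have hxP : x ∈ P := hc ⟨hxS, mem_centralizer_of_le hPS hxZ⟩
  have hPR : P ≤ normalizerIn S P := le_normalizerIn hPS
  have hxR : x ∈ normalizerIn S P := hPR hxP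
  have hZR : centralizerIn S S ≤ normalizerIn S P := fun z hz =>
    hPR (hc ⟨hz.1, mem_centralizer_of_le hPS hz⟩)
  have hfE : Mor (normalizerSys F P hPS) P f :=
    (mor_normalizerSys_iff hPS).2
      ⟨hf, hPR, fun y hy => hPR (hfP y hy), extQ_of_le le_rfl hf hfP⟩
  obtain ⟨g, hg⟩ := exists_conj_of_mor hreal hfE
  have key := hloc (normalizerIn S P) hRS hZR hxR L ι hreal.1 T hT hcore ?_ g
  · have h1 := hg x hxP
    rw [aFun_apply' ι hxR, key] at h1
    exact aFun_injOn hreal.1 (hPR (hfP x hxP)) hxR (h1.trans (aFun_apply' ι hxR).symm)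
  · intro n hn
    -- the isomorphism of `N_S(P)` onto the Sylow subgroup `T`
    have hmemT : ∀ y : ↥(normalizerIn S P), ι y ∈ (T : Subgroup L) := fun y => by
      rw [hT]
      exact ⟨y, rfl⟩
    have hbij : Function.Bijective (ι.codRestrict (T : Subgroup L) hmemT) := by
      constructor
      · intro a b hab
        exact hreal.1 (congrArg Subtype.val hab)
      · rintro ⟨t, ht⟩
        have ht' : t ∈ ι.range := hT ▸ ht
        obtain ⟨y, rfl⟩ := ht'
        exact ⟨y, rfl⟩
    have hwT : ∀ (y : Ω) (hy : y ∈ normalizerIn S P),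
        y ∈ wOf W (normalizerIn S P) ↔ ι ⟨y, hy⟩ ∈ wOf W (T : Subgroup L) := fun y hy =>
      wOf_equiv W hW2 hRp (MulEquiv.ofBijective _ hbij) ⟨y, hy⟩
    have hVR : wOf W (normalizerIn S P) ≤ normalizerIn S P := wOf_le W _
    have hnV : ∀ y (hy : y ∈ wOf W (normalizerIn S P)),
        n * ι ⟨y, hVR hy⟩ * n⁻¹ ∈ wOf W (T : Subgroup L) := fun y hy =>
      (Subgroup.mem_normalizer_iff.1 hn _).1 ((hwT y (hVR hy)).1 hy)
    have hconj : ∀ y ∈ wOf W (normalizerIn S P), n * aFun ι y * n⁻¹ ∈ ι.range := by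
      intro y hy
      rw [aFun_apply' ι (hVR hy), ← hT]
      exact wOf_le W _ (hnV y hy)
    obtain ⟨ψ, hψ, hψc⟩ := exists_mor_of_conj hreal hVR n hconj
    have hψF : Mor F (wOf W (normalizerIn S P)) ψ := mor_of_normalizerSys hPS hE hψ
    have hψV : ∀ y ∈ wOf W (normalizerIn S P), ψ y ∈ wOf W (normalizerIn S P) := by
      intro y hy
      have hψR : ψ y ∈ normalizerIn S P := hψ.mem hy
      rw [hwT _ hψR, ← aFun_apply' ι hψR, hψc y hy, aFun_apply' ι (hVR hy)]
      exact hnV y hy
    have hxV : x ∈ wOf W (normalizerIn S P) :=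
      wOf_center W hWZ hRp hxR (mem_centralizer_of_le hRS hxZ)
    have h2 := hK ψ hψF hψV
    have h3 := hψc x hxV
    rw [h2, aFun_apply' ι hxR] at h3
    exact h3.symm

end Cfsg.Agent.Lib.Helper89.WCtl
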