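import Mathlib
import Cfsg.Agent.Lib.Helper66.PAct
import Cfsg.Agent.Lib.Helper89.FusGroup

set_option autoImplicit false

/-!
# Index models of finite subgroups (helper89)

A finite subgroup `P` of a group is described by a bijection `e` from the indices `< n` onto `P`
together with index functions for the product and the inverse.  Subsets are lists of indices;
the checks are written with raw recursors and raw arithmetic on natural numbers, so that the
kernel evaluates them quickly.  Provided: conjugation-invariant subsets (images, filters), a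
chain lemma showing that an element of odd order normalizing a `2`-group centralizes it, and a
checker for certificates showing that there is no proper nontrivial strongly closed subgroup.
-/

namespace Cfsg.Agent.Lib.Helper89

/-! ### Kernel-friendly primitives -/

/-- conjunction by the recursor -/
def ixAnd (a b : Bool) : Bool := Bool.rec (motive := fun _ => Bool) false b a

/-- disjunction by the recursor -/
def ixOr (a b : Bool) : Bool := Bool.rec (motive := fun _ => Bool) b true a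

/-- negation by the recursor -/
def ixNot (a : Bool) : Bool := Bool.rec (motive := fun _ => Bool) true false a

theorem ixAnd_iff (a b : Bool) : ixAnd a b = true ↔ a = true ∧ b = true := by
  cases a <;> cases b <;> simp [ixAnd]

theorem ixOr_iff (a b : Bool) : ixOr a b = true ↔ a = true ∨ b = true := by
  cases a <;> cases b <;> simp [ixOr]

theorem ixNot_iff (a : Bool) : ixNot a = true ↔ a = false := by
  cases a <;> simp [ixNot]

/-- bit `a` of `M` -/
def ixBit (M a : ℕ) : Bool := Nat.beq (Nat.land (Nat.shiftRight M a) 1) 1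

theorem ixBit_eq (M a : ℕ) : ixBit M a = M.testBit a := by
  have h1 : ixBit M a = Nat.beq ((M >>> a) &&& 1) 1 := rfl
  rw [h1, Nat.testBit, Nat.and_comm, Nat.one_and_eq_mod_two]
  rcases Nat.mod_two_eq_zero_or_one (M >>> a) with h | h <;> rw [h] <;> rfl

/-- `p k` for all `k < n` -/
def ixAllN (p : ℕ → Bool) (n : ℕ) : Bool :=
  Nat.rec (motive := fun _ => Bool) true (fun k ih => Bool.rec (motive := fun _ => Bool) false ih (p k)) n

theorem ixAllN_succ (p : ℕ → Bool) (n : ℕ) : ixAllN p (n + 1) = ixAnd (p n) (ixAllN p n) := rfl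

theorem ixAllN_iff (p : ℕ → Bool) (n : ℕ) : ixAllN p n = true ↔ ∀ k < n, p k = true := by
  induction n with
  | zero => exact ⟨fun _ k hk => absurd hk (Nat.not_lt_zero k), fun _ => rfl⟩
  | succ n ih =>
    rw [ixAllN_succ, ixAnd_iff, ih]
    constructor
    · rintro ⟨h1, h2⟩ k hk
      rcases Nat.lt_succ_iff_lt_or_eq.mp hk with h | h
      · exact h2 k h
      · rw [h]; exact h1
    · intro h
      exact ⟨h n (Nat.lt_succ_self n), fun k hk => h k (Nat.lt_succ_of_lt hk)⟩

/-- `p a` for all `a` in the list -/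
def ixAllL (p : ℕ → Bool) (l : List ℕ) : Bool :=
  List.rec (motive := fun _ => Bool) true
    (fun a _ ih => Bool.rec (motive := fun _ => Bool) false ih (p a)) l

theorem ixAllL_cons (p : ℕ → Bool) (a : ℕ) (l : List ℕ) :
    ixAllL p (a :: l) = ixAnd (p a) (ixAllL p l) := rfl

theorem ixAllL_iff (p : ℕ → Bool) (l : List ℕ) : ixAllL p l = true ↔ ∀ a ∈ l, p a = true := by
  induction l with
  | nil => exact ⟨fun _ a ha => absurd ha List.not_mem_nil, fun _ => rfl⟩
  | cons a l ih =>
    rw [ixAllL_cons, ixAnd_iff, ih]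
    simp only [List.mem_cons, forall_eq_or_imp]

/-- the bitwise "or" of the numbers `F a`, for `a` in the list -/
def ixLorL (F : ℕ → ℕ) (l : List ℕ) : ℕ :=
  List.rec (motive := fun _ => ℕ) 0 (fun a _ ih => Nat.lor (F a) ih) l

theorem ixLorL_cons (F : ℕ → ℕ) (a : ℕ) (l : List ℕ) :
    ixLorL F (a :: l) = F a ||| ixLorL F l := rfl

theorem ixLorL_testBit (F : ℕ → ℕ) (l : List ℕ) (c : ℕ) :
    (ixLorL F l).testBit c = true ↔ ∃ a ∈ l, (F a).testBit c = true := by
  induction l with
  | nil =>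
    have h0 : ixLorL F [] = 0 := rfl
    rw [h0, Nat.zero_testBit]
    simp
  | cons a l ih =>
    rw [ixLorL_cons, Nat.testBit_lor, Bool.or_eq_true, ih]
    simp only [List.mem_cons, exists_eq_or_imp]

/-- the number with the single bit `a` -/
def ixOne (a : ℕ) : ℕ := Nat.shiftLeft 1 a

theorem ixOne_testBit (a c : ℕ) : (ixOne a).testBit c = true ↔ a = c := by
  have h : ixOne a = 2 ^ a := by
    show 1 <<< a = 2 ^ a
    rw [Nat.one_shiftLeft]
  rw [h, Nat.testBit_two_pow, decide_eq_true_eq]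

/-- the mask of a list of indices -/
def ixMask (l : List ℕ) : ℕ := ixLorL ixOne l

theorem ixMask_testBit (l : List ℕ) (c : ℕ) : (ixMask l).testBit c = true ↔ c ∈ l := by
  unfold ixMask
  rw [ixLorL_testBit]
  constructor
  · rintro ⟨a, ha, h⟩
    rw [ixOne_testBit] at h
    rw [← h]; exact ha
  · intro h
    exact ⟨c, h, (ixOne_testBit c c).mpr rfl⟩

theorem ixBit_mask (l : List ℕ) (c : ℕ) : ixBit (ixMask l) c = true ↔ c ∈ l := by
  rw [ixBit_eq, ixMask_testBit]

/-- the mask of the images of a list -/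
def ixImg (f : ℕ → ℕ) (l : List ℕ) : ℕ := ixLorL (fun a => ixOne (f a)) l

theorem ixImg_testBit (f : ℕ → ℕ) (l : List ℕ) (c : ℕ) :
    (ixImg f l).testBit c = true ↔ ∃ a ∈ l, f a = c := by
  unfold ixImg
  rw [ixLorL_testBit]
  simp only [ixOne_testBit]

/-- the mask of the images of two lists under a binary function -/
def ixImg2 (f : ℕ → ℕ → ℕ) (l l' : List ℕ) : ℕ := ixLorL (fun a => ixImg (f a) l') l

theorem ixImg2_testBit (f : ℕ → ℕ → ℕ) (l l' : List ℕ) (c : ℕ) :
    (ixImg2 f l l').testBit c = true ↔ ∃ a ∈ l, ∃ b ∈ l', f a b = c := by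
  unfold ixImg2
  rw [ixLorL_testBit]
  simp only [ixImg_testBit]

/-- the mask of the entries of a list passing a test -/
def ixFilt (p : ℕ → Bool) (l : List ℕ) : ℕ :=
  ixLorL (fun a => Bool.rec (motive := fun _ => ℕ) 0 (ixOne a) (p a)) l

theorem ixFilt_testBit (p : ℕ → Bool) (l : List ℕ) (c : ℕ) :
    (ixFilt p l).testBit c = true ↔ c ∈ l ∧ p c = true := by
  unfold ixFilt
  rw [ixLorL_testBit]
  constructor
  · rintro ⟨a, ha, h⟩
    cases hp : p a with
    | false =>
      rw [hp] at h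
      have h' : (0 : ℕ).testBit c = true := h
      rw [Nat.zero_testBit] at h'
      exact absurd h' (by simp)
    | true =>
      rw [hp] at h
      have h' : (ixOne a).testBit c = true := h
      rw [ixOne_testBit] at h'
      rw [← h']; exact ⟨ha, hp⟩
  · rintro ⟨hc, hp⟩
    refine ⟨c, hc, ?_⟩
    rw [hp]
    exact (ixOne_testBit c c).mpr rfl

/-- the list, from its mask -/
theorem ix_mem_of_mask_eq {M : ℕ} {l : List ℕ} (h : M = ixMask l) (c : ℕ) :
    c ∈ l ↔ M.testBit c = true := by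
  rw [h, ixMask_testBit]

/-! ### Index models -/

/-- `e` maps the indices `< n` bijectively onto the subgroup `P`, and `mul`, `inv`, `one`
compute the product, the inverse and the identity on indices -/
structure IxModel {Ω : Type*} [Group Ω] (P : Subgroup Ω) (n : ℕ) (e : ℕ → Ω)
    (mul : ℕ → ℕ → ℕ) (inv : ℕ → ℕ) (one : ℕ) : Prop where
  mem : ∀ a < n, e a ∈ P
  surj : ∀ x ∈ P, ∃ a < n, e a = x
  inj : ∀ a < n, ∀ b < n, e a = e b → a = b
  mul_lt : ∀ a < n, ∀ b < n, mul a b < n
  e_mul : ∀ a < n, ∀ b < n, e (mul a b) = e a * e b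
  inv_lt : ∀ a < n, inv a < n
  e_inv : ∀ a < n, e (inv a) = (e a)⁻¹
  one_lt : one < n
  e_one : e one = 1

/-- the set of the elements with index in the list -/
def ixSet {Ω : Type*} (e : ℕ → Ω) (l : List ℕ) : Set Ω := {x | ∃ a ∈ l, e a = x}

/-- conjugation by `g` and by `g⁻¹` preserve the set -/
def CInv {Ω : Type*} [Group Ω] (g : Ω) (X : Set Ω) : Prop :=
  ∀ x ∈ X, g * x * g⁻¹ ∈ X ∧ g⁻¹ * x * g ∈ X

/-- the list consists of indices `< n`, and conjugation by `g` and `g⁻¹` preserve its set -/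
def IxInv {Ω : Type*} [Group Ω] (n : ℕ) (e : ℕ → Ω) (g : Ω) (l : List ℕ) : Prop :=
  (∀ a ∈ l, a < n) ∧ CInv g (ixSet e l)

section

variable {Ω : Type*} [Group Ω] {P : Subgroup Ω} {n : ℕ} {e : ℕ → Ω} {mul : ℕ → ℕ → ℕ}
  {inv : ℕ → ℕ} {one : ℕ}

theorem IxModel.card (D : IxModel P n e mul inv one) : Nat.card P = n := by
  have hb : Function.Bijective (fun a : Fin n => (⟨e a, D.mem a a.2⟩ : P)) := by
    constructor
    · intro a b h
      exact Fin.ext (D.inj a a.2 b b.2 (congrArg Subtype.val h))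
    · rintro ⟨x, hx⟩
      obtain ⟨a, ha, rfl⟩ := D.surj x hx
      exact ⟨⟨a, ha⟩, rfl⟩
  rw [← Nat.card_congr (Equiv.ofBijective _ hb), Nat.card_fin]

theorem IxModel.mem_ixSet (D : IxModel P n e mul inv one) {l : List ℕ} (hl : ∀ a ∈ l, a < n)
    {a : ℕ} (ha : a < n) : e a ∈ ixSet e l ↔ a ∈ l := by
  constructor
  · rintro ⟨b, hb, h⟩
    rw [← D.inj b (hl b hb) a ha h]; exact hb
  · intro h
    exact ⟨a, h, rfl⟩

theorem IxModel.ixSet_sub (D : IxModel P n e mul inv one) {l : List ℕ} (hl : ∀ a ∈ l, a < n) :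
    ixSet e l ⊆ (P : Set Ω) := by
  rintro x ⟨a, ha, rfl⟩
  exact D.mem a (hl a ha)

/-- the set of the full list -/
theorem IxModel.ixSet_range (D : IxModel P n e mul inv one) :
    ixSet e (List.range n) = (P : Set Ω) := by
  ext x
  constructor
  · rintro ⟨a, ha, rfl⟩
    exact D.mem a (List.mem_range.mp ha)
  · intro hx
    obtain ⟨a, ha, rfl⟩ := D.surj x hx
    exact ⟨a, List.mem_range.mpr ha, rfl⟩

/-- the full list is invariant under an element normalizing `P` -/
theorem IxModel.inv_range (D : IxModel P n e mul inv one) {g : Ω}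
    (hg : ∀ x ∈ P, g * x * g⁻¹ ∈ P) : IxInv n e g (List.range n) := by
  have : Finite P := Nat.finite_of_card_ne_zero (by
    rw [D.card]; exact Nat.ne_of_gt (Nat.lt_of_le_of_lt (Nat.zero_le _) D.one_lt))
  refine ⟨fun a ha => List.mem_range.mp ha, ?_⟩
  rw [D.ixSet_range]
  have hN : g ∈ Subgroup.normalizer (P : Set Ω) := mem_normalizer_of_conj_mem P hg
  have hN' := Subgroup.inv_mem _ hN
  intro x hx
  refine ⟨hg x hx, ?_⟩
  have := (Subgroup.mem_normalizer_iff.mp hN' x).mp hx
  rwa [inv_inv] at this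

/-- the identity alone -/
theorem IxModel.inv_one (D : IxModel P n e mul inv one) (g : Ω) : IxInv n e g [one] := by
  refine ⟨fun a ha => by rw [List.mem_singleton.mp ha]; exact D.one_lt, ?_⟩
  rintro x ⟨a, ha, rfl⟩
  rw [List.mem_singleton.mp ha, D.e_one]
  have h1 : g * 1 * g⁻¹ = (1 : Ω) := by group
  have h2 : g⁻¹ * 1 * g = (1 : Ω) := by group
  rw [h1, h2]
  exact ⟨⟨one, List.mem_singleton.mpr rfl, D.e_one⟩, ⟨one, List.mem_singleton.mpr rfl, D.e_one⟩⟩

/-- images under a unary map compatible with conjugation -/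
theorem IxModel.inv_img (_D : IxModel P n e mul inv one) {g : Ω} (f : ℕ → ℕ) (F : Ω → Ω)
    (hf : ∀ a < n, f a < n ∧ e (f a) = F (e a))
    (hF : ∀ h x : Ω, h * F x * h⁻¹ = F (h * x * h⁻¹))
    {X Y : List ℕ} (hX : IxInv n e g X) (h : ixImg f X = ixMask Y) : IxInv n e g Y := by
  have hY : ∀ c, c ∈ Y ↔ ∃ a ∈ X, f a = c := by
    intro c
    rw [← ixMask_testBit, ← h, ixImg_testBit]
  have hset : ixSet e Y = F '' ixSet e X := by
    ext x
    constructor
    · rintro ⟨c, hc, rfl⟩
      obtain ⟨a, ha, rfl⟩ := (hY c).mp hc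
      exact ⟨e a, ⟨a, ha, rfl⟩, ((hf a (hX.1 a ha)).2).symm⟩
    · rintro ⟨y, ⟨a, ha, rfl⟩, rfl⟩
      exact ⟨f a, (hY _).mpr ⟨a, ha, rfl⟩, (hf a (hX.1 a ha)).2⟩
  refine ⟨?_, ?_⟩
  · intro c hc
    obtain ⟨a, ha, rfl⟩ := (hY c).mp hc
    exact (hf a (hX.1 a ha)).1
  · rw [hset]
    rintro x ⟨y, hy, rfl⟩
    have h1 := hF g y
    have h2 := hF g⁻¹ y
    rw [inv_inv] at h2
    rw [h1, h2]
    exact ⟨⟨_, (hX.2 y hy).1, rfl⟩, ⟨_, (hX.2 y hy).2, rfl⟩⟩

/-- images under a binary map compatible with conjugation -/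
theorem IxModel.inv_img2 (_D : IxModel P n e mul inv one) {g : Ω} (f : ℕ → ℕ → ℕ)
    (F : Ω → Ω → Ω) (hf : ∀ a < n, ∀ b < n, f a b < n ∧ e (f a b) = F (e a) (e b))
    (hF : ∀ h x y : Ω, h * F x y * h⁻¹ = F (h * x * h⁻¹) (h * y * h⁻¹))
    {X Y Z : List ℕ} (hX : IxInv n e g X) (hY : IxInv n e g Y)
    (h : ixImg2 f X Y = ixMask Z) : IxInv n e g Z := by
  have hZ : ∀ c, c ∈ Z ↔ ∃ a ∈ X, ∃ b ∈ Y, f a b = c := by
    intro c
    rw [← ixMask_testBit, ← h, ixImg2_testBit]
  have hset : ixSet e Z = Set.image2 F (ixSet e X) (ixSet e Y) := by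
    ext x
    constructor
    · rintro ⟨c, hc, rfl⟩
      obtain ⟨a, ha, b, hb, rfl⟩ := (hZ c).mp hc
      exact ⟨e a, ⟨a, ha, rfl⟩, e b, ⟨b, hb, rfl⟩, ((hf a (hX.1 a ha) b (hY.1 b hb)).2).symm⟩
    · rintro ⟨y, ⟨a, ha, rfl⟩, y', ⟨b, hb, rfl⟩, rfl⟩
      exact ⟨f a b, (hZ _).mpr ⟨a, ha, b, hb, rfl⟩, (hf a (hX.1 a ha) b (hY.1 b hb)).2⟩
  refine ⟨?_, ?_⟩
  · intro c hc
    obtain ⟨a, ha, b, hb, rfl⟩ := (hZ c).mp hc
    exact (hf a (hX.1 a ha) b (hY.1 b hb)).1
  · rw [hset]
    rintro x ⟨y, hy, y', hy', rfl⟩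
    have h1 := hF g y y'
    have h2 := hF g⁻¹ y y'
    rw [inv_inv] at h2
    rw [h1, h2]
    exact ⟨⟨_, (hX.2 y hy).1, _, (hY.2 y' hy').1, rfl⟩, ⟨_, (hX.2 y hy).2, _, (hY.2 y' hy').2, rfl⟩⟩

/-- the entries passing a test which expresses a property compatible with conjugation -/
theorem IxModel.inv_filt (D : IxModel P n e mul inv one) {g : Ω} (p : ℕ → Bool) (Q : Ω → Prop)
    (hp : ∀ a < n, (p a = true ↔ Q (e a)))
    (hQ : ∀ x ∈ P, Q x → Q (g * x * g⁻¹) ∧ Q (g⁻¹ * x * g))
    {X Y : List ℕ} (hX : IxInv n e g X) (h : ixFilt p X = ixMask Y) : IxInv n e g Y := by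
  have hY : ∀ c, c ∈ Y ↔ c ∈ X ∧ p c = true := by
    intro c
    rw [← ixMask_testBit, ← h, ixFilt_testBit]
  refine ⟨fun c hc => hX.1 c ((hY c).mp hc).1, ?_⟩
  rintro x ⟨c, hc, rfl⟩
  obtain ⟨hcX, hpc⟩ := (hY c).mp hc
  have hcn := hX.1 c hcX
  have hq := (hp c hcn).mp hpc
  have hx := hX.2 (e c) ⟨c, hcX, rfl⟩
  have hq' := hQ (e c) (D.mem c hcn) hq
  constructor
  · obtain ⟨b, hb, hbe⟩ := hx.1
    refine ⟨b, (hY b).mpr ⟨hb, (hp b (hX.1 b hb)).mpr ?_⟩, hbe⟩
    rw [hbe]; exact hq'.1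
  · obtain ⟨b, hb, hbe⟩ := hx.2
    refine ⟨b, (hY b).mpr ⟨hb, (hp b (hX.1 b hb)).mpr ?_⟩, hbe⟩
    rw [hbe]; exact hq'.2

/-- squares -/
theorem IxModel.inv_sq (D : IxModel P n e mul inv one) {g : Ω} {X Y : List ℕ}
    (hX : IxInv n e g X) (h : ixImg (fun a => mul a a) X = ixMask Y) : IxInv n e g Y :=
  D.inv_img (fun a => mul a a) (fun x => x * x)
    (fun a ha => ⟨D.mul_lt a ha a ha, D.e_mul a ha a ha⟩) (fun h x => by group) hX h

/-- products -/
theorem IxModel.inv_prd (D : IxModel P n e mul inv one) {g : Ω} {X Y Z : List ℕ}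
    (hX : IxInv n e g X) (hY : IxInv n e g Y) (h : ixImg2 mul X Y = ixMask Z) :
    IxInv n e g Z :=
  D.inv_img2 mul (fun x y => x * y)
    (fun a ha b hb => ⟨D.mul_lt a ha b hb, D.e_mul a ha b hb⟩) (fun h x y => by group) hX hY h

/-- the index of the commutator -/
def ixComm (mul : ℕ → ℕ → ℕ) (inv : ℕ → ℕ) (a b : ℕ) : ℕ := mul (mul a b) (inv (mul b a))

theorem IxModel.ixComm_spec (D : IxModel P n e mul inv one) {a b : ℕ} (ha : a < n) (hb : b < n) :
    ixComm mul inv a b < n ∧ e (ixComm mul inv a b) = e a * e b * (e b * e a)⁻¹ := by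
  have h1 := D.mul_lt a ha b hb
  have h2 := D.mul_lt b hb a ha
  have h3 := D.inv_lt _ h2
  refine ⟨D.mul_lt _ h1 _ h3, ?_⟩
  show e (mul (mul a b) (inv (mul b a))) = _
  rw [D.e_mul _ h1 _ h3, D.e_mul a ha b hb, D.e_inv _ h2, D.e_mul b hb a ha]

/-- commutators -/
theorem IxModel.inv_cms (D : IxModel P n e mul inv one) {g : Ω} {X Y Z : List ℕ}
    (hX : IxInv n e g X) (hY : IxInv n e g Y) (h : ixImg2 (ixComm mul inv) X Y = ixMask Z) :
    IxInv n e g Z :=
  D.inv_img2 (ixComm mul inv) (fun x y => x * y * (y * x)⁻¹)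
    (fun _ ha _ hb => D.ixComm_spec ha hb) (fun h x y => by group) hX hY h

/-- the entries of `X` outside `Y` -/
theorem IxModel.inv_dif (D : IxModel P n e mul inv one) {g : Ω} {X Y Z : List ℕ}
    (hX : IxInv n e g X) (hY : IxInv n e g Y)
    (h : ixFilt (fun a => ixNot (ixBit (ixMask Y) a)) X = ixMask Z) : IxInv n e g Z := by
  refine D.inv_filt _ (fun x => x ∉ ixSet e Y) ?_ ?_ hX h
  · intro a ha
    rw [ixNot_iff, D.mem_ixSet hY.1 ha, ← ixBit_mask, Bool.not_eq_true]
  · intro x _ hx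
    constructor
    · intro h'
      have := (hY.2 _ h').2
      have e1 : g⁻¹ * (g * x * g⁻¹) * g = x := by group
      rw [e1] at this
      exact hx this
    · intro h'
      have := (hY.2 _ h').1
      have e1 : g * (g⁻¹ * x * g) * g⁻¹ = x := by group
      rw [e1] at this
      exact hx this

/-- the entries of `X` in `Y` -/
theorem IxModel.inv_int (D : IxModel P n e mul inv one) {g : Ω} {X Y Z : List ℕ}
    (hX : IxInv n e g X) (hY : IxInv n e g Y)
    (h : ixFilt (fun a => ixBit (ixMask Y) a) X = ixMask Z) : IxInv n e g Z := by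
  refine D.inv_filt _ (fun x => x ∈ ixSet e Y) ?_ ?_ hX h
  · intro a ha
    rw [D.mem_ixSet hY.1 ha, ixBit_mask]
  · intro x _ hx
    exact hY.2 x hx

/-- the entries of `X` commuting with all entries of `Y` -/
theorem IxModel.inv_cen (D : IxModel P n e mul inv one) {g : Ω} {X Y Z : List ℕ}
    (hX : IxInv n e g X) (hY : IxInv n e g Y)
    (h : ixFilt (fun a => ixAllL (fun b => Nat.beq (mul a b) (mul b a)) Y) X = ixMask Z) :
    IxInv n e g Z := by
  refine D.inv_filt _ (fun x => ∀ y ∈ ixSet e Y, x * y = y * x) ?_ ?_ hX h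
  · intro a ha
    rw [ixAllL_iff]
    constructor
    · rintro h1 y ⟨b, hb, rfl⟩
      have h2 := Nat.eq_of_beq_eq_true (h1 b hb)
      have hbn := hY.1 b hb
      rw [← D.e_mul a ha b hbn, ← D.e_mul b hbn a ha, h2]
    · intro h1 b hb
      have hbn := hY.1 b hb
      have h2 := h1 (e b) ⟨b, hb, rfl⟩
      rw [← D.e_mul a ha b hbn, ← D.e_mul b hbn a ha] at h2
      have h3 := D.inj _ (D.mul_lt a ha b hbn) _ (D.mul_lt b hbn a ha) h2
      rw [h3]
      exact Nat.beq_refl _
  · intro x _ hx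
    constructor
    · intro y hy
      have h1 := hx _ (hY.2 y hy).2
      calc g * x * g⁻¹ * y = g * (x * (g⁻¹ * y * g)) * g⁻¹ := by group
        _ = g * ((g⁻¹ * y * g) * x) * g⁻¹ := by rw [h1]
        _ = y * (g * x * g⁻¹) := by group
    · intro y hy
      have h1 := hx _ (hY.2 y hy).1
      calc g⁻¹ * x * g * y = g⁻¹ * (x * (g * y * g⁻¹)) * g := by group
        _ = g⁻¹ * ((g * y * g⁻¹) * x) * g := by rw [h1]
        _ = y * (g⁻¹ * x * g) := by group

/-- the entries of `X` with `F x = 1`, for a map compatible with conjugation -/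
theorem IxModel.inv_kerF (D : IxModel P n e mul inv one) {g : Ω} (f : ℕ → ℕ) (F : Ω → Ω)
    (hf : ∀ a < n, f a < n ∧ e (f a) = F (e a))
    (hF : ∀ h x : Ω, h * F x * h⁻¹ = F (h * x * h⁻¹))
    {X Z : List ℕ} (hX : IxInv n e g X)
    (h : ixFilt (fun a => Nat.beq (f a) one) X = ixMask Z) : IxInv n e g Z := by
  refine D.inv_filt _ (fun x => F x = 1) ?_ ?_ hX h
  · intro a ha
    obtain ⟨h1, h2⟩ := hf a ha
    constructor
    · intro h3
      rw [← h2, Nat.eq_of_beq_eq_true h3, D.e_one]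
    · intro h3
      rw [← h2, ← D.e_one] at h3
      rw [D.inj _ h1 _ D.one_lt h3]
      exact Nat.beq_refl _
  · intro x _ hx
    have h1 := hF g x
    have h2 := hF g⁻¹ x
    rw [inv_inv] at h2
    rw [hx] at h1 h2
    constructor
    · rw [← h1]; group
    · rw [← h2]; group

/-- the entries of `X` whose image under `F` lies in `Y`, for a map compatible with
conjugation -/
theorem IxModel.inv_inF (D : IxModel P n e mul inv one) {g : Ω} (f : ℕ → ℕ) (F : Ω → Ω)
    (hf : ∀ a < n, f a < n ∧ e (f a) = F (e a))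
    (hF : ∀ h x : Ω, h * F x * h⁻¹ = F (h * x * h⁻¹))
    {X Y Z : List ℕ} (hX : IxInv n e g X) (hY : IxInv n e g Y)
    (h : ixFilt (fun a => ixBit (ixMask Y) (f a)) X = ixMask Z) : IxInv n e g Z := by
  refine D.inv_filt _ (fun x => F x ∈ ixSet e Y) ?_ ?_ hX h
  · intro a ha
    obtain ⟨h1, h2⟩ := hf a ha
    rw [← h2, D.mem_ixSet hY.1 h1, ixBit_mask]
  · intro x _ hx
    have h1 := hF g x
    have h2 := hF g⁻¹ x
    rw [inv_inv] at h2
    rw [← h1, ← h2]
    exact hY.2 _ hx

/-- the entries of `X` whose image under `F` lies outside `Y`, for a map compatible with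
conjugation -/
theorem IxModel.inv_ninF (D : IxModel P n e mul inv one) {g : Ω} (f : ℕ → ℕ) (F : Ω → Ω)
    (hf : ∀ a < n, f a < n ∧ e (f a) = F (e a))
    (hF : ∀ h x : Ω, h * F x * h⁻¹ = F (h * x * h⁻¹))
    {X Y Z : List ℕ} (hX : IxInv n e g X) (hY : IxInv n e g Y)
    (h : ixFilt (fun a => ixNot (ixBit (ixMask Y) (f a))) X = ixMask Z) : IxInv n e g Z := by
  refine D.inv_filt _ (fun x => F x ∉ ixSet e Y) ?_ ?_ hX h
  · intro a ha
    obtain ⟨h1, h2⟩ := hf a ha
    rw [ixNot_iff, ← h2, D.mem_ixSet hY.1 h1, ← ixBit_mask, Bool.not_eq_true]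
  · intro x _ hx
    have h1 := hF g x
    have h2 := hF g⁻¹ x
    rw [inv_inv] at h2
    rw [← h1, ← h2]
    constructor
    · intro h'
      have := (hY.2 _ h').2
      have e1 : g⁻¹ * (g * F x * g⁻¹) * g = F x := by group
      rw [e1] at this
      exact hx this
    · intro h'
      have := (hY.2 _ h').1
      have e1 : g * (g⁻¹ * F x * g) * g⁻¹ = F x := by group
      rw [e1] at this
      exact hx this

theorem IxModel.sq_spec (D : IxModel P n e mul inv one) :
    ∀ a < n, mul a a < n ∧ e (mul a a) = e a * e a :=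
  fun a ha => ⟨D.mul_lt a ha a ha, D.e_mul a ha a ha⟩

/-- the entries of `X` of order at most `2` -/
theorem IxModel.inv_ord2 (D : IxModel P n e mul inv one) {g : Ω} {X Z : List ℕ}
    (hX : IxInv n e g X) (h : ixFilt (fun a => Nat.beq (mul a a) one) X = ixMask Z) :
    IxInv n e g Z :=
  D.inv_kerF (fun a => mul a a) (fun x => x * x) D.sq_spec (fun h x => by group) hX h

/-- the entries of `X` whose square lies in `Y` -/
theorem IxModel.inv_sqin (D : IxModel P n e mul inv one) {g : Ω} {X Y Z : List ℕ}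
    (hX : IxInv n e g X) (hY : IxInv n e g Y)
    (h : ixFilt (fun a => ixBit (ixMask Y) (mul a a)) X = ixMask Z) : IxInv n e g Z :=
  D.inv_inF (fun a => mul a a) (fun x => x * x) D.sq_spec (fun h x => by group) hX hY h

/-- the entries of `X` whose square lies outside `Y` -/
theorem IxModel.inv_sqnin (D : IxModel P n e mul inv one) {g : Ω} {X Y Z : List ℕ}
    (hX : IxInv n e g X) (hY : IxInv n e g Y)
    (h : ixFilt (fun a => ixNot (ixBit (ixMask Y) (mul a a))) X = ixMask Z) : IxInv n e g Z :=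
  D.inv_ninF (fun a => mul a a) (fun x => x * x) D.sq_spec (fun h x => by group) hX hY h

/-- the entries of a list passing the bound check are indices `< n` -/
theorem ix_valid_of_check {n : ℕ} {l : List ℕ} (h : ixAllL (fun a => Nat.blt a n) l = true) :
    ∀ a ∈ l, a < n := fun a ha => Nat.blt_eq.mp ((ixAllL_iff _ _).mp h a ha)

/-! ### The chain lemma -/

/-- `g` centralizes the elements with index in the list -/
def IxCen (e : ℕ → Ω) (g : Ω) (l : List ℕ) : Prop := ∀ a ∈ l, g * e a * g⁻¹ = e a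

/-- every entry of `X` lies in `C` or in the coset `C r` -/
def ixCosetOK (mul : ℕ → ℕ → ℕ) (inv : ℕ → ℕ) (C : List ℕ) (r : ℕ) (X : List ℕ) : Bool :=
  ixAllL (fun w => ixOr (ixBit (ixMask C) w) (ixBit (ixMask C) (mul w (inv r)))) X

theorem IxModel.cen_one (D : IxModel P n e mul inv one) (g : Ω) : IxCen e g [one] := by
  intro a ha
  rw [List.mem_singleton.mp ha, D.e_one]
  group

/-- if `g` of odd order centralizes `C`, and the invariant list `W` lies in `C ∪ C r` with
`r` in `W`, then `g` centralizes every list inside `C ∪ C r` -/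
theorem IxModel.cen_step (D : IxModel P n e mul inv one) {g : Ω} {m : ℕ} (hm : g ^ m = 1)
    (hcop : Nat.Coprime m 2) (h2 : ∀ x ∈ P, ∃ k : ℕ, x ^ 2 ^ k = 1)
    {C C' W : List ℕ} {r : ℕ} (hC : ∀ a ∈ C, a < n) (hCc : IxCen e g C)
    (hW : IxInv n e g W) (hC' : ∀ a ∈ C', a < n)
    (hr : ixBit (ixMask W) r = true)
    (hW' : ixCosetOK mul inv C r W = true) (hCC : ixCosetOK mul inv C r C' = true) :
    IxCen e g C' := by
  rw [ixBit_mask] at hr
  have hrn := hW.1 r hr
  have hirn := D.inv_lt r hrn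
  have hcos : ∀ {X : List ℕ}, (∀ a ∈ X, a < n) → ixCosetOK mul inv C r X = true →
      ∀ w ∈ X, w ∈ C ∨ (∃ c ∈ C, e c = e w * (e r)⁻¹) := by
    intro X hX hok w hw
    have h1 := (ixAllL_iff _ _).mp hok w hw
    rw [ixOr_iff, ixBit_mask, ixBit_mask] at h1
    rcases h1 with h1 | h1
    · exact Or.inl h1
    · refine Or.inr ⟨_, h1, ?_⟩
      rw [D.e_mul w (hX w hw) _ hirn, D.e_inv r hrn]
  -- first `r`
  have hrc : g * e r * g⁻¹ = e r := by
    obtain ⟨u, hu, hgu⟩ := (hW.2 (e r) ⟨r, hr, rfl⟩).1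
    rcases hcos hW.1 hW' u hu with huC | ⟨c', hc', hce⟩
    · have h1 := hCc u huC
      have h3 : e r = e u := by
        have h4 : g * e r * g⁻¹ = g * e u * g⁻¹ := by rw [← hgu, h1]
        exact mul_left_cancel (mul_right_cancel h4)
      rw [h3]; exact h1
    · have hgc := hCc c' hc'
      rw [hce] at hgc
      have hcP : e u * (e r)⁻¹ ∈ P := by rw [← hce]; exact D.mem c' (hC c' hc')
      set c := e u * (e r)⁻¹ with hcdef
      have hgb : g * e r * g⁻¹ = c * e r := by rw [← hgu, hcdef]; group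
      have hpow : ∀ k : ℕ, g ^ k * e r * (g ^ k)⁻¹ = c ^ k * e r := by
        intro k
        induction k with
        | zero => simp
        | succ k ih =>
          have hck : g * c ^ k * g⁻¹ = c ^ k := by rw [← conj_pow, hgc]
          calc g ^ (k + 1) * e r * (g ^ (k + 1))⁻¹
              = g * (g ^ k * e r * (g ^ k)⁻¹) * g⁻¹ := by rw [pow_succ']; group
            _ = g * (c ^ k * e r) * g⁻¹ := by rw [ih]
            _ = (g * c ^ k * g⁻¹) * (g * e r * g⁻¹) := by group
            _ = c ^ k * (c * e r) := by rw [hck, hgb]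
            _ = c ^ (k + 1) * e r := by rw [pow_succ]; group
      have hcm : c ^ m = 1 := by
        have h5 := hpow m
        rw [hm, one_mul, _root_.inv_one, mul_one] at h5
        exact (mul_eq_right).mp h5.symm
      obtain ⟨k, hk⟩ := h2 _ hcP
      have hc1 : c = 1 := by
        have h6 : orderOf c ∣ m := orderOf_dvd_of_pow_eq_one hcm
        have h7 : orderOf c ∣ 2 ^ k := orderOf_dvd_of_pow_eq_one hk
        have h8 : orderOf c = 1 :=
          Nat.eq_one_of_dvd_coprimes (Nat.Coprime.pow_right k hcop) h6 h7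
        exact orderOf_eq_one_iff.mp h8
      rw [hgb, hc1, one_mul]
  intro b hb
  rcases hcos hC' hCC b hb with hbC | ⟨c', hc', hce⟩
  · exact hCc b hbC
  · have hgc := hCc c' hc'
    rw [hce] at hgc
    calc g * e b * g⁻¹
        = (g * (e b * (e r)⁻¹) * g⁻¹) * (g * e r * g⁻¹) := by group
      _ = e b * (e r)⁻¹ * e r := by rw [hgc, hrc]
      _ = e b := by group

/-- `g` centralizes `P` as soon as it centralizes the full list -/
theorem IxModel.centralize_of_range (D : IxModel P n e mul inv one) {g : Ω}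
    (h : IxCen e g (List.range n)) : ∀ x ∈ P, g * x * g⁻¹ = x := by
  intro x hx
  obtain ⟨a, ha, rfl⟩ := D.surj x hx
  exact h a (List.mem_range.mpr ha)

theorem IxModel.two_pow (_D : IxModel P n e mul inv one) (hP : IsPGroup 2 P) :
    ∀ x ∈ P, ∃ k : ℕ, x ^ 2 ^ k = 1 := by
  intro x hx
  obtain ⟨k, hk⟩ := hP ⟨x, hx⟩
  exact ⟨k, congrArg Subtype.val hk⟩

/-! ### Certificates for the absence of strongly closed subgroups -/

/-- a step of a certificate: the conjugate `b` of the known entry `a` by the fusing element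
number `gi`, or the product of two known entries -/
inductive IxStep where
  | fus (a b gi : ℕ)
  | mul (a b : ℕ)

/-- perform one step on the mask of known entries (invalid steps are skipped) -/
def ixStep (fusOK : ℕ → ℕ → ℕ → Bool) (mul : ℕ → ℕ → ℕ) (K : ℕ) : IxStep → ℕ
  | .fus a b gi =>
      Bool.rec (motive := fun _ => ℕ) K (Nat.lor K (ixOne b)) (ixAnd (ixBit K a) (fusOK a b gi))
  | .mul a b =>
      Bool.rec (motive := fun _ => ℕ) K (Nat.lor K (ixOne (mul a b)))
        (ixAnd (ixBit K a) (ixBit K b))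

/-- run a certificate -/
def ixRun (fusOK : ℕ → ℕ → ℕ → Bool) (mul : ℕ → ℕ → ℕ) (steps : List IxStep) (K : ℕ) : ℕ :=
  steps.foldl (ixStep fusOK mul) K

theorem ix_testBit_lor_one {K b c : ℕ} (h : (Nat.lor K (ixOne b)).testBit c = true) :
    K.testBit c = true ∨ b = c := by
  have h' : (K ||| ixOne b).testBit c = true := h
  rw [Nat.testBit_lor, Bool.or_eq_true, ixOne_testBit] at h'
  exact h'

theorem IxModel.ixRun_sound (D : IxModel P n e mul inv one) (H : Subgroup Ω)
    (fusOK : ℕ → ℕ → ℕ → Bool)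
    (hfus : ∀ a b gi, a < n → fusOK a b gi = true → b < n ∧ ∃ γ ∈ H, γ * e a * γ⁻¹ = e b)
    (T : Subgroup Ω) (hT : ∀ t ∈ T, ∀ γ ∈ H, γ * t * γ⁻¹ ∈ P → γ * t * γ⁻¹ ∈ T)
    (steps : List IxStep) (K : ℕ) (hK : ∀ c, K.testBit c = true → c < n ∧ e c ∈ T) :
    ∀ c, (ixRun fusOK mul steps K).testBit c = true → c < n ∧ e c ∈ T := by
  induction steps generalizing K with
  | nil => exact hK
  | cons s steps ih =>
    apply ih
    cases s with
    | fus a b gi =>
      cases hc : ixAnd (ixBit K a) (fusOK a b gi) with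
      | false =>
        have e1 : ixStep fusOK mul K (.fus a b gi) = K := by
          show Bool.rec (motive := fun _ => ℕ) K (Nat.lor K (ixOne b))
            (ixAnd (ixBit K a) (fusOK a b gi)) = K
          rw [hc]
        rw [e1]; exact hK
      | true =>
        have e1 : ixStep fusOK mul K (.fus a b gi) = Nat.lor K (ixOne b) := by
          show Bool.rec (motive := fun _ => ℕ) K (Nat.lor K (ixOne b))
            (ixAnd (ixBit K a) (fusOK a b gi)) = _
          rw [hc]
        rw [e1]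
        rw [ixAnd_iff, ixBit_eq] at hc
        obtain ⟨han, haT⟩ := hK a hc.1
        obtain ⟨hbn, γ, hγ, hγe⟩ := hfus a b gi han hc.2
        intro c hcb
        rcases ix_testBit_lor_one hcb with h | h
        · exact hK c h
        · subst h
          refine ⟨hbn, ?_⟩
          rw [← hγe]
          apply hT _ haT _ hγ
          rw [hγe]; exact D.mem b hbn
    | mul a b =>
      cases hc : ixAnd (ixBit K a) (ixBit K b) with
      | false =>
        have e1 : ixStep fusOK mul K (.mul a b) = K := by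
          show Bool.rec (motive := fun _ => ℕ) K (Nat.lor K (ixOne (mul a b)))
            (ixAnd (ixBit K a) (ixBit K b)) = K
          rw [hc]
        rw [e1]; exact hK
      | true =>
        have e1 : ixStep fusOK mul K (.mul a b) = Nat.lor K (ixOne (mul a b)) := by
          show Bool.rec (motive := fun _ => ℕ) K (Nat.lor K (ixOne (mul a b)))
            (ixAnd (ixBit K a) (ixBit K b)) = _
          rw [hc]
        rw [e1]
        rw [ixAnd_iff, ixBit_eq, ixBit_eq] at hc
        obtain ⟨han, haT⟩ := hK a hc.1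
        obtain ⟨hbn, hbT⟩ := hK b hc.2
        intro c hcb
        rcases ix_testBit_lor_one hcb with h | h
        · exact hK c h
        · subst h
          refine ⟨D.mul_lt a han b hbn, ?_⟩
          rw [D.e_mul a han b hbn]
          exact Subgroup.mul_mem _ haT hbT

/-- the group `P` has no proper nontrivial strongly closed subgroup (with respect to `H`),
from a certificate starting at the unique nontrivial central element -/
theorem IxModel.noStronglyClosed (D : IxModel P n e mul inv one) (hP : IsPGroup 2 P)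
    (H : Subgroup Ω) (hPH : P ≤ H) (fusOK : ℕ → ℕ → ℕ → Bool)
    (hfus : ∀ a b gi, a < n → fusOK a b gi = true → b < n ∧ ∃ γ ∈ H, γ * e a * γ⁻¹ = e b)
    (Q : List ℕ) (hQ : ∀ b ∈ Q, b < n) (z : ℕ) (hzn : z < n)
    (hz : ixAllN (fun a => ixOr (ixNot (ixAllL (fun b => Nat.beq (mul a b) (mul b a)) Q))
        (ixOr (Nat.beq a one) (Nat.beq a z))) n = true)
    (G : List ℕ) (hG : ∀ T : Subgroup Ω, (∀ q ∈ G, e q ∈ T) → P ≤ T)
    (steps : List IxStep)
    (hsteps : ixAllL (fun q => ixBit (ixRun fusOK mul steps (ixOne z)) q) G = true) :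
    ∀ T : Subgroup Ω, T ≤ P → T ≠ ⊥ →
      (∀ t ∈ T, ∀ γ ∈ H, γ * t * γ⁻¹ ∈ P → γ * t * γ⁻¹ ∈ T) → P ≤ T := by
  intro T hTP hTne hcl
  have hfinP : Finite P := Nat.finite_of_card_ne_zero (by
    rw [D.card]; exact Nat.ne_of_gt (Nat.lt_of_le_of_lt (Nat.zero_le _) D.one_lt))
  have hfinT : Finite T := Finite.of_injective (Subgroup.inclusion hTP)
    (Subgroup.inclusion_injective hTP)
  have hnorm : P ≤ Subgroup.normalizer (T : Set Ω) := by
    intro x hx
    rw [Subgroup.mem_normalizer_iff]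
    intro t
    constructor
    · intro ht
      exact hcl t ht x (hPH hx)
        (Subgroup.mul_mem _ (Subgroup.mul_mem _ hx (hTP ht)) (Subgroup.inv_mem _ hx))
    · intro ht
      have hx' := Subgroup.inv_mem _ hx
      have h1 := hcl _ ht x⁻¹ (hPH hx')
        (Subgroup.mul_mem _ (Subgroup.mul_mem _ hx' (hTP ht)) (Subgroup.inv_mem _ hx'))
      have e1 : x⁻¹ * (x * t * x⁻¹) * x⁻¹⁻¹ = t := by group
      rw [e1] at h1; exact h1
  have hTdvd : 2 ∣ Nat.card T := by
    rcases (hP.to_le hTP).card_eq_or_dvd with h | h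
    · exact absurd (Subgroup.card_eq_one.mp h) hTne
    · exact h
  have : Fact (Nat.Prime 2) := ⟨Nat.prime_two⟩
  have hdvd := Cfsg.Agent.Lib.Helper66.dvd_card_inf_centralizer (p := 2) (H := P)
    (Z := T) hP hTdvd hnorm
  have hne : T ⊓ Subgroup.centralizer (P : Set Ω) ≠ ⊥ := by
    intro hbot
    rw [hbot, Subgroup.card_bot] at hdvd
    exact absurd hdvd (by norm_num)
  obtain ⟨⟨t, ht⟩, ht1⟩ := (Subgroup.ne_bot_iff_exists_ne_one).mp hne
  have ht1' : t ≠ 1 := fun h => ht1 (Subtype.ext h)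
  obtain ⟨htT, htC⟩ := Subgroup.mem_inf.mp ht
  obtain ⟨a, ha, rfl⟩ := D.surj t (hTP htT)
  have hcom : ixAllL (fun b => Nat.beq (mul a b) (mul b a)) Q = true := by
    rw [ixAllL_iff]
    intro b hb
    have hbn := hQ b hb
    have h1 := (Subgroup.mem_centralizer_iff.mp htC) (e b) (D.mem b hbn)
    rw [← D.e_mul b hbn a ha, ← D.e_mul a ha b hbn] at h1
    rw [D.inj _ (D.mul_lt b hbn a ha) _ (D.mul_lt a ha b hbn) h1]
    exact Nat.beq_refl _
  have haz : a = z := by
    have h1 := (ixAllN_iff _ _).mp hz a ha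
    rw [ixOr_iff, ixNot_iff, hcom, ixOr_iff] at h1
    rcases h1 with h1 | h1 | h1
    · exact absurd h1 (by simp)
    · exact absurd (by rw [Nat.eq_of_beq_eq_true h1]; exact D.e_one) ht1'
    · exact Nat.eq_of_beq_eq_true h1
  subst haz
  have hall := D.ixRun_sound H fusOK hfus T hcl steps (ixOne a) (by
    intro c hc
    rw [ixOne_testBit] at hc
    subst hc
    exact ⟨ha, htT⟩)
  apply hG T
  intro q hq
  have h1 := (ixAllL_iff _ _).mp hsteps q hq
  rw [ixBit_eq] at h1
  exact (hall q h1).2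

end

end Cfsg.Agent.Lib.Helper89
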