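import Cfsg.Agent.S5132
import Cfsg.Agent.S5133
import Cfsg.Agent.S5134
import Cfsg.Agent.Lib.Helper88.FusQuot

set_option autoImplicit false

/-!
# Transport of fusion systems along isomorphisms: basics (helper89)

An isomorphism from the fusion system `F` over `S` onto `F'` over `S'` is recorded as in the
Prelude: `F.IsFactorSystem ⊥ θ F'` for a homomorphism `θ : S →* Ω'`.  For saturated `F` over a
finite `p`-group this makes `θ` a surjective morphism (S5134), and the maps of the two systems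
correspond (`SIso.push`, `SIso.pull`, in the function language `Mor` of helper90 / `aFun` of
helper88).  Also: the inverse isomorphism (`invHom`, `iso_symm`), composition of factor maps
(`fs_comp`), restriction to subgroups, existence (`pushSys`, from S5132) and uniqueness.
-/

namespace Cfsg.Agent.Lib.Helper89.IsoT

open Cfsg Cfsg.FusionSystem Cfsg.Agent.Lib.Helper90
open Cfsg.Agent.Lib.Helper88 (aFun aFun_apply aFun_apply' aFun_mul aFun_one aFun_inv
  mem_imageAlong mem_preimageAlong preimageAlong_le mor_image mor_lift aFun_mem exists_aFun_eq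
  imageAlong_le kerAlong mem_kerAlong imageAlong_preimageAlong preimageAlong_imageAlong)

variable {Ω : Type*} [Group Ω] {S : Subgroup Ω} {Ω' : Type*} [Group Ω'] {S' : Subgroup Ω'}
  {F : FusionSystem S} {F' : FusionSystem S'} {θ : S →* Ω'}

theorem stronglyClosed_bot (F : FusionSystem S) : F.StronglyClosed ⊥ := by
  refine ⟨bot_le, fun R hR φ _ x => ?_⟩
  have hx : (x : Ω) = 1 := Subgroup.mem_bot.mp (hR x.2)
  have h1 : x = 1 := Subtype.ext hx
  rw [h1, map_one]
  exact Subgroup.one_mem _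

theorem fs_inj (h : F.IsFactorSystem ⊥ θ F') : Function.Injective θ := by
  rw [injective_iff_map_eq_one]
  intro s hs
  exact Subtype.ext (Subgroup.mem_bot.mp ((h.2.1 s).mp hs))

theorem fs_range {S₀ : Subgroup Ω} (h : F.IsFactorSystem S₀ θ F') : θ.range = S' := h.2.2.1

/-- Two factor systems through the same map have the same maps. -/
theorem fs_unique {S₀ S₀' : Subgroup Ω} {S'' : Subgroup Ω'} {F'' : FusionSystem S''}
    (h₁ : F.IsFactorSystem S₀ θ F') (h₂ : F.IsFactorSystem S₀' θ F'') :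
    S' = S'' ∧ ∀ P : Subgroup Ω', ∀ φ : P →* Ω', φ ∈ F'.Hom P ↔ φ ∈ F''.Hom P := by
  have hS : S' = S'' := h₁.2.2.1.symm.trans h₂.2.2.1
  refine ⟨hS, fun P φ => ?_⟩
  rw [h₁.2.2.2 P φ, h₂.2.2.2 P φ, hS]

theorem fs_congr {S₀ : Subgroup Ω} {S'' : Subgroup Ω'} {F'' : FusionSystem S''}
    (h₁ : F.IsFactorSystem S₀ θ F') (hS : S' = S'')
    (hH : ∀ P : Subgroup Ω', ∀ φ : P →* Ω', φ ∈ F'.Hom P ↔ φ ∈ F''.Hom P) :
    F.IsFactorSystem S₀ θ F'' := by
  refine ⟨h₁.1, h₁.2.1, h₁.2.2.1.trans hS, fun P φ => ?_⟩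
  rw [← hH P φ, h₁.2.2.2 P φ, hS]

theorem sys_ext {T : Subgroup Ω} (E₁ E₂ : FusionSystem T)
    (h : ∀ P : Subgroup Ω, ∀ φ : P →* Ω, φ ∈ E₁.Hom P ↔ φ ∈ E₂.Hom P) : E₁ = E₂ := by
  cases E₁
  cases E₂
  congr
  funext P
  exact Set.ext (h P)

/-- A surjective morphism describes the maps of the target. -/
theorem sm_mor_iff (hsm : F.IsSurjectiveMorphism F' θ) {P' : Subgroup Ω'} {f' : Ω' → Ω'} :
    Mor F' P' f' ↔ P' ≤ S' ∧ ∃ f, Mor F (preimageAlong θ P') f ∧
      ∀ x ∈ preimageAlong θ P', f' (aFun θ x) = aFun θ (f x) := by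
  constructor
  · intro hf'
    exact ⟨hf'.le, mor_lift hsm hf'⟩
  · rintro ⟨hP', f, hf, hff⟩
    obtain ⟨f'', hf'', h2⟩ := mor_image hsm.1 hf
    rw [imageAlong_preimageAlong hsm hP'] at hf''
    refine hf''.congr fun y hy => ?_
    obtain ⟨x, hxS, rfl⟩ := exists_aFun_eq hsm (hP' hy)
    have hx : x ∈ preimageAlong θ P' := mem_preimageAlong.mpr ⟨hxS, hy⟩
    rw [h2 x hx, hff x hx]

theorem theta_mem_of_pre {P' : Subgroup Ω'} {x : Ω} (hx : x ∈ preimageAlong θ P') :
    θ ⟨x, preimageAlong_le θ P' hx⟩ ∈ P' := by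
  have := (mem_preimageAlong.mp hx).2
  rwa [aFun_apply' θ (preimageAlong_le θ P' hx)] at this

/-- A factor system from its description by maps. -/
theorem fs_of_mor {S₀ : Subgroup Ω} (hS₀ : S₀ ≤ S)
    (hker : ∀ s : S, θ s = 1 ↔ (s : Ω) ∈ S₀) (hrange : θ.range = S')
    (hmor : ∀ (P' : Subgroup Ω') (f' : Ω' → Ω'), Mor F' P' f' ↔ P' ≤ S' ∧ ∃ f,
      Mor F (preimageAlong θ P') f ∧ ∀ x ∈ preimageAlong θ P', f' (aFun θ x) = aFun θ (f x)) :
    F.IsFactorSystem S₀ θ F' := by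
  refine ⟨hS₀, hker, hrange, fun P' φ' => ?_⟩
  constructor
  · intro hφ'
    obtain ⟨hP', f, hf, hff⟩ := (hmor P' _).mp (mor_of_hom hφ')
    obtain ⟨φ, hφ, hφf⟩ := hf
    refine ⟨hP', φ, hφ, preimageAlong_le θ P', fun x => (F.le_of_mem hφ).2 x,
      fun x => theta_mem_of_pre x.2, fun x => ?_⟩
    have h1 := hff x x.2
    rw [aFun_apply' θ (preimageAlong_le θ P' x.2), extFun_apply' P' φ' (theta_mem_of_pre x.2),
      ← hφf x, aFun_apply' θ ((F.le_of_mem hφ).2 x)] at h1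
    exact h1
  · rintro ⟨hP', φ, hφ, hP, hφS, hPP', hind⟩
    have hm : Mor F' P' (extFun P' φ') := by
      refine (hmor P' _).mpr ⟨hP', extFun _ φ, mor_of_hom hφ, fun x hx => ?_⟩
      have h1 := hind ⟨x, hx⟩
      rw [aFun_apply' θ (hP hx), extFun_apply' P' φ' (hPP' ⟨x, hx⟩), extFun_apply' _ φ hx,
        aFun_apply' θ (hφS ⟨x, hx⟩)]
      exact h1
    exact hm.hom φ' (fun x => (extFun_apply P' φ' x).symm)

/-! ### Bundled isomorphisms -/

/-- An isomorphism of fusion systems that is known to be a surjective morphism. -/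
structure SIso (F : FusionSystem S) (θ : S →* Ω') (F' : FusionSystem S') : Prop where
  fs : F.IsFactorSystem ⊥ θ F'
  sm : F.IsSurjectiveMorphism F' θ

theorem sIso_of [Finite S] {p : ℕ} [Fact p.Prime] (hS : IsPGroup p S) (hF : F.IsSaturated p)
    (h : F.IsFactorSystem ⊥ θ F') : SIso F θ F' :=
  ⟨h, Cfsg.Agent.S5134.result p hS F hF ⊥ (stronglyClosed_bot F) θ F' h⟩

theorem sat_of_iso [Finite S] {p : ℕ} [Fact p.Prime] (hS : IsPGroup p S) (hF : F.IsSaturated p)
    (h : F.IsFactorSystem ⊥ θ F') : F'.IsSaturated p :=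
  Cfsg.Agent.S5133.result p hS F hF F' θ (sIso_of hS hF h).sm

namespace SIso

variable (h : SIso F θ F')
include h

theorem inj : Function.Injective θ := fs_inj h.fs

theorem range : θ.range = S' := h.fs.2.2.1

theorem aFun_inj {x y : Ω} (hx : x ∈ S) (hy : y ∈ S) (hxy : aFun θ x = aFun θ y) : x = y := by
  rw [aFun_apply' θ hx, aFun_apply' θ hy] at hxy
  exact congrArg Subtype.val (h.inj hxy)

theorem mem {x : Ω} (hx : x ∈ S) : aFun θ x ∈ S' := aFun_mem h.sm.1 hx

theorem exists_pre {y : Ω'} (hy : y ∈ S') : ∃ x ∈ S, aFun θ x = y := exists_aFun_eq h.sm hy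

theorem ker : kerAlong θ = ⊥ := by
  refine le_bot_iff.mp fun x hx => ?_
  obtain ⟨hxS, hx1⟩ := mem_kerAlong.mp hx
  rw [Subgroup.mem_bot]
  exact h.aFun_inj hxS S.one_mem (hx1.trans (aFun_one θ).symm)

theorem pre_im {P : Subgroup Ω} (hP : P ≤ S) : preimageAlong θ (imageAlong θ P) = P :=
  preimageAlong_imageAlong hP (by rw [h.ker]; exact bot_le)

theorem im_pre {P' : Subgroup Ω'} (hP' : P' ≤ S') : imageAlong θ (preimageAlong θ P') = P' :=
  imageAlong_preimageAlong h.sm hP'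

theorem im_le (P : Subgroup Ω) : imageAlong θ P ≤ S' := imageAlong_le h.sm.1 P

theorem push {P : Subgroup Ω} {f : Ω → Ω} (hf : Mor F P f) :
    ∃ f', Mor F' (imageAlong θ P) f' ∧ ∀ x ∈ P, f' (aFun θ x) = aFun θ (f x) :=
  mor_image h.sm.1 hf

theorem pull {P' : Subgroup Ω'} {f' : Ω' → Ω'} (hf' : Mor F' P' f') :
    ∃ f, Mor F (preimageAlong θ P') f ∧
      ∀ x ∈ preimageAlong θ P', f' (aFun θ x) = aFun θ (f x) :=
  mor_lift h.sm hf'

theorem pull' {P : Subgroup Ω} (hP : P ≤ S) {f' : Ω' → Ω'}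
    (hf' : Mor F' (imageAlong θ P) f') :
    ∃ f, Mor F P f ∧ ∀ x ∈ P, f' (aFun θ x) = aFun θ (f x) := by
  have := h.pull hf'
  rw [h.pre_im hP] at this
  exact this

theorem push' {P' : Subgroup Ω'} (hP' : P' ≤ S') {f : Ω → Ω}
    (hf : Mor F (preimageAlong θ P') f) :
    ∃ f', Mor F' P' f' ∧ ∀ x ∈ preimageAlong θ P', f' (aFun θ x) = aFun θ (f x) := by
  have := h.push hf
  rw [h.im_pre hP'] at this
  exact this

theorem mor_iff {P : Subgroup Ω} (hP : P ≤ S) {f : Ω → Ω} {f' : Ω' → Ω'}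
    (hfS : ∀ x ∈ P, f x ∈ S) (hff : ∀ x ∈ P, f' (aFun θ x) = aFun θ (f x)) :
    Mor F P f ↔ Mor F' (imageAlong θ P) f' := by
  constructor
  · intro hf
    obtain ⟨f'', hf'', h2⟩ := h.push hf
    refine hf''.congr fun y hy => ?_
    obtain ⟨x, hx, -, rfl⟩ := mem_imageAlong.mp hy
    rw [h2 x hx, hff x hx]
  · intro hf'
    obtain ⟨f₂, hf₂, h2⟩ := h.pull' hP hf'
    refine hf₂.congr fun x hx => ?_
    have e : aFun θ (f₂ x) = aFun θ (f x) := by rw [← h2 x hx, hff x hx]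
    exact h.aFun_inj (hf₂.mem hx) (hfS x hx) e

theorem mem_im_iff {P : Subgroup Ω} {x : Ω} (hx : x ∈ S) :
    aFun θ x ∈ imageAlong θ P ↔ x ∈ P := by
  constructor
  · intro hy
    obtain ⟨x', hx', hx'S, e⟩ := mem_imageAlong.mp hy
    rw [← h.aFun_inj hx'S hx e]
    exact hx'
  · intro hxP
    exact mem_imageAlong.mpr ⟨x, hxP, hx, rfl⟩

omit h in
theorem im_mono {P Q : Subgroup Ω} (hPQ : P ≤ Q) : imageAlong θ P ≤ imageAlong θ Q := by
  intro y hy
  obtain ⟨x, hx, hxS, rfl⟩ := mem_imageAlong.mp hy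
  exact mem_imageAlong.mpr ⟨x, hPQ hx, hxS, rfl⟩

theorem im_top : imageAlong θ S = S' := by
  apply le_antisymm (h.im_le S)
  intro y hy
  obtain ⟨x, hxS, rfl⟩ := h.exists_pre hy
  exact mem_imageAlong.mpr ⟨x, hxS, hxS, rfl⟩

end SIso

/-! ### Restriction of the map to a subgroup -/

theorem aFun_res {T : Subgroup Ω} (hTS : T ≤ S) {x : Ω} (hx : x ∈ T) :
    aFun (θ.comp (Subgroup.inclusion hTS)) x = aFun θ x := by
  rw [aFun_apply' _ hx, aFun_apply' θ (hTS hx)]
  rfl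

theorem im_res {T : Subgroup Ω} (hTS : T ≤ S) {P : Subgroup Ω} (hP : P ≤ T) :
    imageAlong (θ.comp (Subgroup.inclusion hTS)) P = imageAlong θ P := by
  ext y
  rw [mem_imageAlong, mem_imageAlong]
  constructor
  · rintro ⟨x, hx, hxT, rfl⟩
    exact ⟨x, hx, hTS hxT, (aFun_res hTS hxT).symm⟩
  · rintro ⟨x, hx, -, rfl⟩
    exact ⟨x, hx, hP hx, aFun_res hTS (hP hx)⟩

theorem range_res {T : Subgroup Ω} (hTS : T ≤ S) :
    (θ.comp (Subgroup.inclusion hTS)).range = imageAlong θ T := by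
  ext y
  rw [mem_imageAlong]
  constructor
  · rintro ⟨t, rfl⟩
    refine ⟨t, t.2, hTS t.2, ?_⟩
    rw [aFun_apply' θ (hTS t.2)]
    rfl
  · rintro ⟨x, hx, hxS, rfl⟩
    refine ⟨⟨x, hx⟩, ?_⟩
    rw [aFun_apply' θ hxS]
    rfl

theorem pre_res (hinj : Function.Injective θ) {T : Subgroup Ω} (hTS : T ≤ S)
    {P' : Subgroup Ω'} (hP' : P' ≤ imageAlong θ T) :
    preimageAlong (θ.comp (Subgroup.inclusion hTS)) P' = preimageAlong θ P' := by
  ext x
  rw [mem_preimageAlong, mem_preimageAlong]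
  constructor
  · rintro ⟨hxT, hx⟩
    rw [aFun_res hTS hxT] at hx
    exact ⟨hTS hxT, hx⟩
  · rintro ⟨hxS, hx⟩
    obtain ⟨t, ht, htS, e⟩ := mem_imageAlong.mp (hP' hx)
    have hxt : t = x := by
      rw [aFun_apply' θ htS, aFun_apply' θ hxS] at e
      exact congrArg Subtype.val (hinj e)
    have hxT : x ∈ T := hxt ▸ ht
    exact ⟨hxT, by rw [aFun_res hTS hxT]; exact hx⟩

/-! ### Existence -/

/-- The image of a fusion system under an injective homomorphism. -/
noncomputable def pushSys [Finite S] (F : FusionSystem S) (θ : S →* Ω')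
    (hinj : Function.Injective θ) : FusionSystem θ.range :=
  Cfsg.Agent.S5132.factorSystem F θ θ.range ⊥
    (fun s => by
      rw [Subgroup.mem_bot]
      constructor
      · intro hs
        exact congrArg Subtype.val ((injective_iff_map_eq_one θ).mp hinj s hs)
      · intro hs
        have : s = 1 := Subtype.ext hs
        rw [this, map_one])
    rfl (stronglyClosed_bot F)

theorem pushSys_fs [Finite S] (F : FusionSystem S) (θ : S →* Ω')
    (hinj : Function.Injective θ) : F.IsFactorSystem ⊥ θ (pushSys F θ hinj) := by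
  refine ⟨bot_le, fun s => ?_, rfl, fun P' φ' => Iff.rfl⟩
  rw [Subgroup.mem_bot]
  constructor
  · intro hs
    exact congrArg Subtype.val ((injective_iff_map_eq_one θ).mp hinj s hs)
  · intro hs
    have : s = 1 := Subtype.ext hs
    rw [this, map_one]

/-! ### The inverse isomorphism -/

/-- The inverse of an injective homomorphism with image `S'`, as a homomorphism on `S'`. -/
noncomputable def invHom (θ : S →* Ω') (hinj : Function.Injective θ) (hrange : θ.range = S') :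
    S' →* Ω :=
  S.subtype.comp ((MonoidHom.ofInjective hinj).symm.toMonoidHom.comp
    (MulEquiv.subgroupCongr hrange.symm).toMonoidHom)

theorem invHom_apply (hinj : Function.Injective θ) (hrange : θ.range = S') (s : S)
    (hs : θ s ∈ S') : invHom θ hinj hrange ⟨θ s, hs⟩ = s := by
  show (((MonoidHom.ofInjective hinj).symm
    ((MulEquiv.subgroupCongr hrange.symm) ⟨θ s, hs⟩) : S) : Ω) = s
  have : (MonoidHom.ofInjective hinj).symm
      ((MulEquiv.subgroupCongr hrange.symm) ⟨θ s, hs⟩) = s := by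
    rw [MulEquiv.symm_apply_eq]
    rfl
  rw [this]

theorem aFun_invHom (hinj : Function.Injective θ) (hrange : θ.range = S') {x : Ω}
    (hx : x ∈ S) : aFun (invHom θ hinj hrange) (aFun θ x) = x := by
  have hm : θ ⟨x, hx⟩ ∈ S' := by rw [← hrange]; exact ⟨_, rfl⟩
  rw [aFun_apply' θ hx, aFun_apply' _ hm, invHom_apply hinj hrange ⟨x, hx⟩ hm]

theorem aFun_invHom_mem (hinj : Function.Injective θ) (hrange : θ.range = S') {y : Ω'}
    (hy : y ∈ S') : aFun (invHom θ hinj hrange) y ∈ S ∧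
      aFun θ (aFun (invHom θ hinj hrange) y) = y := by
  have hy' : y ∈ θ.range := by rw [hrange]; exact hy
  obtain ⟨s, rfl⟩ := hy'
  have e : aFun (invHom θ hinj hrange) (θ s) = s := by
    rw [aFun_apply' _ hy, invHom_apply hinj hrange s hy]
  rw [e]
  exact ⟨s.2, aFun_apply θ s⟩

theorem invHom_injective (hinj : Function.Injective θ) (hrange : θ.range = S') :
    Function.Injective (invHom θ hinj hrange) := by
  intro y₁ y₂ hy
  have h1 := (aFun_invHom_mem hinj hrange y₁.2).2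
  have h2 := (aFun_invHom_mem hinj hrange y₂.2).2
  rw [aFun_apply _ y₁] at h1
  rw [aFun_apply _ y₂] at h2
  apply Subtype.ext
  rw [← h1, ← h2, hy]

theorem invHom_range (hinj : Function.Injective θ) (hrange : θ.range = S') :
    (invHom θ hinj hrange).range = S := by
  ext x
  constructor
  · rintro ⟨y, rfl⟩
    have := (aFun_invHom_mem hinj hrange y.2).1
    rwa [aFun_apply _ y] at this
  · intro hx
    have hm : θ ⟨x, hx⟩ ∈ S' := by rw [← hrange]; exact ⟨_, rfl⟩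
    exact ⟨⟨θ ⟨x, hx⟩, hm⟩, invHom_apply hinj hrange ⟨x, hx⟩ hm⟩

theorem pre_invHom (hinj : Function.Injective θ) (hrange : θ.range = S') {P : Subgroup Ω}
    (_hP : P ≤ S) : preimageAlong (invHom θ hinj hrange) P = imageAlong θ P := by
  ext y
  rw [mem_preimageAlong, mem_imageAlong]
  constructor
  · rintro ⟨hyS', hy⟩
    obtain ⟨h1, h2⟩ := aFun_invHom_mem hinj hrange hyS'
    exact ⟨_, hy, h1, h2⟩
  · rintro ⟨x, hx, hxS, rfl⟩
    have hm : aFun θ x ∈ S' := by
      rw [aFun_apply' θ hxS, ← hrange]; exact ⟨_, rfl⟩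
    refine ⟨hm, ?_⟩
    rw [aFun_invHom hinj hrange hxS]
    exact hx

/-- The inverse of an isomorphism of fusion systems is an isomorphism. -/
theorem iso_symm (h : SIso F θ F') : F'.IsFactorSystem ⊥ (invHom θ h.inj h.range) F := by
  have hinj := h.inj
  have hrange := h.range
  refine fs_of_mor bot_le (fun s => ?_) (invHom_range hinj hrange) (fun P f => ?_)
  · rw [Subgroup.mem_bot]
    constructor
    · intro hs
      have := invHom_injective hinj hrange (hs.trans (map_one _).symm)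
      rw [this]; rfl
    · intro hs
      have : s = 1 := Subtype.ext hs
      rw [this, map_one]
  · constructor
    · intro hf
      refine ⟨hf.le, ?_⟩
      obtain ⟨f', hf', h2⟩ := h.push hf
      rw [pre_invHom hinj hrange hf.le]
      refine ⟨f', hf', fun y hy => ?_⟩
      obtain ⟨x, hx, hxS, rfl⟩ := mem_imageAlong.mp hy
      rw [aFun_invHom hinj hrange hxS, h2 x hx, aFun_invHom hinj hrange (hf.mem hx)]
    · rintro ⟨hP, f', hf', h2⟩
      rw [pre_invHom hinj hrange hP] at hf' h2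
      obtain ⟨f₂, hf₂, h3⟩ := h.pull' hP hf'
      refine hf₂.congr fun x hx => ?_
      have hxS := hP hx
      have h4 := h2 (aFun θ x) (mem_imageAlong.mpr ⟨x, hx, hxS, rfl⟩)
      rw [aFun_invHom hinj hrange hxS, h3 x hx, aFun_invHom hinj hrange (hf₂.mem hx)] at h4
      exact h4.symm

/-! ### Composition of factor maps -/

/-- Composition of two factor maps (each a surjective morphism) is a factor map. -/
theorem fs_comp {Ω'' : Type*} [Group Ω''] {S'' : Subgroup Ω''} {F'' : FusionSystem S''}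
    {S₀ : Subgroup Ω} {S₁ : Subgroup Ω'} {θ₂ : S' →* Ω''} {θ₃ : S →* Ω''}
    (h₁ : F.IsFactorSystem S₀ θ F') (hsm₁ : F.IsSurjectiveMorphism F' θ)
    (h₂ : F'.IsFactorSystem S₁ θ₂ F'') (hsm₂ : F'.IsSurjectiveMorphism F'' θ₂)
    (h₃ : ∀ x ∈ S, aFun θ₃ x = aFun θ₂ (aFun θ x)) :
    F.IsFactorSystem (preimageAlong θ S₁) θ₃ F'' := by
  have hmem : ∀ {x : Ω}, x ∈ S → aFun θ x ∈ S' := fun hx => aFun_mem hsm₁.1 hx
  have hpre : ∀ P'' : Subgroup Ω'',
      preimageAlong θ₃ P'' = preimageAlong θ (preimageAlong θ₂ P'') := by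
    intro P''
    ext x
    rw [mem_preimageAlong, mem_preimageAlong, mem_preimageAlong]
    constructor
    · rintro ⟨hxS, hx⟩
      rw [h₃ x hxS] at hx
      exact ⟨hxS, hmem hxS, hx⟩
    · rintro ⟨hxS, -, hx⟩
      rw [← h₃ x hxS] at hx
      exact ⟨hxS, hx⟩
  refine fs_of_mor (preimageAlong_le θ S₁) (fun s => ?_) ?_ (fun P'' f'' => ?_)
  · have e := h₃ s s.2
    rw [aFun_apply θ₃ s, aFun_apply θ s] at e
    have hs' : θ s ∈ S' := by rw [← h₁.2.2.1]; exact ⟨s, rfl⟩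
    rw [aFun_apply' θ₂ hs'] at e
    rw [e, h₂.2.1 ⟨θ s, hs'⟩, mem_preimageAlong, aFun_apply θ s]
    exact ⟨fun hh => ⟨s.2, hh⟩, fun hh => hh.2⟩
  · ext z
    constructor
    · rintro ⟨s, rfl⟩
      have e := h₃ s s.2
      rw [aFun_apply θ₃ s] at e
      rw [e]
      exact aFun_mem hsm₂.1 (hmem s.2)
    · intro hz
      obtain ⟨y, hy, rfl⟩ := exists_aFun_eq hsm₂ hz
      obtain ⟨x, hx, rfl⟩ := exists_aFun_eq hsm₁ hy
      refine ⟨⟨x, hx⟩, ?_⟩
      rw [← h₃ x hx, aFun_apply' θ₃ hx]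
  · rw [hpre P'', sm_mor_iff hsm₂]
    constructor
    · rintro ⟨hP'', f', hf', h2⟩
      refine ⟨hP'', ?_⟩
      obtain ⟨-, f, hf, h1⟩ := (sm_mor_iff hsm₁).mp hf'
      refine ⟨f, hf, fun x hx => ?_⟩
      have hxS := preimageAlong_le θ _ hx
      have hx' : aFun θ x ∈ preimageAlong θ₂ P'' := (mem_preimageAlong.mp hx).2
      rw [h₃ x hxS, h2 _ hx', h1 x hx, h₃ _ (hf.mem hx)]
    · rintro ⟨hP'', f, hf, h1⟩
      refine ⟨hP'', ?_⟩
      obtain ⟨f', hf', h2⟩ := mor_image hsm₁.1 hf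
      rw [imageAlong_preimageAlong hsm₁ (preimageAlong_le θ₂ P'')] at hf'
      refine ⟨f', hf', fun y hy => ?_⟩
      obtain ⟨x, hxS, rfl⟩ := exists_aFun_eq hsm₁ (preimageAlong_le θ₂ P'' hy)
      have hx : x ∈ preimageAlong θ (preimageAlong θ₂ P'') := mem_preimageAlong.mpr ⟨hxS, hy⟩
      rw [← h₃ x hxS, h1 x hx, h2 x hx, h₃ _ (hf.mem hx)]

/-! ### Automorphisms, joins, centralizers -/

namespace SIso

variable (h : SIso F θ F')
include h

theorem pull_aut {P : Subgroup Ω} [Finite P] (hP : P ≤ S) {P' : Subgroup Ω'}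
    (hP' : imageAlong θ P = P') (α' : MulAut P') (hα' : α' ∈ F'.autGroup P') :
    ∃ α ∈ F.autGroup P, ∀ x ∈ P, autFun P' α' (aFun θ x) = aFun θ (autFun P α x) := by
  subst hP'
  have hm := (Cfsg.Agent.Lib.Helper90.mem_autGroup_iff F' (h.im_le P) α').mp hα'
  obtain ⟨g, hg, hga⟩ := h.pull' hP hm
  have hgP : ∀ x ∈ P, g x ∈ P := by
    intro x hx
    have h1 : aFun θ (g x) ∈ imageAlong θ P := by
      rw [← hga x hx]
      exact autFun_mem α' (mem_imageAlong.mpr ⟨x, hx, hP hx, rfl⟩)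
    exact (h.mem_im_iff (hg.mem hx)).mp h1
  obtain ⟨α, hα, hαg⟩ := exists_aut_of_mor hg hgP
  refine ⟨α, hα, fun x hx => ?_⟩
  rw [hga x hx, autFun_apply' α hx, hαg ⟨x, hx⟩]

theorem push_aut {P : Subgroup Ω} (hP : P ≤ S) {P' : Subgroup Ω'} [Finite P']
    (hP' : imageAlong θ P = P') (α : MulAut P) (hα : α ∈ F.autGroup P) :
    ∃ α' ∈ F'.autGroup P', ∀ x ∈ P, autFun P' α' (aFun θ x) = aFun θ (autFun P α x) := by
  subst hP'
  have hm := (Cfsg.Agent.Lib.Helper90.mem_autGroup_iff F hP α).mp hα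
  obtain ⟨k, hk, hka⟩ := h.push hm
  have hkP : ∀ y ∈ imageAlong θ P, k y ∈ imageAlong θ P := by
    intro y hy
    obtain ⟨x, hx, hxS, rfl⟩ := mem_imageAlong.mp hy
    rw [hka x hx]
    exact mem_imageAlong.mpr ⟨_, autFun_mem α hx, hP (autFun_mem α hx), rfl⟩
  obtain ⟨α', hα', hα'k⟩ := exists_aut_of_mor hk hkP
  refine ⟨α', hα', fun x hx => ?_⟩
  have hy : aFun θ x ∈ imageAlong θ P := mem_imageAlong.mpr ⟨x, hx, hP hx, rfl⟩
  rw [autFun_apply' α' hy, hα'k ⟨_, hy⟩, hka x hx]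

omit h in
theorem im_sup {A B : Subgroup Ω} (hA : A ≤ S) (hB : B ≤ S) :
    imageAlong θ (A ⊔ B) = imageAlong θ A ⊔ imageAlong θ B := by
  unfold imageAlong
  rw [Subgroup.subgroupOf_sup hA hB, Subgroup.map_sup]

theorem im_centralizer {T : Subgroup Ω} (hT : T ≤ S) :
    imageAlong θ (centralizerIn S T) = centralizerIn S' (imageAlong θ T) := by
  ext y
  constructor
  · intro hy
    obtain ⟨u, hu, huS, rfl⟩ := mem_imageAlong.mp hy
    refine ⟨h.mem huS, ?_⟩
    show aFun θ u ∈ Subgroup.centralizer ((imageAlong θ T : Subgroup Ω') : Set Ω')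
    rw [Subgroup.mem_centralizer_iff]
    intro z hz
    obtain ⟨t, ht, htS, rfl⟩ := mem_imageAlong.mp hz
    have hc : t * u = u * t := (Subgroup.mem_centralizer_iff.mp hu.2) t ht
    rw [← aFun_mul θ htS huS, ← aFun_mul θ huS htS, hc]
  · rintro ⟨hyS', hyc⟩
    obtain ⟨u, huS, rfl⟩ := h.exists_pre hyS'
    refine mem_imageAlong.mpr ⟨u, ⟨huS, ?_⟩, huS, rfl⟩
    show u ∈ Subgroup.centralizer ((T : Subgroup Ω) : Set Ω)
    rw [Subgroup.mem_centralizer_iff]
    intro t ht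
    have htS := hT ht
    have h1 := (Subgroup.mem_centralizer_iff.mp hyc) (aFun θ t)
      (mem_imageAlong.mpr ⟨t, ht, htS, rfl⟩)
    rw [← aFun_mul θ htS huS, ← aFun_mul θ huS htS] at h1
    exact h.aFun_inj (S.mul_mem htS huS) (S.mul_mem huS htS) h1

end SIso

end Cfsg.Agent.Lib.Helper89.IsoT
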