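import Cfsg.Agent.Lib.Helper89.IsoTQuasi

set_option autoImplicit false

/-!
# Transport of subnormal chains; conjugates of subnormal subsystems (helper89)

`chain_transport`: an isomorphism carries a subnormal chain to a subnormal chain.
`conj_subnormal`: if `C` (over `T`) is subnormal in `D` and `γ` is a map of `D` with source `T`,
then the image of `C` under `γ` is subnormal in `D`.
-/

namespace Cfsg.Agent.Lib.Helper89.IsoT

open Cfsg Cfsg.FusionSystem Cfsg.Agent.Lib.Helper90
open Cfsg.Agent.Lib.Helper88 (aFun aFun_apply aFun_apply' aFun_mul aFun_one aFun_inv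
  mem_imageAlong mem_preimageAlong preimageAlong_le mor_image mor_lift aFun_mem exists_aFun_eq
  imageAlong_le kerAlong mem_kerAlong imageAlong_preimageAlong preimageAlong_imageAlong sc_mor
  finite_imageAlong)

variable {Ω : Type*} [Group Ω]

theorem subnormal_le {p : ℕ} {T U : Subgroup Ω} {E : FusionSystem T} {D : FusionSystem U}
    (h : E.IsSubnormalIn D p) : T ≤ U := by
  induction h with
  | refl F p => exact le_rfl
  | step _ hDF ih => exact ih.trans hDF.1.2.2.2.1.1

theorem subnormal_congr_left {p : ℕ} {T₁ T₂ U : Subgroup Ω} {E₁ : FusionSystem T₁}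
    {E₂ : FusionSystem T₂} {D : FusionSystem U} (hT : T₁ = T₂)
    (hH : ∀ P : Subgroup Ω, ∀ φ : P →* Ω, φ ∈ E₁.Hom P ↔ φ ∈ E₂.Hom P)
    (h : E₁.IsSubnormalIn D p) : E₂.IsSubnormalIn D p := by
  subst hT
  have := sys_ext E₁ E₂ hH
  subst this
  exact h

/-- An automorphism of `U` that, together with its inverse, conjugates the maps of `D` to maps
of `D` is an isomorphism of `D` onto itself. -/
theorem aut_iso {U S : Subgroup Ω} {D : FusionSystem U} {F : FusionSystem S} (α : MulAut U)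
    (hαF : Mor F U (autFun U α)) (hα'F : Mor F U (autFun U α⁻¹))
    (hc : ∀ (P : Subgroup Ω) (f : Ω → Ω), Mor D P f →
      Mor D (img P (autFun U α)) (autFun U α ∘ f ∘ autFun U α⁻¹))
    (hc' : ∀ (P : Subgroup Ω) (f : Ω → Ω), Mor D P f →
      Mor D (img P (autFun U α⁻¹)) (autFun U α⁻¹ ∘ f ∘ autFun U α)) :
    D.IsFactorSystem ⊥ (U.subtype.comp α.toMonoidHom) D := by
  have haf : ∀ {x : Ω}, x ∈ U → aFun (U.subtype.comp α.toMonoidHom) x = autFun U α x := by
    intro x hx
    rw [aFun_apply' _ hx, autFun_apply' α hx]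
    rfl
  refine fs_of_mor bot_le (fun s => ?_) ?_ (fun P' f' => ?_)
  · rw [Subgroup.mem_bot]
    constructor
    · intro hs
      have h1 : α s = 1 := Subtype.ext hs
      have h2 : s = 1 := (MulEquiv.map_eq_one_iff α).mp h1
      rw [h2]
      rfl
    · intro hs
      have : s = 1 := Subtype.ext hs
      rw [this, map_one]
  · ext x
    constructor
    · rintro ⟨s, rfl⟩
      exact (α s).2
    · intro hx
      refine ⟨α⁻¹ ⟨x, hx⟩, ?_⟩
      show ((α (α⁻¹ ⟨x, hx⟩) : U) : Ω) = x
      rw [MulAut.apply_inv_self]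
  · constructor
    · intro hf'
      have hP'U : P' ≤ U := hf'.le
      have hm := hc' P' f' hf'
      have hpre : preimageAlong (U.subtype.comp α.toMonoidHom) P' = img P' (autFun U α⁻¹) := by
        ext x
        rw [mem_preimageAlong, (hα'F.restrict hP'U).mem_img]
        constructor
        · rintro ⟨hxU, hx⟩
          rw [haf hxU] at hx
          exact ⟨autFun U α x, hx, autFun_inv_apply' α hxU⟩
        · rintro ⟨y, hy, rfl⟩
          have hyU := hP'U hy
          refine ⟨autFun_mem α⁻¹ hyU, ?_⟩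
          rw [haf (autFun_mem α⁻¹ hyU), autFun_inv_apply α hyU]
          exact hy
      refine ⟨hP'U, autFun U α⁻¹ ∘ f' ∘ autFun U α, hpre ▸ hm, fun x hx => ?_⟩
      obtain ⟨hxU, hx'⟩ := mem_preimageAlong.mp hx
      rw [haf hxU] at hx'
      have hfx : f' (autFun U α x) ∈ U := hf'.mem hx'
      rw [haf hxU]
      show f' (autFun U α x) = aFun _ (autFun U α⁻¹ (f' (autFun U α x)))
      rw [haf (autFun_mem α⁻¹ hfx), autFun_inv_apply α hfx]
    · rintro ⟨hP'U, f, hf, hff⟩
      have hm := hc _ f hf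
      have himg : img (preimageAlong (U.subtype.comp α.toMonoidHom) P') (autFun U α) = P' := by
        ext y
        rw [(hαF.restrict (preimageAlong_le _ P')).mem_img]
        constructor
        · rintro ⟨x, hx, rfl⟩
          obtain ⟨hxU, hx'⟩ := mem_preimageAlong.mp hx
          rw [haf hxU] at hx'
          exact hx'
        · intro hy
          have hyU := hP'U hy
          refine ⟨autFun U α⁻¹ y, mem_preimageAlong.mpr ⟨autFun_mem α⁻¹ hyU, ?_⟩,
            autFun_inv_apply α hyU⟩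
          rw [haf (autFun_mem α⁻¹ hyU), autFun_inv_apply α hyU]
          exact hy
      rw [himg] at hm
      refine hm.congr fun y hy => ?_
      have hyU := hP'U hy
      have hxU : autFun U α⁻¹ y ∈ U := autFun_mem α⁻¹ hyU
      have hxpre : autFun U α⁻¹ y ∈ preimageAlong (U.subtype.comp α.toMonoidHom) P' := by
        refine mem_preimageAlong.mpr ⟨hxU, ?_⟩
        rw [haf hxU, autFun_inv_apply α hyU]
        exact hy
      have e := hff _ hxpre
      rw [haf hxU, autFun_inv_apply α hyU, haf (hf.mem hxpre)] at e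
      exact e.symm

/-- Cancellation: if `γ = b ∘ φ₀` and both `φ₀` and `γ` are isomorphisms out of `C`, then `b` is
an isomorphism between the images. -/
theorem iso_cancel {p : ℕ} [Fact p.Prime] {T : Subgroup Ω} [Finite T] (hT : IsPGroup p T)
    {C : FusionSystem T} (hCs : C.IsSaturated p) {φ₀ : T →* Ω} {T₀ : Subgroup Ω}
    {E₀ : FusionSystem T₀} (h0 : C.IsFactorSystem ⊥ φ₀ E₀) {γ : T →* Ω} {T' : Subgroup Ω}
    {E : FusionSystem T'} (hγ : C.IsFactorSystem ⊥ γ E) (b : T₀ →* Ω)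
    (hb : Function.Injective b) (h₃ : ∀ x ∈ T, aFun γ x = aFun b (aFun φ₀ x)) :
    E₀.IsFactorSystem ⊥ b E := by
  have s0 : SIso C φ₀ E₀ := sIso_of hT hCs h0
  have hfin0 : Finite T₀ := s0.im_top ▸ finite_imageAlong φ₀ T
  have hT₀ : IsPGroup p T₀ := by
    have h1 := hT.of_surjective φ₀.rangeRestrict φ₀.rangeRestrict_surjective
    rw [s0.range] at h1
    exact h1
  have hE₀s := sat_of_iso hT hCs h0
  have hE₂ := pushSys_fs E₀ b hb
  have s2 := sIso_of hT₀ hE₀s hE₂
  have hcomp := fs_comp h0 s0.sm hE₂ s2.sm h₃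
  obtain ⟨hSeq, hHom⟩ := fs_unique hcomp hγ
  exact fs_congr hE₂ hSeq hHom

/-- Isomorphisms carry subnormal chains to subnormal chains. -/
theorem chain_transport {p : ℕ} {T U : Subgroup Ω} {X : FusionSystem T} {Y : FusionSystem U}
    (h : X.IsSubnormalIn Y p) :
    ∀ (_ : Fact p.Prime) (_ : Finite U) (_ : IsPGroup p U) (a : U →* Ω) (hTU : T ≤ U)
      {U' T' : Subgroup Ω} (Y' : FusionSystem U') (X' : FusionSystem T'),
      Y.IsFactorSystem ⊥ a Y' → X.IsFactorSystem ⊥ (a.comp (Subgroup.inclusion hTU)) X' →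
      X'.IsSubnormalIn Y' p := by
  induction h with
  | refl Y₀ p₀ =>
    intro _ _ _ a hTU U' T' Y' X' hY hX
    have ha : a.comp (Subgroup.inclusion hTU) = a := by
      ext x
      rfl
    rw [ha] at hX
    obtain ⟨hSeq, hHom⟩ := fs_unique hY hX
    exact subnormal_congr_left hSeq hHom (IsSubnormalIn.refl Y' p₀)
  | @step U₁ U₀ X₀ D₁ Y₀ p₀ hED hDF ih =>
    intro hp hfin hS a hTS U' T' Y' X' hY hX
    have hUS : U₁ ≤ U₀ := hDF.1.2.2.2.1.1
    have hTU : T ≤ U₁ := subnormal_le hED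
    have hfinU : Finite U₁ := Cfsg.Agent.Lib.Helper90.finite_of_le hUS
    have hU : IsPGroup p₀ U₁ := hS.to_le hUS
    have hinj : Function.Injective (a.comp (Subgroup.inclusion hUS)) :=
      (fs_inj hY).comp (Subgroup.inclusion_injective hUS)
    have hD' := pushSys_fs D₁ (a.comp (Subgroup.inclusion hUS)) hinj
    have e : (a.comp (Subgroup.inclusion hUS)).comp (Subgroup.inclusion hTU) =
        a.comp (Subgroup.inclusion hTS) := by
      ext x
      rfl
    have hX2 : X₀.IsFactorSystem ⊥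
        ((a.comp (Subgroup.inclusion hUS)).comp (Subgroup.inclusion hTU)) X' := by
      rw [e]
      exact hX
    have h1 := ih hp hfinU hU (a.comp (Subgroup.inclusion hUS)) hTU _ X' hD' hX2
    have h2 := normalIn_transport hS hY hDF hUS hD'
    exact IsSubnormalIn.step h1 h2

/-- The image of a subnormal subsystem under a map of the ambient system is subnormal. -/
theorem conj_subnormal {p : ℕ} {T U : Subgroup Ω} {C : FusionSystem T} {D : FusionSystem U}
    (h : C.IsSubnormalIn D p) :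
    ∀ (_ : Fact p.Prime) (_ : Finite U) (_ : IsPGroup p U) (_ : C.IsSaturated p)
      (γ : T →* Ω) (_ : γ ∈ D.Hom T) {T' : Subgroup Ω} (E : FusionSystem T'),
      C.IsFactorSystem ⊥ γ E → E.IsSubnormalIn D p := by
  induction h with
  | refl D₀ p₀ =>
    intro hp hfin hU hCs γ hγ T' E hE
    have hm : Mor D₀ T (extFun T γ) := mor_of_hom hγ
    obtain ⟨α, hα, hαγ⟩ := exists_aut_of_mor hm (fun x hx => hm.mem hx)
    have hαm := (Cfsg.Agent.Lib.Helper90.mem_autGroup_iff D₀ le_rfl α).mp hα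
    have hα'm := (Cfsg.Agent.Lib.Helper90.mem_autGroup_iff D₀ le_rfl α⁻¹).mp (inv_mem hα)
    have hconj : ∀ (β : MulAut T) (_ : Mor D₀ T (autFun T β))
        (_ : Mor D₀ T (autFun T β⁻¹)) (P : Subgroup Ω) (f : Ω → Ω), Mor D₀ P f →
        Mor D₀ (img P (autFun T β)) (autFun T β ∘ f ∘ autFun T β⁻¹) := by
      intro β hβ hβ' P f hf
      have hPU : P ≤ T := hf.le
      have hle : img P (autFun T β) ≤ T := (hβ.restrict hPU).img_le
      have hback : ∀ y ∈ img P (autFun T β), autFun T β⁻¹ y ∈ P := by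
        intro y hy
        obtain ⟨x, hx, rfl⟩ := (hβ.restrict hPU).mem_img.mp hy
        rw [autFun_inv_apply' β (hPU hx)]
        exact hx
      have step1 : Mor D₀ (img P (autFun T β)) (f ∘ autFun T β⁻¹) :=
        (hβ'.restrict hle).comp hf hback
      exact step1.comp hβ fun y hy => hf.mem (hback y hy)
    have hD := aut_iso α hαm hα'm (hconj α hαm hα'm) (by
      have h3 := hconj α⁻¹ hα'm (by rw [inv_inv]; exact hαm)
      rw [inv_inv] at h3
      exact h3)
    have hγα : γ = T.subtype.comp α.toMonoidHom := by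
      ext x
      have h3 := hαγ x
      rw [extFun_apply] at h3
      exact h3.symm
    rw [hγα] at hE
    obtain ⟨hSeq, hHom⟩ := fs_unique hD hE
    exact subnormal_congr_left hSeq hHom (IsSubnormalIn.refl D₀ p₀)
  | @step U₁ U₀ C₀ D₁ D₀ p₀ hCD₁ hD₁D ih =>
    intro hp hfin hU hCs γ hγ T' E hE
    have hU₁U : U₁ ≤ U₀ := hD₁D.1.2.2.2.1.1
    have hTU₁ : T ≤ U₁ := subnormal_le hCD₁
    have hfinU₁ : Finite U₁ := Cfsg.Agent.Lib.Helper90.finite_of_le hU₁U
    have hU₁ : IsPGroup p₀ U₁ := hU.to_le hU₁U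
    have hfinT : Finite T := Cfsg.Agent.Lib.Helper90.finite_of_le hTU₁
    have hT : IsPGroup p₀ T := hU₁.to_le hTU₁
    have hinv : D₁.IsInvariantIn D₀ := hD₁D.1.2.2
    obtain ⟨α, hα, f₀, hf₀, hdec⟩ := invariant_frattini hinv hTU₁ (mor_of_hom hγ)
    obtain ⟨φ₀, hφ₀, hφ₀f⟩ := id hf₀
    have hinjφ₀ : Function.Injective φ₀ := D₁.injective_of_mem hφ₀
    have hE₀ := pushSys_fs C₀ φ₀ hinjφ₀
    have hsn₀ : (pushSys C₀ φ₀ hinjφ₀).IsSubnormalIn D₁ p₀ :=
      ih hp hfinU₁ hU₁ hCs φ₀ hφ₀ _ hE₀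
    have hφ₀U₁ : φ₀.range ≤ U₁ := by
      rintro _ ⟨x, rfl⟩
      exact (D₁.le_of_mem hφ₀).2 x
    have hαm : Mor D₀ U₁ (autFun U₁ α) :=
      (Cfsg.Agent.Lib.Helper90.mem_autGroup_iff D₀ hU₁U α).mp hα
    have hα'm : Mor D₀ U₁ (autFun U₁ α⁻¹) :=
      (Cfsg.Agent.Lib.Helper90.mem_autGroup_iff D₀ hU₁U α⁻¹).mp (inv_mem hα)
    have hDa : D₁.IsFactorSystem ⊥ (U₁.subtype.comp α.toMonoidHom) D₁ :=
      aut_iso α hαm hα'm (fun P f hf => invariant_mor hinv hf hα)
        (fun P f hf => by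
          have h3 := invariant_mor hinv hf (inv_mem hα)
          rw [inv_inv] at h3
          exact h3)
    have hbinj : Function.Injective
        ((U₁.subtype.comp α.toMonoidHom).comp (Subgroup.inclusion hφ₀U₁)) :=
      (fs_inj hDa).comp (Subgroup.inclusion_injective hφ₀U₁)
    have hcancel : (pushSys C₀ φ₀ hinjφ₀).IsFactorSystem ⊥
        ((U₁.subtype.comp α.toMonoidHom).comp (Subgroup.inclusion hφ₀U₁)) E := by
      refine iso_cancel hT hCs hE₀ hE _ hbinj (fun x hx => ?_)
      have e1 := hdec x hx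
      rw [extFun_apply' _ γ hx] at e1
      have hφx : φ₀ ⟨x, hx⟩ ∈ φ₀.range := ⟨_, rfl⟩
      rw [aFun_apply' γ hx, e1, aFun_apply' φ₀ hx, aFun_apply' _ hφx, ← hφ₀f ⟨x, hx⟩,
        autFun_apply' α (hφ₀U₁ hφx)]
      rfl
    have hsn := chain_transport hsn₀ hp hfinU₁ hU₁ (U₁.subtype.comp α.toMonoidHom) hφ₀U₁
      D₁ E hDa hcancel
    exact IsSubnormalIn.step hsn hD₁D

end Cfsg.Agent.Lib.Helper89.IsoT
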