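import Cfsg.Agent.Lib.Helper89.IsoTChain

set_option autoImplicit false

/-!
# Automorphisms of a fusion system and its layer (helper89)

`iso_of_aut`: an automorphism `α` of `S` such that `α` and `α⁻¹` are morphisms `F → F` is an
isomorphism of `F` onto itself.  `layer_le_push`: a layer `E` of `F` is contained in its image
under such an automorphism.
-/

namespace Cfsg.Agent.Lib.Helper89.IsoT

open Cfsg Cfsg.FusionSystem Cfsg.Agent.Lib.Helper90
open Cfsg.Agent.Lib.Helper88 (aFun aFun_apply aFun_apply' aFun_mul aFun_one aFun_inv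
  mem_imageAlong mem_preimageAlong preimageAlong_le mor_image mor_lift aFun_mem exists_aFun_eq
  imageAlong_le kerAlong mem_kerAlong imageAlong_preimageAlong preimageAlong_imageAlong sc_mor
  finite_imageAlong)

variable {Ω : Type*} [Group Ω] {S : Subgroup Ω} {F : FusionSystem S}

theorem aut_aFun (α : S ≃* S) {x : Ω} (hx : x ∈ S) :
    aFun (S.subtype.comp α.toMonoidHom) x = ((α ⟨x, hx⟩ : S) : Ω) := by
  rw [aFun_apply' _ hx]
  rfl

theorem aut_aFun_mem (α : S ≃* S) {x : Ω} (hx : x ∈ S) :
    aFun (S.subtype.comp α.toMonoidHom) x ∈ S := by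
  rw [aut_aFun α hx]
  exact (α ⟨x, hx⟩).2

theorem aut_aFun_symm (α : S ≃* S) {x : Ω} (hx : x ∈ S) :
    aFun (S.subtype.comp α.symm.toMonoidHom) (aFun (S.subtype.comp α.toMonoidHom) x) = x := by
  rw [aut_aFun α hx, aut_aFun α.symm (α ⟨x, hx⟩).2]
  simp

theorem aut_aFun_symm' (α : S ≃* S) {x : Ω} (hx : x ∈ S) :
    aFun (S.subtype.comp α.toMonoidHom) (aFun (S.subtype.comp α.symm.toMonoidHom) x) = x := by
  rw [aut_aFun α.symm hx, aut_aFun α (α.symm ⟨x, hx⟩).2]
  simp

/-- An automorphism of `S` which, with its inverse, is a morphism `F → F` is an isomorphism of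
`F` onto itself. -/
theorem iso_of_aut (α : S ≃* S) (hα : F.IsMorphism F (S.subtype.comp α.toMonoidHom))
    (hα' : F.IsMorphism F (S.subtype.comp α.symm.toMonoidHom)) :
    F.IsFactorSystem ⊥ (S.subtype.comp α.toMonoidHom) F := by
  refine fs_of_mor bot_le (fun s => ?_) ?_ (fun P' f' => ?_)
  · rw [Subgroup.mem_bot]
    constructor
    · intro hs
      have h1 : α s = 1 := Subtype.ext hs
      have h2 : s = 1 := (MulEquiv.map_eq_one_iff α).mp h1
      rw [h2]
      rfl
    · intro hs
      have : s = 1 := Subtype.ext hs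
      rw [this, map_one]
  · ext x
    constructor
    · rintro ⟨s, rfl⟩
      exact (α s).2
    · intro hx
      refine ⟨α.symm ⟨x, hx⟩, ?_⟩
      show ((α (α.symm ⟨x, hx⟩) : S) : Ω) = x
      rw [MulEquiv.apply_symm_apply]
  · have hpre : ∀ {P' : Subgroup Ω}, preimageAlong (S.subtype.comp α.toMonoidHom) P' =
        imageAlong (S.subtype.comp α.symm.toMonoidHom) P' := by
      intro P'
      ext x
      rw [mem_preimageAlong, mem_imageAlong]
      constructor
      · rintro ⟨hxS, hx⟩
        exact ⟨_, hx, aut_aFun_mem α hxS, aut_aFun_symm α hxS⟩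
      · rintro ⟨y, hy, hyS, rfl⟩
        exact ⟨aut_aFun_mem α.symm hyS, by rw [aut_aFun_symm' α hyS]; exact hy⟩
    constructor
    · intro hf'
      have hP' := hf'.le
      obtain ⟨f, hf, hff⟩ := mor_image hα' hf'
      rw [← hpre] at hf
      refine ⟨hP', f, hf, fun x hx => ?_⟩
      obtain ⟨hxS, hx'⟩ := mem_preimageAlong.mp hx
      have e := hff _ hx'
      rw [aut_aFun_symm α hxS] at e
      rw [e, aut_aFun_symm' α (hf'.mem hx')]
    · rintro ⟨hP', f, hf, hff⟩
      obtain ⟨f'', hf'', h2⟩ := mor_image hα hf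
      have hmem : ∀ {y : Ω}, y ∈ P' → aFun (S.subtype.comp α.symm.toMonoidHom) y ∈
          preimageAlong (S.subtype.comp α.toMonoidHom) P' := by
        intro y hy
        have hyS := hP' hy
        exact mem_preimageAlong.mpr ⟨aut_aFun_mem α.symm hyS, by
          rw [aut_aFun_symm' α hyS]; exact hy⟩
      have him : imageAlong (S.subtype.comp α.toMonoidHom)
          (preimageAlong (S.subtype.comp α.toMonoidHom) P') = P' := by
        ext y
        rw [mem_imageAlong]
        constructor
        · rintro ⟨x, hx, hxS, rfl⟩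
          exact (mem_preimageAlong.mp hx).2
        · intro hy
          have hyS := hP' hy
          exact ⟨_, hmem hy, aut_aFun_mem α.symm hyS, aut_aFun_symm' α hyS⟩
      rw [him] at hf''
      refine hf''.congr fun y hy => ?_
      have hyS := hP' hy
      have e1 := h2 _ (hmem hy)
      have e2 := hff _ (hmem hy)
      rw [aut_aFun_symm' α hyS] at e1 e2
      rw [e1, e2]

/-- The layer is contained in its image under an automorphism of the fusion system. -/
theorem layer_le_push {p : ℕ} [Fact p.Prime] [Finite S] (hS : IsPGroup p S) (α : S ≃* S)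
    (hα : F.IsMorphism F (S.subtype.comp α.toMonoidHom))
    (hα' : F.IsMorphism F (S.subtype.comp α.symm.toMonoidHom))
    {T : Subgroup Ω} [Finite T] {E : FusionSystem T} (hE : E.IsLayerOf F p) (hTS : T ≤ S)
    (hinj : Function.Injective
      ((S.subtype.comp α.toMonoidHom).comp (Subgroup.inclusion hTS))) :
    E.IsSubsystemOf (pushSys E _ hinj) := by
  have hFa := iso_of_aut α hα hα'
  have hFa' := iso_of_aut α.symm hα' hα
  have hEα := pushSys_fs E _ hinj
  have hEs : E.IsSaturated p := hE.1.1.1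
  have hT := hS.to_le hTS
  have hn : (pushSys E _ hinj).IsNormalIn F p := normalIn_transport hS hFa hE.1 hTS hEα
  have sE : SIso E _ (pushSys E _ hinj) := sIso_of hT hEs hEα
  refine hE.2.2 _ _ hn (fun U C hC => ?_)
  have hUS : U ≤ S := subnormal_le hC.1
  have hfinU : Finite U := Cfsg.Agent.Lib.Helper90.finite_of_le hUS
  have hU := hS.to_le hUS
  have hinjU : Function.Injective
      ((S.subtype.comp α.symm.toMonoidHom).comp (Subgroup.inclusion hUS)) :=
    (fs_inj hFa').comp (Subgroup.inclusion_injective hUS)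
  have hC' := pushSys_fs C _ hinjU
  have hcomp : (pushSys C _ hinjU).IsComponentIn F p :=
    ⟨chain_transport hC.1 inferInstance inferInstance hS _ hUS F _ hFa' hC',
      quasisimple_transport hU hC' hC.2⟩
  have hsubE := hE.2.1 _ _ hcomp
  have sC : SIso C _ (pushSys C _ hinjU) := sIso_of hU hC.2.1 hC'
  intro P φ hφ
  have hm : Mor C P (extFun P φ) := mor_of_hom hφ
  have hPU : P ≤ U := hm.le
  obtain ⟨f₁, hf₁, hf₁a⟩ := sC.push hm
  have hf₁E : Mor E _ f₁ := mor_of_subsystem hsubE hf₁
  obtain ⟨f₂, hf₂, hf₂a⟩ := sE.push hf₁E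
  have hQT : imageAlong ((S.subtype.comp α.symm.toMonoidHom).comp (Subgroup.inclusion hUS)) P
      ≤ T := hf₁E.le
  have himg : imageAlong ((S.subtype.comp α.toMonoidHom).comp (Subgroup.inclusion hTS))
      (imageAlong ((S.subtype.comp α.symm.toMonoidHom).comp (Subgroup.inclusion hUS)) P) = P := by
    rw [im_res hTS hQT, im_res hUS hPU]
    ext z
    rw [mem_imageAlong]
    constructor
    · rintro ⟨y, hy, hyS, rfl⟩
      obtain ⟨x, hx, hxS, rfl⟩ := mem_imageAlong.mp hy
      rw [aut_aFun_symm' α hxS]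
      exact hx
    · intro hz
      have hzS := hUS (hPU hz)
      exact ⟨_, mem_imageAlong.mpr ⟨z, hz, hzS, rfl⟩, aut_aFun_mem α.symm hzS,
        aut_aFun_symm' α hzS⟩
  rw [himg] at hf₂
  have hm2 : Mor (pushSys E _ hinj) P (extFun P φ) := by
    refine hf₂.congr fun x hx => ?_
    have hxU := hPU hx
    have hxS := hUS hxU
    have hy : aFun ((S.subtype.comp α.symm.toMonoidHom).comp (Subgroup.inclusion hUS)) x ∈
        imageAlong ((S.subtype.comp α.symm.toMonoidHom).comp (Subgroup.inclusion hUS)) P :=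
      mem_imageAlong.mpr ⟨x, hx, hxU, rfl⟩
    have e1 := hf₁a x hx
    have e2 := hf₂a _ hy
    have hyT := hQT hy
    have hφU : extFun P φ x ∈ U := hm.mem hx
    have hf₁T := hf₁E.mem hy
    rw [aFun_res hTS hyT, aFun_res hTS hf₁T] at e2
    rw [aFun_res hUS hxU] at e1 e2
    rw [aut_aFun_symm' α hxS] at e2
    rw [e2, e1, aFun_res hUS hφU, aut_aFun_symm' α (hUS hφU)]
  exact hm2.hom φ (fun x => (extFun_apply P φ x).symm)

end Cfsg.Agent.Lib.Helper89.IsoT
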