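import Cfsg.Agent.Lib.Helper89.IsoTBase
import Cfsg.Agent.Lib.Helper90.Normal
import Cfsg.Agent.Lib.Helper88.FusExt

set_option autoImplicit false

/-!
# Transport of normal subsystems along isomorphisms (helper89)

`normalIn_transport`: if `θ` is an isomorphism from `F` (over `S`) onto `F'` and its restriction
to `T ≤ S` is an isomorphism from `E` (over `T`) onto `E'`, and `E` is normal in `F`, then `E'`
is normal in `F'`.
-/

namespace Cfsg.Agent.Lib.Helper89.IsoT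

open Cfsg Cfsg.FusionSystem Cfsg.Agent.Lib.Helper90
open Cfsg.Agent.Lib.Helper88 (aFun aFun_apply aFun_apply' aFun_mul aFun_one aFun_inv
  mem_imageAlong mem_preimageAlong preimageAlong_le mor_image mor_lift aFun_mem exists_aFun_eq
  imageAlong_le kerAlong mem_kerAlong imageAlong_preimageAlong preimageAlong_imageAlong sc_mor
  finite_imageAlong)

variable {Ω : Type*} [Group Ω] {S T : Subgroup Ω} {F : FusionSystem S} {E : FusionSystem T}

/-- Invariance of a subsystem from its description by maps. -/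
theorem invariantIn_of_mor' (hsub : E.IsSubsystemOf F) (hsc : F.StronglyClosed T)
    (hconj : ∀ (P : Subgroup Ω) (f : Ω → Ω), Mor E P f → ∀ α ∈ F.autGroup T,
      Mor E (img P (autFun T α)) (autFun T α ∘ f ∘ autFun T α⁻¹))
    (hfrat : ∀ (P : Subgroup Ω) (f : Ω → Ω), P ≤ T → Mor F P f → ∃ α ∈ F.autGroup T, ∃ f₀,
      Mor E P f₀ ∧ ∀ x ∈ P, f x = autFun T α (f₀ x)) : E.IsInvariantIn F := by
  refine ⟨hsub, hsc, ?_, ?_⟩
  · intro P hPT φ hφ α hα
    have hm := hconj P _ (mor_of_hom hφ) α hα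
    have key : ∀ Q : Subgroup Ω, Q = img P (autFun T α) →
        ∃ χ ∈ E.Hom Q, ∀ (x : P) (hφx : φ x ∈ T) (hαx : ((α ⟨x, hPT x.2⟩ : T) : Ω) ∈ Q),
          χ ⟨(α ⟨x, hPT x.2⟩ : T), hαx⟩ = ((α ⟨φ x, hφx⟩ : T) : Ω) := by
      intro Q hQ
      subst hQ
      obtain ⟨χ, hχ, hχf⟩ := hm
      refine ⟨χ, hχ, fun x hφx hαx => ?_⟩
      rw [hχf]
      show autFun T α (extFun P φ (autFun T α⁻¹ ((α ⟨x, hPT x.2⟩ : T) : Ω))) = _
      rw [autFun_apply, show α⁻¹ (α ⟨x, hPT x.2⟩) = ⟨x, hPT x.2⟩ by simp]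
      show autFun T α (extFun P φ ((x : P) : Ω)) = _
      rw [extFun_apply, autFun_apply' α hφx]
    exact key _ (map_subgroupOf_eq_img hPT α)
  · intro P hPT φ hφ
    obtain ⟨α, hα, f₀, hf₀, hff⟩ := hfrat P _ hPT (mor_of_hom hφ)
    obtain ⟨φ₀, hφ₀, hφ₀f⟩ := id hf₀
    refine ⟨α, hα, φ₀, hφ₀, fun x hx => ?_⟩
    have h1 := hff x x.2
    rw [extFun_apply] at h1
    rw [h1, ← hφ₀f x, autFun_apply' α hx]

/-- Normal subsystems are carried to normal subsystems by isomorphisms. -/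
theorem normalIn_transport {Ω' : Type*} [Group Ω'] {S' T' : Subgroup Ω'} {p : ℕ} [Fact p.Prime]
    [Finite S] (hS : IsPGroup p S) {F' : FusionSystem S'} {θ : S →* Ω'}
    (hFF' : F.IsFactorSystem ⊥ θ F') (hE : E.IsNormalIn F p) (hTS : T ≤ S)
    {E' : FusionSystem T'}
    (hEE' : E.IsFactorSystem ⊥ (θ.comp (Subgroup.inclusion hTS)) E') : E'.IsNormalIn F' p := by
  obtain ⟨⟨hEs, hFs, hinv⟩, hext⟩ := hE
  have : Finite T := Cfsg.Agent.Lib.Helper90.finite_of_le hTS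
  have hT : IsPGroup p T := hS.to_le hTS
  have h1 : SIso F θ F' := sIso_of hS hFs hFF'
  have h2 : SIso E (θ.comp (Subgroup.inclusion hTS)) E' := sIso_of hT hEs hEE'
  have hF's : F'.IsSaturated p := sat_of_iso hS hFs hFF'
  have hE's : E'.IsSaturated p := sat_of_iso hT hEs hEE'
  have hT' : imageAlong θ T = T' := by rw [← range_res hTS]; exact h2.range
  have hT'S' : T' ≤ S' := hT' ▸ h1.im_le T
  have : Finite S' := h1.im_top ▸ finite_imageAlong θ S
  have : Finite T' := Cfsg.Agent.Lib.Helper90.finite_of_le hT'S'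
  have haT : ∀ {x : Ω}, x ∈ T → aFun (θ.comp (Subgroup.inclusion hTS)) x = aFun θ x :=
    fun hx => aFun_res hTS hx
  have hpreT : ∀ {R' : Subgroup Ω'}, R' ≤ T' → preimageAlong θ R' ≤ T := by
    intro R' hR' u hu
    obtain ⟨huS, hu'⟩ := mem_preimageAlong.mp hu
    have : aFun θ u ∈ imageAlong θ T := by rw [hT']; exact hR' hu'
    exact (h1.mem_im_iff huS).mp this
  have hpre : ∀ {P' : Subgroup Ω'}, P' ≤ T' →
      preimageAlong (θ.comp (Subgroup.inclusion hTS)) P' = preimageAlong θ P' :=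
    fun hP' => pre_res h1.inj hTS (hT' ▸ hP')
  have hmemT' : ∀ {x : Ω}, x ∈ T → aFun θ x ∈ T' := by
    intro x hx
    rw [← hT']
    exact mem_imageAlong.mpr ⟨x, hx, hTS hx, rfl⟩
  have hexT' : ∀ {y : Ω'}, y ∈ T' → ∃ x ∈ T, aFun θ x = y := by
    intro y hy
    rw [← hT'] at hy
    obtain ⟨x, hx, -, e⟩ := mem_imageAlong.mp hy
    exact ⟨x, hx, e⟩
  -- subsystem
  have hsub' : E'.IsSubsystemOf F' := by
    intro P' φ' hφ'
    have hm : Mor E' P' (extFun P' φ') := mor_of_hom hφ'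
    have hP'T' : P' ≤ T' := hm.le
    obtain ⟨f, hf, hff⟩ := h2.pull hm
    have hfF : Mor F (preimageAlong (θ.comp (Subgroup.inclusion hTS)) P') f :=
      mor_of_subsystem hinv.1 hf
    rw [hpre hP'T'] at hfF
    have hm' : Mor F' P' (extFun P' φ') := by
      refine (sm_mor_iff h1.sm).mpr ⟨hP'T'.trans hT'S', f, hfF, fun x hx => ?_⟩
      have hx' : x ∈ preimageAlong (θ.comp (Subgroup.inclusion hTS)) P' := by
        rw [hpre hP'T']; exact hx
      have h3 := hff x hx'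
      rw [haT (mem_preimageAlong.mp hx').1, haT (hf.mem hx')] at h3
      exact h3
    exact hm'.hom φ' (fun x => (extFun_apply P' φ' x).symm)
  -- strong closure
  have hsc' : F'.StronglyClosed T' := by
    refine ⟨hT'S', fun R' hR' φ' hφ' x' => ?_⟩
    have hm : Mor F' R' (extFun R' φ') := mor_of_hom hφ'
    obtain ⟨f, hf, hff⟩ := h1.pull hm
    obtain ⟨x, hxS, hxe⟩ := h1.exists_pre (hT'S' (hR' x'.2))
    have hxpre : x ∈ preimageAlong θ R' := mem_preimageAlong.mpr ⟨hxS, by rw [hxe]; exact x'.2⟩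
    have h3 : f x ∈ T := sc_mor hinv.2.1 (hpreT hR') hf x hxpre
    have h4 := hff x hxpre
    rw [hxe, extFun_apply] at h4
    rw [h4]
    exact hmemT' h3
  -- conjugation invariance
  have hconj' : ∀ (P' : Subgroup Ω') (f' : Ω' → Ω'), Mor E' P' f' → ∀ α' ∈ F'.autGroup T',
      Mor E' (img P' (autFun T' α')) (autFun T' α' ∘ f' ∘ autFun T' α'⁻¹) := by
    intro P' f' hf' α' hα'
    have hP'T' : P' ≤ T' := hf'.le
    obtain ⟨α, hα, hR1⟩ := h1.pull_aut hTS hT' α' hα'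
    obtain ⟨f, hf, hff⟩ := h2.pull hf'
    have hPT : preimageAlong (θ.comp (Subgroup.inclusion hTS)) P' ≤ T := preimageAlong_le _ _
    have hc := invariant_mor hinv hf hα
    obtain ⟨k', hk', hk'a⟩ := h2.push hc
    have hαm : Mor F (preimageAlong (θ.comp (Subgroup.inclusion hTS)) P') (autFun T α) :=
      ((Cfsg.Agent.Lib.Helper90.mem_autGroup_iff F hTS α).mp hα).restrict hPT
    have hα'm : Mor F' P' (autFun T' α') :=
      ((Cfsg.Agent.Lib.Helper90.mem_autGroup_iff F' hT'S' α').mp hα').restrict hP'T'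
    have hP'ex : ∀ {v : Ω'}, v ∈ P' →
        ∃ u ∈ preimageAlong (θ.comp (Subgroup.inclusion hTS)) P', aFun θ u = v := by
      intro v hv
      obtain ⟨u, hu, e⟩ := hexT' (hP'T' hv)
      refine ⟨u, mem_preimageAlong.mpr ⟨hu, ?_⟩, e⟩
      rw [haT hu, e]; exact hv
    have himg : imageAlong (θ.comp (Subgroup.inclusion hTS))
        (img (preimageAlong (θ.comp (Subgroup.inclusion hTS)) P') (autFun T α)) =
        img P' (autFun T' α') := by
      ext y
      rw [mem_imageAlong, hα'm.mem_img]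
      constructor
      · rintro ⟨w, hw, hwT, rfl⟩
        obtain ⟨u, hu, rfl⟩ := hαm.mem_img.mp hw
        have huT := hPT hu
        have hu' := (mem_preimageAlong.mp hu).2
        rw [haT huT] at hu'
        refine ⟨aFun θ u, hu', ?_⟩
        rw [hR1 u huT, haT hwT]
      · rintro ⟨v, hv, rfl⟩
        obtain ⟨u, hu, rfl⟩ := hP'ex hv
        have huT := hPT hu
        refine ⟨autFun T α u, hαm.mem_img.mpr ⟨u, hu, rfl⟩, autFun_mem α huT, ?_⟩
        rw [hR1 u huT, haT (autFun_mem α huT)]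
    rw [himg] at hk'
    refine hk'.congr fun y hy => ?_
    obtain ⟨v, hv, rfl⟩ := hα'm.mem_img.mp hy
    obtain ⟨u, hu, rfl⟩ := hP'ex hv
    have huT := hPT hu
    have hfu : f u ∈ T := hf.mem hu
    have e1 : autFun T' α' (aFun θ u) =
        aFun (θ.comp (Subgroup.inclusion hTS)) (autFun T α u) := by
      rw [hR1 u huT, haT (autFun_mem α huT)]
    have e2 : k' (autFun T' α' (aFun θ u)) =
        aFun (θ.comp (Subgroup.inclusion hTS)) (autFun T α (f u)) := by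
      rw [e1, hk'a _ (hαm.mem_img.mpr ⟨u, hu, rfl⟩)]
      show aFun _ (autFun T α (f (autFun T α⁻¹ (autFun T α u)))) = _
      rw [autFun_inv_apply' α huT]
    rw [e2]
    show _ = autFun T' α' (f' (autFun T' α'⁻¹ (autFun T' α' (aFun θ u))))
    rw [autFun_inv_apply' α' (hP'T' hv)]
    have e3 := hff u hu
    rw [haT huT, haT hfu] at e3
    rw [e3, hR1 _ hfu, haT (autFun_mem α hfu)]
  -- Frattini condition
  have hfrat' : ∀ (P' : Subgroup Ω') (f' : Ω' → Ω'), P' ≤ T' → Mor F' P' f' →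
      ∃ α' ∈ F'.autGroup T', ∃ f₀', Mor E' P' f₀' ∧ ∀ y ∈ P', f' y = autFun T' α' (f₀' y) := by
    intro P' f' hP'T' hf'
    obtain ⟨f, hf, hff⟩ := h1.pull hf'
    have hPT := hpreT hP'T'
    obtain ⟨α, hα, f₀, hf₀, hdec⟩ := invariant_frattini hinv hPT hf
    obtain ⟨α', hα', hR1⟩ := h1.push_aut hTS hT' α hα
    obtain ⟨f₀', hf₀', hf₀a⟩ := h2.push hf₀
    have himg : imageAlong (θ.comp (Subgroup.inclusion hTS)) (preimageAlong θ P') = P' := by
      rw [im_res hTS hPT, h1.im_pre (hP'T'.trans hT'S')]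
    rw [himg] at hf₀'
    refine ⟨α', hα', f₀', hf₀', fun y hy => ?_⟩
    obtain ⟨x, hxS, rfl⟩ := h1.exists_pre (hT'S' (hP'T' hy))
    have hx : x ∈ preimageAlong θ P' := mem_preimageAlong.mpr ⟨hxS, hy⟩
    have hxT := hPT hx
    have hf₀x : f₀ x ∈ T := hf₀.mem hx
    have e1 := hf₀a x hx
    rw [haT hxT, haT hf₀x] at e1
    rw [hff x hx, hdec x hx, e1, hR1 _ hf₀x]
  refine ⟨⟨hE's, hF's, invariantIn_of_mor' hsub' hsc' hconj' hfrat'⟩, ?_⟩
  -- extension condition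
  intro α' hα'
  obtain ⟨α, hα, hR1⟩ := h2.pull_aut le_rfl h2.im_top α' hα'
  obtain ⟨β, hβ, hβα, hβc⟩ := hext α hα
  have hX : T ⊔ centralizerIn S T ≤ S := sup_le hTS inf_le_left
  have hβm := (Cfsg.Agent.Lib.Helper90.mem_autGroup_iff F hX β).mp hβ
  obtain ⟨k', hk', hk'a⟩ := h1.push hβm
  have hX' : imageAlong θ (T ⊔ centralizerIn S T) = T' ⊔ centralizerIn S' T' := by
    rw [SIso.im_sup (θ := θ) (A := T) (B := centralizerIn S T) hTS inf_le_left, h1.im_centralizer hTS, hT']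
  rw [hX'] at hk'
  have hX'S' : T' ⊔ centralizerIn S' T' ≤ S' := sup_le hT'S' inf_le_left
  have : Finite ↥(T' ⊔ centralizerIn S' T') := Cfsg.Agent.Lib.Helper90.finite_of_le hX'S'
  have hexX' : ∀ {y : Ω'}, y ∈ T' ⊔ centralizerIn S' T' →
      ∃ x ∈ T ⊔ centralizerIn S T, aFun θ x = y := by
    intro y hy
    rw [← hX'] at hy
    obtain ⟨x, hx, -, e⟩ := mem_imageAlong.mp hy
    exact ⟨x, hx, e⟩
  have hk'X : ∀ y ∈ T' ⊔ centralizerIn S' T', k' y ∈ T' ⊔ centralizerIn S' T' := by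
    intro y hy
    obtain ⟨x, hx, rfl⟩ := hexX' hy
    rw [hk'a x hx, ← hX']
    exact mem_imageAlong.mpr ⟨_, autFun_mem β hx, hX (autFun_mem β hx), rfl⟩
  obtain ⟨β', hβ', hβ'k⟩ := exists_aut_of_mor hk' hk'X
  refine ⟨β', hβ', fun x => ?_, fun c hc => ?_⟩
  · obtain ⟨t, ht, hte⟩ := hexT' x.2
    have htX : t ∈ T ⊔ centralizerIn S T := (le_sup_left : T ≤ _) ht
    have e1 : ((β' (Subgroup.inclusion le_sup_left x) : ↥(T' ⊔ centralizerIn S' T')) : Ω') =
        k' (x : Ω') := hβ'k _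
    rw [e1, ← hte, hk'a t htX, autFun_apply' β htX]
    have e2 := hβα ⟨t, ht⟩
    have e3 : ((β ⟨t, htX⟩ : ↥(T ⊔ centralizerIn S T)) : Ω) = ((α ⟨t, ht⟩ : T) : Ω) := e2
    rw [e3]
    have e4 := hR1 t ht
    rw [haT ht, autFun_apply' α ht, haT (α ⟨t, ht⟩).2] at e4
    rw [← e4]
    have hx' : aFun θ t ∈ T' := hmemT' ht
    rw [autFun_apply' α' hx']
    congr 2
    exact Subtype.ext hte
  · obtain ⟨u, hu, hue⟩ := hexX' c.2
    have huS := hX hu
    have huC : u ∈ centralizerIn S T := by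
      have h3 : aFun θ u ∈ imageAlong θ (centralizerIn S T) := by
        rw [h1.im_centralizer hTS, hT', hue]; exact hc
      exact (h1.mem_im_iff huS).mp h3
    have h4 := hβc ⟨u, hu⟩ huC
    have e1 : ((β' c : ↥(T' ⊔ centralizerIn S' T')) : Ω') = k' (c : Ω') := hβ'k c
    rw [e1, ← hue, hk'a u hu, autFun_apply' β hu]
    set w : Ω := u⁻¹ * ((β ⟨u, hu⟩ : ↥(T ⊔ centralizerIn S T)) : Ω) with hw
    have hβuS : ((β ⟨u, hu⟩ : ↥(T ⊔ centralizerIn S T)) : Ω) ∈ S := hX (β ⟨u, hu⟩).2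
    have hwT : w ∈ T := h4.1
    have hwC : w ∈ Subgroup.centralizer (T : Set Ω) := h4.2
    have e2 : (aFun θ u)⁻¹ * aFun θ ((β ⟨u, hu⟩ : ↥(T ⊔ centralizerIn S T)) : Ω) = aFun θ w := by
      rw [hw, aFun_mul θ (S.inv_mem huS) hβuS, aFun_inv θ huS]
    rw [e2]
    refine ⟨hmemT' hwT, ?_⟩
    show aFun θ w ∈ Subgroup.centralizer ((T' : Subgroup Ω') : Set Ω')
    rw [Subgroup.mem_centralizer_iff]
    intro z hz
    obtain ⟨t, ht, rfl⟩ := hexT' hz
    have hc2 : t * w = w * t := (Subgroup.mem_centralizer_iff.mp hwC) t ht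
    rw [← aFun_mul θ (hTS ht) (hTS hwT), ← aFun_mul θ (hTS hwT) (hTS ht), hc2]

end Cfsg.Agent.Lib.Helper89.IsoT
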