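import Cfsg.Agent.Lib.Helper89.IsoTNormal
import Cfsg.Agent.S5144
import Cfsg.Agent.S5256

set_option autoImplicit false

/-!
# Transport of centres, simplicity and quasisimplicity along isomorphisms (helper89)

`SIso.im_center`: an isomorphism of fusion systems carries the centre onto the centre.
`simple_transport`, `quasisimple_transport`: an isomorphic copy of a simple (quasisimple)
fusion system is simple (quasisimple).
-/

namespace Cfsg.Agent.Lib.Helper89.IsoT

open Cfsg Cfsg.FusionSystem Cfsg.Agent.Lib.Helper90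
open Cfsg.Agent.Lib.Helper88 (aFun aFun_apply aFun_apply' aFun_mul aFun_one aFun_inv
  mem_imageAlong mem_preimageAlong preimageAlong_le mor_image mor_lift aFun_mem exists_aFun_eq
  imageAlong_le kerAlong mem_kerAlong imageAlong_preimageAlong preimageAlong_imageAlong sc_mor
  finite_imageAlong)

variable {Ω : Type*} [Group Ω] {S : Subgroup Ω} {Ω' : Type*} [Group Ω'] {S' : Subgroup Ω'}
  {F : FusionSystem S} {F' : FusionSystem S'} {θ : S →* Ω'}

theorem central_ext {Z : Subgroup Ω} (hZ : F.IsCentral Z) {P : Subgroup Ω} {f : Ω → Ω}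
    (hf : Mor F P f) :
    ∃ g, Mor F (P ⊔ Z) g ∧ (∀ x ∈ P, g x = f x) ∧ ∀ z ∈ Z, g z = z := by
  obtain ⟨φ, hφ, hφf⟩ := hf
  obtain ⟨ψ, hψ, h1, h2⟩ := hZ.2 P φ hφ
  refine ⟨extFun _ ψ, mor_of_hom hψ, fun x hx => ?_, fun x hx => ?_⟩
  · rw [extFun_apply' _ ψ (Subgroup.mem_sup_left hx), ← hφf ⟨x, hx⟩]
    exact h1 ⟨x, hx⟩
  · rw [extFun_apply' _ ψ (Subgroup.mem_sup_right hx)]
    exact h2 ⟨x, hx⟩

theorem isCentral_of_ext {Z : Subgroup Ω} (hZ : Z ≤ S)
    (h : ∀ (P : Subgroup Ω) (f : Ω → Ω), Mor F P f →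
      ∃ g, Mor F (P ⊔ Z) g ∧ (∀ x ∈ P, g x = f x) ∧ ∀ z ∈ Z, g z = z) : F.IsCentral Z := by
  refine ⟨hZ, fun P φ hφ => ?_⟩
  obtain ⟨f', ⟨ψ, hψ, hψf⟩, hf'P, hf'Z⟩ := h P _ (mor_of_hom hφ)
  refine ⟨ψ, hψ, fun x => ?_, fun x => ?_⟩
  · rw [hψf]
    show f' x = φ x
    rw [hf'P x x.2, extFun_apply]
  · rw [hψf]
    exact hf'Z x x.2

theorem stronglyClosed_of_isCentral {Z : Subgroup Ω} (hZ : F.IsCentral Z) :
    F.StronglyClosed Z := by
  refine ⟨hZ.1, fun R hR φ hφ x => ?_⟩
  obtain ⟨g, hg, hgR, hgZ⟩ := central_ext hZ (mor_of_hom hφ)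
  have e1 := hgR x x.2
  rw [extFun_apply] at e1
  rw [← e1, hgZ x (hR x.2)]
  exact hR x.2

namespace SIso

variable (h : SIso F θ F')
include h

theorem isCentral_im {Z : Subgroup Ω} (hZ : F.IsCentral Z) :
    F'.IsCentral (imageAlong θ Z) := by
  refine isCentral_of_ext (h.im_le Z) fun P' f' hf' => ?_
  obtain ⟨f, hf, hff⟩ := h.pull hf'
  obtain ⟨g, hg, hgP, hgZ⟩ := central_ext hZ hf
  obtain ⟨g', hg', hg'a⟩ := h.push hg
  rw [SIso.im_sup (preimageAlong_le θ P') hZ.1, h.im_pre hf'.le] at hg'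
  refine ⟨g', hg', fun y hy => ?_, fun z hz => ?_⟩
  · obtain ⟨x, hxS, rfl⟩ := h.exists_pre (hf'.le hy)
    have hx : x ∈ preimageAlong θ P' := mem_preimageAlong.mpr ⟨hxS, hy⟩
    rw [hg'a x (Subgroup.mem_sup_left hx), hgP x hx, hff x hx]
  · obtain ⟨w, hw, hwS, rfl⟩ := mem_imageAlong.mp hz
    rw [hg'a w (Subgroup.mem_sup_right hw), hgZ w hw]

theorem isCentral_pre {Z' : Subgroup Ω'} (hZ' : F'.IsCentral Z') :
    F.IsCentral (preimageAlong θ Z') := by
  refine isCentral_of_ext (preimageAlong_le θ Z') fun P f hf => ?_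
  obtain ⟨f', hf', hff⟩ := h.push hf
  obtain ⟨g', hg', hg'P, hg'Z⟩ := central_ext hZ' hf'
  obtain ⟨g, hg, hga⟩ := h.pull hg'
  have hsup : preimageAlong θ (imageAlong θ P ⊔ Z') = P ⊔ preimageAlong θ Z' := by
    have e : imageAlong θ (P ⊔ preimageAlong θ Z') = imageAlong θ P ⊔ Z' := by
      rw [SIso.im_sup hf.le (preimageAlong_le θ Z'), h.im_pre hZ'.1]
    rw [← e, h.pre_im (sup_le hf.le (preimageAlong_le θ Z'))]
  rw [hsup] at hg hga
  refine ⟨g, hg, fun x hx => ?_, fun z hz => ?_⟩
  · have hxs : x ∈ P ⊔ preimageAlong θ Z' := Subgroup.mem_sup_left hx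
    have e := hga x hxs
    rw [hg'P _ (mem_imageAlong.mpr ⟨x, hx, hf.le hx, rfl⟩), hff x hx] at e
    exact (h.aFun_inj (hf.mem hx) (hg.mem hxs) e).symm
  · have hzs : z ∈ P ⊔ preimageAlong θ Z' := Subgroup.mem_sup_right hz
    have e := hga z hzs
    rw [hg'Z _ (mem_preimageAlong.mp hz).2] at e
    exact (h.aFun_inj (preimageAlong_le θ Z' hz) (hg.mem hzs) e).symm

theorem im_center [Finite S] [Finite S'] : imageAlong θ F.center = F'.center := by
  apply le_antisymm
  · exact le_sSup (h.isCentral_im (Cfsg.Agent.S5144.result F))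
  · have hc' : F'.IsCentral F'.center := Cfsg.Agent.S5144.result F'
    have h1 : preimageAlong θ F'.center ≤ F.center := le_sSup (h.isCentral_pre hc')
    have h2 := SIso.im_mono (θ := θ) h1
    rw [h.im_pre hc'.1] at h2
    exact h2

end SIso

/-- An isomorphic copy of a simple fusion system is simple. -/
theorem simple_transport {p : ℕ} [Fact p.Prime] [Finite S] (hS : IsPGroup p S)
    (hFF' : F.IsFactorSystem ⊥ θ F') (hF : F.IsSimple p) : F'.IsSimple p := by
  obtain ⟨hFs, hne, hsimple⟩ := hF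
  have h1 : SIso F θ F' := sIso_of hS hFs hFF'
  have hF's := sat_of_iso hS hFs hFF'
  have hfin' : Finite S' := h1.im_top ▸ finite_imageAlong θ S
  have hS' : IsPGroup p S' := by
    have h0 := hS.of_surjective θ.rangeRestrict θ.rangeRestrict_surjective
    rw [h1.range] at h0
    exact h0
  refine ⟨hF's, ?_, fun T' D' hD' => ?_⟩
  · intro hbot
    apply hne
    rw [eq_bot_iff]
    intro x hx
    have h2 := h1.mem hx
    rw [hbot, Subgroup.mem_bot] at h2
    rw [Subgroup.mem_bot]
    exact h1.aFun_inj hx S.one_mem (h2.trans (aFun_one θ).symm)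
  · have hι := iso_symm h1
    have h1' : SIso F' (invHom θ h1.inj h1.range) F := sIso_of hS' hF's hι
    have hT'S' : T' ≤ S' := hD'.1.2.2.2.1.1
    have hfinT' : Finite T' := Cfsg.Agent.Lib.Helper90.finite_of_le hT'S'
    have hinjT : Function.Injective
        ((invHom θ h1.inj h1.range).comp (Subgroup.inclusion hT'S')) :=
      (invHom_injective h1.inj h1.range).comp (Subgroup.inclusion_injective hT'S')
    have hDD := pushSys_fs D' _ hinjT
    have hDn := normalIn_transport hS' hι hD' hT'S' hDD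
    have h2' : SIso D' ((invHom θ h1.inj h1.range).comp (Subgroup.inclusion hT'S'))
        (pushSys D' _ hinjT) := sIso_of (hS'.to_le hT'S') hD'.1.1 hDD
    have hrng : ((invHom θ h1.inj h1.range).comp (Subgroup.inclusion hT'S')).range =
        imageAlong (invHom θ h1.inj h1.range) T' := range_res hT'S'
    rcases hsimple _ _ hDn with h0 | ⟨hTS, hHom⟩
    · left
      rw [eq_bot_iff]
      intro y hy
      have h3 : aFun (invHom θ h1.inj h1.range) y ∈ imageAlong (invHom θ h1.inj h1.range) T' :=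
        mem_imageAlong.mpr ⟨y, hy, hT'S' hy, rfl⟩
      rw [← hrng, h0, Subgroup.mem_bot] at h3
      rw [Subgroup.mem_bot]
      exact h1'.aFun_inj (hT'S' hy) S'.one_mem (h3.trans (aFun_one _).symm)
    · right
      have hT'eq : T' = S' := by
        have e1 : imageAlong (invHom θ h1.inj h1.range) T' =
            imageAlong (invHom θ h1.inj h1.range) S' := by rw [← hrng, hTS, h1'.im_top]
        have e2 := congrArg (preimageAlong (invHom θ h1.inj h1.range)) e1
        rw [h1'.pre_im hT'S', h1'.pre_im le_rfl] at e2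
        exact e2
      refine ⟨hT'eq, fun P => ?_⟩
      apply Set.eq_of_subset_of_subset (hD'.1.2.2.1 P)
      intro φ hφ
      have hm : Mor F' P (extFun P φ) := mor_of_hom hφ
      have hPS' : P ≤ S' := hm.le
      obtain ⟨f₁, hf₁, hf₁a⟩ := h1'.push hm
      have hf₁D : Mor (pushSys D' _ hinjT) (imageAlong (invHom θ h1.inj h1.range) P) f₁ := by
        obtain ⟨ψ, hψ, hψf⟩ := hf₁
        exact ⟨ψ, by rw [hHom]; exact hψ, hψf⟩
      obtain ⟨f₂, hf₂, hf₂a⟩ := h2'.pull hf₁D
      have hpre : preimageAlong ((invHom θ h1.inj h1.range).comp (Subgroup.inclusion hT'S'))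
          (imageAlong (invHom θ h1.inj h1.range) P) = P := by
        rw [pre_res h1'.inj hT'S' (SIso.im_mono (hPS'.trans (le_of_eq hT'eq.symm))),
          h1'.pre_im hPS']
      rw [hpre] at hf₂ hf₂a
      have hm2 : Mor D' P (extFun P φ) := by
        refine hf₂.congr fun y hy => ?_
        have hyT' : y ∈ T' := hf₂.le hy
        have e := hf₂a y hy
        rw [aFun_res hT'S' hyT', aFun_res hT'S' (hf₂.mem hy), hf₁a y hy] at e
        exact (h1'.aFun_inj (hm.mem hy) (hT'S' (hf₂.mem hy)) e).symm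
      exact hm2.hom φ (fun x => (extFun_apply P φ x).symm)

/-- An isomorphic copy of a quasisimple fusion system is quasisimple. -/
theorem quasisimple_transport {p : ℕ} [Fact p.Prime] [Finite S] (hS : IsPGroup p S)
    (hFF' : F.IsFactorSystem ⊥ θ F') (hF : F.Quasisimple p) : F'.Quasisimple p := by
  obtain ⟨hFs, hhyp, hfac⟩ := hF
  have h1 : SIso F θ F' := sIso_of hS hFs hFF'
  have hF's := sat_of_iso hS hFs hFF'
  have hfin' : Finite S' := h1.im_top ▸ finite_imageAlong θ S
  have hS' : IsPGroup p S' := by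
    have h0 := hS.of_surjective θ.rangeRestrict θ.rangeRestrict_surjective
    rw [h1.range] at h0
    exact h0
  refine ⟨hF's, ?_, fun E' hE' => ?_⟩
  · rw [Cfsg.Agent.S5256.result p hS F hFs ⊥ (stronglyClosed_bot F) θ F' hFF', hhyp]
    exact h1.im_top
  · have hcF : F.IsCentral F.center := Cfsg.Agent.S5144.result F
    have hcF' : F'.IsCentral F'.center := Cfsg.Agent.S5144.result F'
    have hscF := stronglyClosed_of_isCentral hcF
    have hscF' := stronglyClosed_of_isCentral hcF'
    obtain ⟨C', hC'⟩ := Cfsg.Agent.S5132.result p hS F F.center hscF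
    have hC'simple := hfac C' hC'
    have hsmC := Cfsg.Agent.S5134.result p hS F hFs F.center hscF _ C' hC'
    have hsmE := Cfsg.Agent.S5134.result p hS' F' hF's F'.center hscF' _ E' hE'
    have hcen := h1.im_center
    -- the induced map on the quotients
    have hθS' : ∀ s : S, θ s ∈ S' := fun s => by rw [← h1.range]; exact ⟨s, rfl⟩
    have hle : (F.center).subgroupOf S ≤
        ((F'.center).subgroupOf S').comap (θ.codRestrict S' hθS') := by
      intro s hs
      rw [Subgroup.mem_comap, Subgroup.mem_subgroupOf]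
      rw [Subgroup.mem_subgroupOf] at hs
      show θ s ∈ F'.center
      rw [← hcen, ← aFun_apply θ s]
      exact mem_imageAlong.mpr ⟨s, hs, s.2, rfl⟩
    let q : S ⧸ (F.center).subgroupOf S →* S' ⧸ (F'.center).subgroupOf S' :=
      QuotientGroup.map _ _ (θ.codRestrict S' hθS') hle
    let e : ↥(⊤ : Subgroup (S ⧸ (F.center).subgroupOf S)) →* S' ⧸ (F'.center).subgroupOf S' :=
      q.comp (⊤ : Subgroup (S ⧸ (F.center).subgroupOf S)).subtype
    have hinje : Function.Injective e := by
      rw [injective_iff_map_eq_one]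
      rintro ⟨x, hx0⟩ hx
      obtain ⟨s, rfl⟩ := QuotientGroup.mk_surjective x
      have h3 : (QuotientGroup.mk (θ.codRestrict S' hθS' s) :
          S' ⧸ (F'.center).subgroupOf S') = 1 := hx
      rw [QuotientGroup.eq_one_iff, Subgroup.mem_subgroupOf] at h3
      have h4 : aFun θ s ∈ imageAlong θ F.center := by
        rw [hcen, aFun_apply θ s]; exact h3
      have h5 : (s : Ω) ∈ F.center := (h1.mem_im_iff s.2).mp h4
      apply Subtype.ext
      show (QuotientGroup.mk s : S ⧸ (F.center).subgroupOf S) = 1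
      rw [QuotientGroup.eq_one_iff, Subgroup.mem_subgroupOf]
      exact h5
    have hrange_e : e.range = ⊤ := by
      rw [eq_top_iff]
      intro y _
      obtain ⟨s', rfl⟩ := QuotientGroup.mk_surjective y
      have hs' : (s' : Ω') ∈ θ.range := by rw [h1.range]; exact s'.2
      obtain ⟨s, hs⟩ := hs'
      refine ⟨⟨QuotientGroup.mk s, Subgroup.mem_top _⟩, ?_⟩
      show (QuotientGroup.mk (θ.codRestrict S' hθS' s) : S' ⧸ (F'.center).subgroupOf S') = _
      congr 1
      exact Subtype.ext hs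
    have hStop : IsPGroup p ↥(⊤ : Subgroup (S ⧸ (F.center).subgroupOf S)) :=
      (hS.to_quotient _).to_subgroup ⊤
    have hE'' := pushSys_fs C' e hinje
    have hsm_e := (sIso_of hStop hC'simple.1 hE'').sm
    -- both `E'` and the image of `C'` are factor systems of `F` through the same map
    have hcomp1 := fs_comp (θ₃ := (QuotientGroup.mk' ((F'.center).subgroupOf S')).comp
      (θ.codRestrict S' hθS')) hC' hsmC hE'' hsm_e (by
        intro x hx
        rw [aFun_apply' _ hx, aFun_apply' _ hx,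
          aFun_apply' e (Subgroup.mem_top _)]
        rfl)
    have hcomp2 := fs_comp (θ₃ := (QuotientGroup.mk' ((F'.center).subgroupOf S')).comp
      (θ.codRestrict S' hθS')) hFF' h1.sm hE' hsmE (by
        intro x hx
        rw [aFun_apply' _ hx, aFun_apply' θ hx, aFun_apply' _ (hθS' ⟨x, hx⟩)]
        rfl)
    obtain ⟨hSeq, hHomeq⟩ := fs_unique hcomp1 hcomp2
    have hiso : C'.IsFactorSystem ⊥ e E' := fs_congr hE'' hSeq hHomeq
    exact simple_transport hStop hiso hC'simple

end Cfsg.Agent.Lib.Helper89.IsoT
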