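import Mathlib
import Cfsg.Agent.Lib.Helper89.RepModel
import Cfsg.Agent.Lib.Helper89.PermCode
import Cfsg.Agent.Lib.Helper37.J3Main

set_option autoImplicit false

/-!
# Codes of the elements of `3·J3` (helper89)

A matrix of helper37's packed model `M9` of the 9×9 matrices over the field with four elements
is coded by the number with its `18` fields of `9` bits; this is a relational coding (`RCode`)
of `GL F9 F` for the relation "the element has the matrix with this code".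
-/

namespace Cfsg.Agent.Lib.Helper89.J3C

open Cfsg.Spor Cfsg.Agent.Lib.Helper37.J3

/-- the matrix with the given fields -/
def unp (c : ℕ) : M9 :=
  ⟨(pc9Dig c 0, pc9Dig c 1), (pc9Dig c 2, pc9Dig c 3), (pc9Dig c 4, pc9Dig c 5),
    (pc9Dig c 6, pc9Dig c 7), (pc9Dig c 8, pc9Dig c 9), (pc9Dig c 10, pc9Dig c 11),
    (pc9Dig c 12, pc9Dig c 13), (pc9Dig c 14, pc9Dig c 15), (pc9Dig c 16, pc9Dig c 17)⟩

/-- the low `9` bits -/
def m9 (x : ℕ) : ℕ := Nat.land x 511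

theorem m9_lt (x : ℕ) : m9 x < 512 :=
  lt_of_le_of_lt (Nat.and_le_right : x &&& 511 ≤ 511) (by norm_num)

/-- the fields of a matrix -/
def fldM (M : M9) : ℕ → ℕ
  | 0 => m9 M.r0.1
  | 1 => m9 M.r0.2
  | 2 => m9 M.r1.1
  | 3 => m9 M.r1.2
  | 4 => m9 M.r2.1
  | 5 => m9 M.r2.2
  | 6 => m9 M.r3.1
  | 7 => m9 M.r3.2
  | 8 => m9 M.r4.1
  | 9 => m9 M.r4.2
  | 10 => m9 M.r5.1
  | 11 => m9 M.r5.2
  | 12 => m9 M.r6.1
  | 13 => m9 M.r6.2
  | 14 => m9 M.r7.1
  | 15 => m9 M.r7.2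
  | 16 => m9 M.r8.1
  | 17 => m9 M.r8.2
  | _ => 0

/-- the code of a matrix -/
def packM (M : M9) : ℕ :=
  Nat.add (m9 M.r0.1) (Nat.mul 512 (Nat.add (m9 M.r0.2) (Nat.mul 512
  (Nat.add (m9 M.r1.1) (Nat.mul 512 (Nat.add (m9 M.r1.2) (Nat.mul 512
  (Nat.add (m9 M.r2.1) (Nat.mul 512 (Nat.add (m9 M.r2.2) (Nat.mul 512
  (Nat.add (m9 M.r3.1) (Nat.mul 512 (Nat.add (m9 M.r3.2) (Nat.mul 512
  (Nat.add (m9 M.r4.1) (Nat.mul 512 (Nat.add (m9 M.r4.2) (Nat.mul 512
  (Nat.add (m9 M.r5.1) (Nat.mul 512 (Nat.add (m9 M.r5.2) (Nat.mul 512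
  (Nat.add (m9 M.r6.1) (Nat.mul 512 (Nat.add (m9 M.r6.2) (Nat.mul 512
  (Nat.add (m9 M.r7.1) (Nat.mul 512 (Nat.add (m9 M.r7.2) (Nat.mul 512
  (Nat.add (m9 M.r8.1) (Nat.mul 512 (Nat.add (m9 M.r8.2) (Nat.mul 512 0)))))))))))))))))))))))))))))))))))

theorem packM_eq (M : M9) : packM M = pc9Enc (fldM M) 18 0 := rfl

theorem fldM_lt (M : M9) (i : ℕ) : fldM M i < 512 := by
  unfold fldM
  split <;> first | exact m9_lt _ | norm_num

theorem dig_packM (M : M9) (i : ℕ) (hi : i < 18) : pc9Dig (packM M) i = fldM M i := by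
  rw [packM_eq]
  have h := pc9Dig_pc9Enc (fldM M) 18 0 i hi (fun j _ => fldM_lt M _)
  rw [Nat.zero_add] at h
  exact h

/-- the matrix with the fields reduced to `9` bits -/
def normM (M : M9) : M9 :=
  ⟨(m9 M.r0.1, m9 M.r0.2), (m9 M.r1.1, m9 M.r1.2), (m9 M.r2.1, m9 M.r2.2),
    (m9 M.r3.1, m9 M.r3.2), (m9 M.r4.1, m9 M.r4.2), (m9 M.r5.1, m9 M.r5.2),
    (m9 M.r6.1, m9 M.r6.2), (m9 M.r7.1, m9 M.r7.2), (m9 M.r8.1, m9 M.r8.2)⟩

theorem unp_packM (M : M9) : unp (packM M) = normM M := by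
  unfold unp
  rw [dig_packM M 0 (by norm_num), dig_packM M 1 (by norm_num), dig_packM M 2 (by norm_num),
    dig_packM M 3 (by norm_num), dig_packM M 4 (by norm_num), dig_packM M 5 (by norm_num),
    dig_packM M 6 (by norm_num), dig_packM M 7 (by norm_num), dig_packM M 8 (by norm_num),
    dig_packM M 9 (by norm_num), dig_packM M 10 (by norm_num), dig_packM M 11 (by norm_num),
    dig_packM M 12 (by norm_num), dig_packM M 13 (by norm_num), dig_packM M 14 (by norm_num),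
    dig_packM M 15 (by norm_num), dig_packM M 16 (by norm_num), dig_packM M 17 (by norm_num)]
  rfl

theorem bit_m9 (a k : ℕ) (hk : k < 9) : bit (m9 a) k = bit a k := by
  rw [bit_eq, bit_eq]
  show ((a &&& 511).testBit k).toNat = _
  rw [Nat.testBit_and]
  have h511 : (511 : ℕ).testBit k = decide (k < 9) := by
    have := Nat.testBit_two_pow_sub_one 9 k
    simpa using this
  rw [h511]
  simp [hk]

theorem pos_lt (z : F9) : pos z < 9 :=
  pos_cases (fun k => k < 9) (by norm_num) (by norm_num) (by norm_num) (by norm_num)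
    (by norm_num) (by norm_num) (by norm_num) (by norm_num) (by norm_num) z

section sem

variable {F : Type*} [Field F] {ω : F}

theorem dM_normM (M : M9) : dM ω (normM M) = dM ω M := by
  funext w z
  show dV ω ((normM M).row (pos w)) z = dV ω (M.row (pos w)) z
  rw [dV_apply, dV_apply]
  have hrow : (normM M).row (pos w) = (m9 (M.row (pos w)).1, m9 (M.row (pos w)).2) :=
    pos_cases (fun i => (normM M).row i = (m9 (M.row i).1, m9 (M.row i).2))
      rfl rfl rfl rfl rfl rfl rfl rfl rfl w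
  rw [hrow]
  show ((bit (m9 (M.row (pos w)).1) (pos z) : ℕ) : F) +
    ((bit (m9 (M.row (pos w)).2) (pos z) : ℕ) : F) * ω = _
  rw [bit_m9 _ _ (pos_lt z), bit_m9 _ _ (pos_lt z)]

/-- the product of codes -/
def j3Mul (a b : ℕ) : ℕ := packM (mm (unp a) (unp b))

/-- the code of the identity -/
def j3Id : ℕ := packM ID

/-- the key of a code -/
def j3Key (c : ℕ) : ℕ := keyM (unp c)

/-- the relation: the element has the matrix with the given code -/
def JRep (ω : F) (g : GL F9 F) (c : ℕ) : Prop := Cfsg.Agent.Lib.Helper37.J3.Rep ω g (unp c)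

theorem jrep_of_rep {g : GL F9 F} {M : M9} (h : Cfsg.Agent.Lib.Helper37.J3.Rep ω g M) : JRep ω g (packM M) := by
  unfold JRep Cfsg.Agent.Lib.Helper37.J3.Rep
  rw [unp_packM, dM_normM]
  exact h

/-- the relational coding of `GL F9 F` -/
theorem j3_rcode (h2 : (2 : F) = 0) (hω : ω * ω = ω + 1) :
    RCode (JRep ω) j3Mul j3Id j3Key where
  uniq _ _ _ hg hh := Cfsg.Agent.Lib.Helper37.J3.Rep.unique hg hh
  mul _ _ _ _ hg hh := jrep_of_rep (Cfsg.Agent.Lib.Helper37.J3.Rep.mul h2 hω hg hh)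
  one := jrep_of_rep Cfsg.Agent.Lib.Helper37.J3.Rep.one
  key_eq _ _ _ hc hd := keyM_eq_of h2 hω one_ne_zero (hc.symm.trans hd)

/-- the codes of the two generators -/
def bc0 (i : ℕ) : ℕ :=
  Bool.rec (motive := fun _ => ℕ) (packM Bcode) (packM Acode) (Nat.beq i 0)

/-- the two generators -/
def b0 (h2 : (2 : F) = 0) (hω : ω * ω = ω + 1) : ℕ → GL F9 F
  | 0 => aG h2 hω
  | _ => bG h2 hω

theorem hb0 (h2 : (2 : F) = 0) (hω : ω * ω = ω + 1) :
    ∀ i < 2, b0 h2 hω i ∈ threeJ3 F ω ∧ JRep ω (b0 h2 hω i) (bc0 i) := by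
  intro i hi
  interval_cases i
  · exact ⟨aG_mem h2 hω, jrep_of_rep (aG_rep h2 hω)⟩
  · exact ⟨bG_mem h2 hω, jrep_of_rep (bG_rep h2 hω)⟩

end sem

end Cfsg.Agent.Lib.Helper89.J3C
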