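import Mathlib
import Cfsg.Prelude.Def_Sporadic_a
import Cfsg.Agent.Lib.Helper89.M22SylCert

set_option autoImplicit false

/-!
# A Sylow `2`-subgroup of `M22`: automorphisms of odd order are trivial (helper89)

The statement is for an arbitrary group with an index model having the multiplication table of
the Sylow `2`-subgroup of `M22`: an element of odd order of the ambient group normalizing it
centralizes it.
-/

namespace Cfsg.Agent.Lib.Helper89.M22Syl

open Cfsg Cfsg.Agent.Lib.Helper9 Cfsg.Agent.Lib.Helper95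

/-! ### Conjugation-invariant subsets -/

def X1 : List ℕ := [32, 40, 46, 49, 50, 59, 61, 63, 96, 104, 110, 113, 114, 123, 125, 127]

def X3 : List ℕ := [46, 49, 50, 61]

def X4 : List ℕ := [96]

def X5 : List ℕ := [96, 104, 123, 127]

def X6 : List ℕ := [0, 8, 27, 31, 32, 33, 40, 47, 48, 59, 62, 63, 64, 72, 91, 95, 96, 97, 98, 100, 102, 104, 107, 108, 110, 113, 114, 115, 117, 119, 121, 123, 124, 125, 126, 127]

def X7 : List ℕ := [3, 5, 7, 10, 13, 20, 22, 24, 67, 69, 71, 74, 77, 84, 86, 88]

def X8 : List ℕ := [4, 6, 11, 21, 41, 46, 49, 50, 51, 58, 60, 61, 66, 76, 87, 89, 105, 111, 112, 122]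

theorem eq_X1 : ixImg (fun a => mul a a) (List.range 128) = ixMask X1 :=
  Nat.eq_of_beq_eq_true (by decide +kernel)

theorem eq_X3 : ixFilt (fun a => ixNot (ixBit (ixMask [root]) (mul a a))) X1 = ixMask X3 :=
  Nat.eq_of_beq_eq_true (by decide +kernel)

theorem eq_X4 : ixImg (fun a => mul a a) X3 = ixMask X4 :=
  Nat.eq_of_beq_eq_true (by decide +kernel)

theorem eq_X5 : ixFilt (fun a => ixAllL (fun b => Nat.beq (mul a b) (mul b a)) X1) (List.range 128) = ixMask X5 :=
  Nat.eq_of_beq_eq_true (by decide +kernel)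

theorem eq_X6 : ixFilt (fun a => Nat.beq (mul a a) root) (List.range 128) = ixMask X6 :=
  Nat.eq_of_beq_eq_true (by decide +kernel)

theorem eq_X7 : ixFilt (fun a => ixNot (ixBit (ixMask X6) (mul a a))) (List.range 128) = ixMask X7 :=
  Nat.eq_of_beq_eq_true (by decide +kernel)

theorem eq_X8 : ixFilt (fun a => ixBit (ixMask X4) (mul a a)) (List.range 128) = ixMask X8 :=
  Nat.eq_of_beq_eq_true (by decide +kernel)

/-! ### A chain of subgroups, each of index `2` in the next -/

def C1 : List ℕ := [96, 127]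

def C2 : List ℕ := [96, 104, 123, 127]

def C3 : List ℕ := [46, 49, 50, 61, 96, 104, 123, 127]

def C4 : List ℕ := [32, 40, 46, 49, 50, 59, 61, 63, 96, 104, 110, 113, 114, 123, 125, 127]

def C5 : List ℕ := [3, 5, 7, 10, 13, 20, 22, 24, 32, 40, 46, 49, 50, 59, 61, 63, 67, 69, 71, 74, 77, 84, 86, 88, 96, 104, 110, 113, 114, 123, 125, 127]

def C6 : List ℕ := [2, 3, 4, 5, 6, 7, 10, 11, 12, 13, 20, 21, 22, 23, 24, 25, 32, 33, 40, 41, 46, 47, 48, 49, 50, 51, 58, 59, 60, 61, 62, 63, 66, 67, 68, 69, 70, 71, 74, 75, 76, 77, 84, 85, 86, 87, 88, 89, 96, 97, 104, 105, 110, 111, 112, 113, 114, 115, 122, 123, 124, 125, 126, 127]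

theorem v1 : ixAllL (fun a => Nat.blt a 128) C1 = true := by decide +kernel

theorem r0 : ixBit (ixMask X4) 96 = true := by decide +kernel

theorem w0 : ixCosetOK mul inv [root] 96 X4 = true := by decide +kernel

theorem cc0 : ixCosetOK mul inv [root] 96 C1 = true := by decide +kernel

theorem v2 : ixAllL (fun a => Nat.blt a 128) C2 = true := by decide +kernel

theorem r1 : ixBit (ixMask X5) 104 = true := by decide +kernel

theorem w1 : ixCosetOK mul inv C1 104 X5 = true := by decide +kernel

theorem cc1 : ixCosetOK mul inv C1 104 C2 = true := by decide +kernel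

theorem v3 : ixAllL (fun a => Nat.blt a 128) C3 = true := by decide +kernel

theorem r2 : ixBit (ixMask X3) 46 = true := by decide +kernel

theorem w2 : ixCosetOK mul inv C2 46 X3 = true := by decide +kernel

theorem cc2 : ixCosetOK mul inv C2 46 C3 = true := by decide +kernel

theorem v4 : ixAllL (fun a => Nat.blt a 128) C4 = true := by decide +kernel

theorem r3 : ixBit (ixMask X1) 32 = true := by decide +kernel

theorem w3 : ixCosetOK mul inv C3 32 X1 = true := by decide +kernel

theorem cc3 : ixCosetOK mul inv C3 32 C4 = true := by decide +kernel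

theorem v5 : ixAllL (fun a => Nat.blt a 128) C5 = true := by decide +kernel

theorem r4 : ixBit (ixMask X7) 3 = true := by decide +kernel

theorem w4 : ixCosetOK mul inv C4 3 X7 = true := by decide +kernel

theorem cc4 : ixCosetOK mul inv C4 3 C5 = true := by decide +kernel

theorem v6 : ixAllL (fun a => Nat.blt a 128) C6 = true := by decide +kernel

theorem r5 : ixBit (ixMask X8) 4 = true := by decide +kernel

theorem w5 : ixCosetOK mul inv C5 4 X8 = true := by decide +kernel

theorem cc5 : ixCosetOK mul inv C5 4 C6 = true := by decide +kernel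

theorem r6 : ixBit (ixMask X6) 0 = true := by decide +kernel

theorem w6 : ixCosetOK mul inv C6 0 X6 = true := by decide +kernel

theorem cc6 : ixCosetOK mul inv C6 0 (List.range 128) = true := by decide +kernel

/-- an element of odd order normalizing a group with this multiplication table centralizes it -/
theorem centralize_of_model {Ω : Type*} [Group Ω] {P : Subgroup Ω} {e : ℕ → Ω}
    (D : IxModel P 128 e mul inv root) (hP : IsPGroup 2 P) (g : Ω)
    (hg : ∀ x ∈ P, g * x * g⁻¹ ∈ P) (hco : (orderOf g).Coprime 2) :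
    ∀ x ∈ P, g * x * g⁻¹ = x := by
  have hm := pow_orderOf_eq_one g
  have h2 := D.two_pow hP
  have iX0 := D.inv_range hg
  have iX1 := D.inv_sq iX0 eq_X1
  have iX2 := D.inv_one g
  have iX3 := D.inv_sqnin iX1 iX2 eq_X3
  have iX4 := D.inv_sq iX3 eq_X4
  have iX5 := D.inv_cen iX0 iX1 eq_X5
  have iX6 := D.inv_ord2 iX0 eq_X6
  have iX7 := D.inv_sqnin iX0 iX6 eq_X7
  have iX8 := D.inv_sqin iX0 iX4 eq_X8
  have c0 := D.cen_one g
  have c1 := D.cen_step hm hco h2 (fun a ha => by rw [List.mem_singleton.mp ha]; exact D.one_lt) c0 iX4 (ix_valid_of_check v1) r0 w0 cc0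
  have c2 := D.cen_step hm hco h2 (ix_valid_of_check v1) c1 iX5 (ix_valid_of_check v2) r1 w1 cc1
  have c3 := D.cen_step hm hco h2 (ix_valid_of_check v2) c2 iX3 (ix_valid_of_check v3) r2 w2 cc2
  have c4 := D.cen_step hm hco h2 (ix_valid_of_check v3) c3 iX1 (ix_valid_of_check v4) r3 w3 cc3
  have c5 := D.cen_step hm hco h2 (ix_valid_of_check v4) c4 iX7 (ix_valid_of_check v5) r4 w4 cc4
  have c6 := D.cen_step hm hco h2 (ix_valid_of_check v5) c5 iX8 (ix_valid_of_check v6) r5 w5 cc5
  have c7 := D.cen_step hm hco h2 (ix_valid_of_check v6) c6 iX6 (fun a ha => List.mem_range.mp ha) r6 w6 cc6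
  exact D.centralize_of_range c7

end Cfsg.Agent.Lib.Helper89.M22Syl
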