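import Mathlib
import Cfsg.Prelude.Def_Sporadic_a
import Cfsg.Agent.Lib.Helper89.M24SylCert

set_option autoImplicit false

/-!
# A Sylow `2`-subgroup of `M24`: elements of odd order normalizing it centralize it (helper89)
-/

namespace Cfsg.Agent.Lib.Helper89.M24Syl

open Cfsg Cfsg.Agent.Lib.Helper9 Cfsg.Agent.Lib.Helper95

/-! ### Conjugation-invariant subsets -/

def X1 : List ℕ := [13, 19, 23, 32, 50, 54, 128, 132, 158, 169, 173, 187, 191, 384, 388, 414, 425, 429, 443, 447, 457, 461, 467, 480, 484, 502, 512, 538, 542, 557, 571, 575, 585, 589, 595, 608, 612, 630, 717, 723, 727, 736, 754, 758, 960, 964, 986, 990, 1001, 1005, 1019, 1023]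

def X3 : List ℕ := [23, 50, 457, 484, 585, 612, 727, 754]

def X4 : List ℕ := [538]

def X5 : List ℕ := [4, 8, 13, 19, 26, 31, 32, 37, 41, 54, 58, 63, 72, 78, 80, 82, 84, 86, 128, 130, 132, 134, 141, 147, 152, 154, 156, 158, 160, 169, 171, 173, 175, 182, 185, 187, 189, 191, 192, 195, 216, 233, 241, 242, 260, 284, 285, 300, 301, 309, 353, 354, 355, 356, 357, 359, 384, 386, 388, 390, 397, 403, 408, 410, 412, 414, 416, 425, 427, 429, 431, 438, 441, 443, 445, 447, 452, 461, 466, 467, 474, 475, 480, 489, 502, 503, 510, 511, 512, 514, 516, 518, 520, 525, 530, 531, 536, 538, 539, 540, 542, 543, 544, 549, 553, 555, 557, 559, 566, 567, 569, 570, 571, 573, 574, 575, 580, 589, 594, 595, 602, 603, 608, 617, 630, 631, 638, 639, 641, 642, 666, 683, 688, 691, 708, 712, 717, 723, 730, 735, 736, 741, 745, 758, 762, 767, 777, 779, 781, 783, 785, 791, 838, 862, 863, 878, 879, 887, 952, 954, 955, 956, 957, 958, 960, 962, 964, 966, 968, 973, 978, 979, 984, 986, 987, 988, 990, 991, 992, 997, 1001, 1003,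 1005, 1007, 1014, 1015, 1017, 1018, 1019, 1021, 1022, 1023]

def X6 : List ℕ := [69, 71, 89, 91, 104, 106, 116, 118, 202, 204, 211, 213, 224, 230, 249, 255, 266, 268, 275, 277, 288, 294, 313, 319, 325, 327, 345, 347, 360, 362, 372, 374, 650, 652, 659, 661, 672, 678, 697, 703, 773, 775, 793, 795, 808, 810, 820, 822, 842, 844, 851, 853, 864, 870, 889, 895, 901, 903, 921, 923, 936, 938, 948, 950]

def X7 : List ℕ := [132, 425, 538, 1023]

def X8 : List ℕ := [13, 19, 32, 54, 128, 132, 158, 169, 173, 187, 191, 384, 388, 414, 425, 429, 443, 447, 461, 467, 480, 502, 512, 538, 542, 557, 571, 575, 589, 595, 608, 630, 717, 723, 736, 758, 960, 964, 986, 990, 1001, 1005, 1019, 1023]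

def X9 : List ℕ := [132, 154, 169, 191, 388, 410, 425, 447, 516, 538, 553, 575, 964, 986, 1001, 1023]

def X10 : List ℕ := [13, 19, 32, 54, 128, 158, 173, 187, 384, 414, 429, 443, 461, 467, 480, 502, 512, 542, 557, 571, 589, 595, 608, 630, 717, 723, 736, 758, 960, 990, 1005, 1019]

def X11 : List ℕ := [169, 388, 575, 986]

def X12 : List ℕ := [13, 19, 32, 54, 128, 132, 154, 158, 169, 173, 187, 384, 388, 410, 414, 425, 429, 443, 461, 467, 480, 502, 512, 516, 538, 542, 553, 557, 571, 575, 589, 595, 608, 630, 717, 723, 736, 758, 960, 986, 990, 1005, 1019, 1023]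

def X13 : List ℕ := [2, 6, 24, 28, 43, 47, 57, 61, 69, 71, 89, 91, 104, 106, 116, 118, 139, 143, 145, 149, 162, 166, 176, 180, 202, 204, 211, 213, 224, 230, 249, 255, 266, 268, 275, 277, 288, 294, 313, 319, 325, 327, 345, 347, 360, 362, 372, 374, 395, 399, 401, 405, 418, 422, 432, 436, 450, 454, 472, 476, 491, 495, 505, 509, 523, 527, 529, 533, 546, 550, 560, 564, 578, 582, 600, 604, 619, 623, 633, 637, 650, 652, 659, 661, 672, 678, 697, 703, 706, 710, 728, 732, 747, 751, 761, 765, 773, 775, 793, 795, 808, 810, 820, 822, 842, 844, 851, 853, 864, 870, 889, 895, 901, 903, 921, 923, 936, 938, 948, 950, 971, 975, 977, 981, 994, 998, 1008, 1012]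

def X14 : List ℕ := [4, 8, 26, 31, 37, 41, 58, 63, 72, 78, 80, 82, 84, 86, 130, 134, 141, 147, 152, 154, 156, 160, 171, 175, 182, 185, 189, 192, 195, 216, 233, 241, 242, 260, 284, 285, 300, 301, 309, 353, 354, 355, 356, 357, 359, 386, 390, 397, 403, 408, 410, 412, 416, 427, 431, 438, 441, 445, 452, 466, 474, 475, 489, 503, 510, 511, 514, 516, 518, 520, 525, 530, 531, 536, 539, 540, 543, 544, 549, 553, 555, 559, 566, 567, 569, 570, 573, 574, 580, 594, 602, 603, 617, 631, 638, 639, 641, 642, 666, 683, 688, 691, 708, 712, 730, 735, 741, 745, 762, 767, 777, 779, 781, 783, 785, 791, 838, 862, 863, 878, 879, 887, 952, 954, 955, 956, 957, 958, 962, 966, 968, 973, 978, 979, 984, 987, 988, 991, 992, 997, 1003, 1007, 1014, 1015, 1017, 1018, 1021, 1022]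

def X15 : List ℕ := [4, 26, 41, 63, 72, 78, 130, 134, 141, 147, 152, 154, 156, 160, 171, 175, 182, 185, 189, 195, 242, 285, 300, 354, 356, 386, 390, 397, 403, 408, 410, 412, 416, 427, 431, 438, 441, 445, 452, 474, 489, 511, 514, 516, 518, 525, 531, 536, 540, 544, 553, 555, 559, 566, 569, 573, 580, 602, 617, 639, 641, 688, 708, 730, 745, 767, 785, 791, 863, 878, 955, 957, 962, 966, 973, 979, 984, 988, 992, 1003, 1007, 1014, 1017, 1021]

theorem eq_X1 : ixImg (fun a => mul a a) (List.range 1024) = ixMask X1 :=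
  Nat.eq_of_beq_eq_true (by decide +kernel)

theorem eq_X3 : ixFilt (fun a => ixNot (ixBit (ixMask [root]) (mul a a))) X1 = ixMask X3 :=
  Nat.eq_of_beq_eq_true (by decide +kernel)

theorem eq_X4 : ixImg (fun a => mul a a) X3 = ixMask X4 :=
  Nat.eq_of_beq_eq_true (by decide +kernel)

theorem eq_X5 : ixFilt (fun a => Nat.beq (mul a a) root) (List.range 1024) = ixMask X5 :=
  Nat.eq_of_beq_eq_true (by decide +kernel)

theorem eq_X6 : ixFilt (fun a => ixNot (ixBit (ixMask X5) (mul a a))) (List.range 1024) = ixMask X6 :=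
  Nat.eq_of_beq_eq_true (by decide +kernel)

theorem eq_X7 : ixFilt (fun a => ixAllL (fun b => Nat.beq (mul a b) (mul b a)) X6) (List.range 1024) = ixMask X7 :=
  Nat.eq_of_beq_eq_true (by decide +kernel)

theorem eq_X8 : ixFilt (fun a => ixBit (ixMask [root]) (mul a a)) X1 = ixMask X8 :=
  Nat.eq_of_beq_eq_true (by decide +kernel)

theorem eq_X9 : ixFilt (fun a => ixAllL (fun b => Nat.beq (mul a b) (mul b a)) X1) (List.range 1024) = ixMask X9 :=
  Nat.eq_of_beq_eq_true (by decide +kernel)

theorem eq_X10 : ixFilt (fun a => ixNot (ixBit (ixMask X9) a)) X8 = ixMask X10 :=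
  Nat.eq_of_beq_eq_true (by decide +kernel)

theorem eq_X11 : ixImg2 (ixComm mul inv) X6 X10 = ixMask X11 :=
  Nat.eq_of_beq_eq_true (by decide +kernel)

theorem eq_X12 : ixImg2 mul X8 X4 = ixMask X12 :=
  Nat.eq_of_beq_eq_true (by decide +kernel)

theorem eq_X13 : ixFilt (fun a => ixNot (ixBit (ixMask X12) (mul a a))) (List.range 1024) = ixMask X13 :=
  Nat.eq_of_beq_eq_true (by decide +kernel)

theorem eq_X14 : ixFilt (fun a => ixNot (ixBit (ixMask X1) a)) X5 = ixMask X14 :=
  Nat.eq_of_beq_eq_true (by decide +kernel)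

theorem eq_X15 : ixFilt (fun a => ixAllL (fun b => Nat.beq (mul a b) (mul b a)) X7) X14 = ixMask X15 :=
  Nat.eq_of_beq_eq_true (by decide +kernel)

/-! ### A chain of subgroups, each of index `2` in the next -/

def C1 : List ℕ := [538, 1023]

def C2 : List ℕ := [132, 425, 538, 1023]

def C3 : List ℕ := [132, 169, 388, 425, 538, 575, 986, 1023]

def C4 : List ℕ := [23, 50, 132, 169, 388, 425, 457, 484, 538, 575, 585, 612, 727, 754, 986, 1023]

def C5 : List ℕ := [9, 23, 36, 50, 132, 154, 169, 191, 388, 410, 425, 447, 457, 471, 484, 498, 516, 538, 553, 575, 585, 599, 612, 626, 713, 727, 740, 754, 964, 986, 1001, 1023]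

def C6 : List ℕ := [9, 13, 19, 23, 32, 36, 50, 54, 128, 132, 154, 158, 169, 173, 187, 191, 384, 388, 410, 414, 425, 429, 443, 447, 457, 461, 467, 471, 480, 484, 498, 502, 512, 516, 538, 542, 553, 557, 571, 575, 585, 589, 595, 599, 608, 612, 626, 630, 713, 717, 723, 727, 736, 740, 754, 758, 960, 964, 986, 990, 1001, 1005, 1019, 1023]

def C7 : List ℕ := [9, 13, 19, 23, 32, 36, 50, 54, 69, 71, 89, 91, 104, 106, 116, 118, 128, 132, 154, 158, 169, 173, 187, 191, 202, 204, 211, 213, 224, 230, 249, 255, 266, 268, 275, 277, 288, 294, 313, 319, 325, 327, 345, 347, 360, 362, 372, 374, 384, 388, 410, 414, 425, 429, 443, 447, 457, 461, 467, 471, 480, 484, 498, 502, 512, 516, 538, 542, 553, 557, 571, 575, 585, 589, 595, 599, 608, 612, 626, 630, 650, 652, 659, 661, 672, 678, 697, 703, 713, 717, 723, 727, 736, 740, 754, 758, 773, 775, 793, 795, 808, 810, 820, 822, 842, 844, 851, 853, 864, 870, 889, 895, 901, 903, 921, 923, 936, 938, 948, 950, 960, 964, 986, 990, 1001, 1005, 1019, 1023]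

def C8 : List ℕ := [2, 6, 9, 13, 19, 23, 24, 28, 32, 36, 43, 47, 50, 54, 57, 61, 69, 71, 72, 78, 81, 87, 89, 91, 98, 100, 104, 106, 116, 118, 123, 125, 128, 132, 139, 143, 145, 149, 154, 158, 162, 166, 169, 173, 176, 180, 187, 191, 193, 195, 202, 204, 211, 213, 221, 223, 224, 230, 236, 238, 240, 242, 249, 255, 257, 259, 266, 268, 275, 277, 285, 287, 288, 294, 300, 302, 304, 306, 313, 319, 325, 327, 328, 334, 337, 343, 345, 347, 354, 356, 360, 362, 372, 374, 379, 381, 384, 388, 395, 399, 401, 405, 410, 414, 418, 422, 425, 429, 432, 436, 443, 447, 450, 454, 457, 461, 467, 471, 472, 476, 480, 484, 491, 495, 498, 502, 505, 509, 512, 516, 523, 527, 529, 533, 538, 542, 546, 550, 553, 557, 560, 564, 571, 575, 578, 582, 585, 589, 595, 599, 600, 604, 608, 612, 619, 623, 626, 630, 633, 637, 641, 643, 650, 652, 659, 661, 669, 671, 672, 678, 684, 686, 688, 690, 697, 703, 706, 710, 713, 717, 723, 727, 728, 732, 736, 740, 747, 751, 754, 758, 761, 765, 773, 775, 776, 782, 785, 791, 793, 795, 802,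 804, 808, 810, 820, 822, 827, 829, 833, 835, 842, 844, 851, 853, 861, 863, 864, 870, 876, 878, 880, 882, 889, 895, 901, 903, 904, 910, 913, 919, 921, 923, 930, 932, 936, 938, 948, 950, 955, 957, 960, 964, 971, 975, 977, 981, 986, 990, 994, 998, 1001, 1005, 1008, 1012, 1019, 1023]

def C9 : List ℕ := [0, 2, 4, 6, 9, 11, 13, 15, 17, 19, 21, 23, 24, 26, 28, 30, 32, 34, 36, 38, 41, 43, 45, 47, 48, 50, 52, 54, 57, 59, 61, 63, 65, 67, 69, 71, 72, 74, 76, 78, 81, 83, 85, 87, 89, 91, 93, 95, 96, 98, 100, 102, 104, 106, 108, 110, 112, 114, 116, 118, 121, 123, 125, 127, 128, 130, 132, 134, 137, 139, 141, 143, 145, 147, 149, 151, 152, 154, 156, 158, 160, 162, 164, 166, 169, 171, 173, 175, 176, 178, 180, 182, 185, 187, 189, 191, 193, 195, 197, 199, 200, 202, 204, 206, 209, 211, 213, 215, 217, 219, 221, 223, 224, 226, 228, 230, 232, 234, 236, 238, 240, 242, 244, 246, 249, 251, 253, 255, 257, 259, 261, 263, 264, 266, 268, 270, 273, 275, 277, 279, 281, 283, 285, 287, 288, 290, 292, 294, 296, 298,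 300, 302, 304, 306, 308, 310, 313, 315, 317, 319, 321, 323, 325, 327, 328, 330, 332, 334, 337, 339, 341, 343, 345, 347, 349, 351, 352, 354, 356, 358, 360, 362, 364, 366, 368, 370, 372, 374, 377, 379, 381, 383, 384, 386, 388, 390, 393, 395, 397, 399, 401, 403, 405, 407, 408, 410, 412, 414, 416, 418, 420, 422, 425, 427, 429, 431, 432, 434, 436, 438, 441, 443, 445, 447, 448, 450, 452, 454, 457, 459, 461, 463, 465, 467, 469, 471, 472, 474, 476, 478, 480, 482, 484, 486, 489, 491, 493, 495, 496, 498, 500, 502, 505, 507, 509, 511, 512, 514, 516, 518, 521, 523, 525, 527, 529, 531, 533, 535, 536, 538, 540, 542, 544, 546, 548, 550, 553, 555, 557, 559, 560, 562, 564, 566, 569, 571, 573, 575, 576, 578, 580, 582, 585, 587, 589, 591, 593, 595, 597, 599, 600, 602, 604, 606, 608, 610, 612, 614, 617, 619, 621, 623, 624, 626, 628, 630, 633, 635, 637, 639, 641, 643, 645, 647, 648, 650, 652, 654, 657, 659, 661, 663, 665, 667, 669, 671, 672, 674, 676, 678, 680, 682, 684, 686, 688, 690, 692, 694, 697, 699,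 701, 703, 704, 706, 708, 710, 713, 715, 717, 719, 721, 723, 725, 727, 728, 730, 732, 734, 736, 738, 740, 742, 745, 747, 749, 751, 752, 754, 756, 758, 761, 763, 765, 767, 769, 771, 773, 775, 776, 778, 780, 782, 785, 787, 789, 791, 793, 795, 797, 799, 800, 802, 804, 806, 808, 810, 812, 814, 816, 818, 820, 822, 825, 827, 829, 831, 833, 835, 837, 839, 840, 842, 844, 846, 849, 851, 853, 855, 857, 859, 861, 863, 864, 866, 868, 870, 872, 874, 876, 878, 880, 882, 884, 886, 889, 891, 893, 895, 897, 899, 901, 903, 904, 906, 908, 910, 913, 915, 917, 919, 921, 923, 925, 927, 928, 930, 932, 934, 936, 938, 940, 942, 944, 946, 948, 950, 953, 955, 957, 959, 960, 962, 964, 966, 969, 971, 973, 975, 977, 979, 981, 983, 984, 986, 988, 990, 992, 994, 996, 998, 1001, 1003, 1005, 1007, 1008, 1010, 1012, 1014, 1017, 1019, 1021, 1023]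

theorem v1 : ixAllL (fun a => Nat.blt a 1024) C1 = true := by decide +kernel

theorem r0 : ixBit (ixMask X4) 538 = true := by decide +kernel

theorem w0 : ixCosetOK mul inv [root] 538 X4 = true := by decide +kernel

theorem cc0 : ixCosetOK mul inv [root] 538 C1 = true := by decide +kernel

theorem v2 : ixAllL (fun a => Nat.blt a 1024) C2 = true := by decide +kernel

theorem r1 : ixBit (ixMask X7) 132 = true := by decide +kernel

theorem w1 : ixCosetOK mul inv C1 132 X7 = true := by decide +kernel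

theorem cc1 : ixCosetOK mul inv C1 132 C2 = true := by decide +kernel

theorem v3 : ixAllL (fun a => Nat.blt a 1024) C3 = true := by decide +kernel

theorem r2 : ixBit (ixMask X11) 169 = true := by decide +kernel

theorem w2 : ixCosetOK mul inv C2 169 X11 = true := by decide +kernel

theorem cc2 : ixCosetOK mul inv C2 169 C3 = true := by decide +kernel

theorem v4 : ixAllL (fun a => Nat.blt a 1024) C4 = true := by decide +kernel

theorem r3 : ixBit (ixMask X3) 23 = true := by decide +kernel

theorem w3 : ixCosetOK mul inv C3 23 X3 = true := by decide +kernel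

theorem cc3 : ixCosetOK mul inv C3 23 C4 = true := by decide +kernel

theorem v5 : ixAllL (fun a => Nat.blt a 1024) C5 = true := by decide +kernel

theorem r4 : ixBit (ixMask X9) 154 = true := by decide +kernel

theorem w4 : ixCosetOK mul inv C4 154 X9 = true := by decide +kernel

theorem cc4 : ixCosetOK mul inv C4 154 C5 = true := by decide +kernel

theorem v6 : ixAllL (fun a => Nat.blt a 1024) C6 = true := by decide +kernel

theorem r5 : ixBit (ixMask X10) 13 = true := by decide +kernel

theorem w5 : ixCosetOK mul inv C5 13 X10 = true := by decide +kernel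

theorem cc5 : ixCosetOK mul inv C5 13 C6 = true := by decide +kernel

theorem v7 : ixAllL (fun a => Nat.blt a 1024) C7 = true := by decide +kernel

theorem r6 : ixBit (ixMask X6) 69 = true := by decide +kernel

theorem w6 : ixCosetOK mul inv C6 69 X6 = true := by decide +kernel

theorem cc6 : ixCosetOK mul inv C6 69 C7 = true := by decide +kernel

theorem v8 : ixAllL (fun a => Nat.blt a 1024) C8 = true := by decide +kernel

theorem r7 : ixBit (ixMask X13) 2 = true := by decide +kernel

theorem w7 : ixCosetOK mul inv C7 2 X13 = true := by decide +kernel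

theorem cc7 : ixCosetOK mul inv C7 2 C8 = true := by decide +kernel

theorem v9 : ixAllL (fun a => Nat.blt a 1024) C9 = true := by decide +kernel

theorem r8 : ixBit (ixMask X15) 4 = true := by decide +kernel

theorem w8 : ixCosetOK mul inv C8 4 X15 = true := by decide +kernel

theorem cc8 : ixCosetOK mul inv C8 4 C9 = true := by decide +kernel

theorem r9 : ixBit (ixMask X14) 8 = true := by decide +kernel

theorem w9 : ixCosetOK mul inv C9 8 X14 = true := by decide +kernel

theorem cc9 : ixCosetOK mul inv C9 8 (List.range 1024) = true := by decide +kernel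

/-- an element of odd order normalizing the group centralizes it -/
theorem centralize (g : Equiv.Perm GolayPt)
    (hg : ∀ x ∈ tgGrp gens, g * x * g⁻¹ ∈ tgGrp gens) (hco : (orderOf g).Coprime 2) :
    ∀ x ∈ tgGrp gens, g * x * g⁻¹ = x := by
  have D := model
  have hm := pow_orderOf_eq_one g
  have h2 := D.two_pow isP
  have iX0 := D.inv_range hg
  have iX1 := D.inv_sq iX0 eq_X1
  have iX2 := D.inv_one g
  have iX3 := D.inv_sqnin iX1 iX2 eq_X3
  have iX4 := D.inv_sq iX3 eq_X4
  have iX5 := D.inv_ord2 iX0 eq_X5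
  have iX6 := D.inv_sqnin iX0 iX5 eq_X6
  have iX7 := D.inv_cen iX0 iX6 eq_X7
  have iX8 := D.inv_sqin iX1 iX2 eq_X8
  have iX9 := D.inv_cen iX0 iX1 eq_X9
  have iX10 := D.inv_dif iX8 iX9 eq_X10
  have iX11 := D.inv_cms iX6 iX10 eq_X11
  have iX12 := D.inv_prd iX8 iX4 eq_X12
  have iX13 := D.inv_sqnin iX0 iX12 eq_X13
  have iX14 := D.inv_dif iX5 iX1 eq_X14
  have iX15 := D.inv_cen iX14 iX7 eq_X15
  have c0 := D.cen_one g
  have c1 := D.cen_step hm hco h2 (fun a ha => by rw [List.mem_singleton.mp ha]; exact D.one_lt) c0 iX4 (ix_valid_of_check v1) r0 w0 cc0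
  have c2 := D.cen_step hm hco h2 (ix_valid_of_check v1) c1 iX7 (ix_valid_of_check v2) r1 w1 cc1
  have c3 := D.cen_step hm hco h2 (ix_valid_of_check v2) c2 iX11 (ix_valid_of_check v3) r2 w2 cc2
  have c4 := D.cen_step hm hco h2 (ix_valid_of_check v3) c3 iX3 (ix_valid_of_check v4) r3 w3 cc3
  have c5 := D.cen_step hm hco h2 (ix_valid_of_check v4) c4 iX9 (ix_valid_of_check v5) r4 w4 cc4
  have c6 := D.cen_step hm hco h2 (ix_valid_of_check v5) c5 iX10 (ix_valid_of_check v6) r5 w5 cc5
  have c7 := D.cen_step hm hco h2 (ix_valid_of_check v6) c6 iX6 (ix_valid_of_check v7) r6 w6 cc6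
  have c8 := D.cen_step hm hco h2 (ix_valid_of_check v7) c7 iX13 (ix_valid_of_check v8) r7 w7 cc7
  have c9 := D.cen_step hm hco h2 (ix_valid_of_check v8) c8 iX15 (ix_valid_of_check v9) r8 w8 cc8
  have c10 := D.cen_step hm hco h2 (ix_valid_of_check v9) c9 iX14 (fun a ha => List.mem_range.mp ha) r9 w9 cc9
  exact D.centralize_of_range c10

end Cfsg.Agent.Lib.Helper89.M24Syl
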