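import Mathlib
import Cfsg.Prelude.Def_Sporadic_a
import Cfsg.Agent.Lib.Helper89.M24SylCert

set_option autoImplicit false

/-!
# A Sylow `2`-subgroup of `M24` has no proper nontrivial strongly closed subgroup (helper89)
-/

namespace Cfsg.Agent.Lib.Helper89.M24Syl

open Cfsg Cfsg.Agent.Lib.Helper9 Cfsg.Agent.Lib.Helper95

/-- the fusing elements of `M24` -/
def fg : List (List ℕ) :=
  [[18, 4, 12, 1, 9, 19, 5, 11, 20, 6, 3, 10, 21, 14, 22, 16, 0, 23, 13, 15, 17, 2, 8, 7],
   [22, 17, 8, 18, 19, 1, 14, 20, 12, 15, 23, 9, 11, 16, 4, 2, 10, 3, 21, 7, 6, 5, 13, 0],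
   [1, 3, 20, 12, 13, 8, 18, 22, 21, 17, 4, 23, 6, 11, 0, 16, 7, 5, 14, 19, 2, 15, 10, 9],
   [5, 7, 15, 20, 11, 1, 2, 8, 18, 14, 19, 23, 3, 21, 12, 9, 0, 10, 17, 13, 4, 16, 6, 22],
   [5, 9, 13, 19, 7, 14, 4, 6, 1, 3, 2, 21, 11, 18, 12, 10, 15, 17, 23, 8, 16, 22, 20, 0]]

/-- the certificate -/
def fsteps : List IxStep :=
  [.fus 538 559 0,
   .fus 559 175 1,
   .fus 175 1001 2,
   .mul 538 1001,
   .mul 516 175,
   .mul 412 559,
   .mul 132 538,
   .mul 425 175,
   .fus 569 1017 1,
   .mul 538 175,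
   .mul 386 559,
   .mul 154 538,
   .mul 447 1017,
   .mul 441 1001,
   .mul 431 175,
   .mul 575 559,
   .mul 1007 538,
   .fus 514 779 1,
   .mul 1017 779,
   .mul 777 1001,
   .mul 826 1017,
   .mul 824 175,
   .mul 905 1001,
   .mul 954 559,
   .mul 331 1017,
   .mul 329 1001,
   .mul 378 538,
   .mul 933 1017,
   .mul 935 175,
   .mul 790 1001,
   .mul 805 559,
   .fus 84 555 2,
   .mul 1017 555,
   .mul 557 559,
   .mul 557 779,
   .mul 914 1017,
   .mul 912 1001,
   .mul 931 779,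
   .mul 427 1017,
   .mul 429 1001,
   .mul 443 538,
   .fus 158 992 3,
   .mul 1021 992,
   .mul 1008 555,
   .mul 525 779,
   .mul 852 992,
   .mul 838 555,
   .mul 284 992,
   .mul 271 555,
   .mul 888 992,
   .mul 875 555,
   .mul 305 779,
   .mul 614 992,
   .mul 582 555,
   .mul 474 779,
   .mul 70 1017,
   .mul 474 175,
   .mul 70 555,
   .mul 796 779,
   .mul 61 992,
   .mul 48 779,
   .mul 220 555,
   .mul 646 992,
   .mul 660 555,
   .mul 227 992,
   .mul 241 555,
   .mul 683 992,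
   .mul 696 779,
   .mul 147 555,
   .mul 422 1017,
   .mul 420 779,
   .mul 289 992,
   .mul 297 555,
   .mul 883 779,
   .mul 591 555,
   .mul 498 779,
   .mul 196 992,
   .mul 205 1001,
   .mul 254 555,
   .mul 649 779,
   .mul 977 555,
   .mul 548 1017,
   .mul 550 779,
   .mul 272 559,
   .mul 865 555,
   .mul 278 779,
   .mul 546 175,
   .mul 403 555,
   .mul 166 538,
   .mul 395 175,
   .mul 562 779,
   .mul 210 555,
   .mul 677 559,
   .mul 212 992,
   .mul 198 1017,
   .mul 192 555,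
   .mul 666 779,
   .mul 23 992,
   .mul 977 1017,
   .fus 979 549 4,
   .mul 1021 549,
   .mul 565 992,
   .mul 568 555,
   .mul 965 992,
   .mul 978 555,
   .mul 526 992,
   .mul 558 555,
   .mul 987 779,
   .mul 787 992,
   .mul 773 555,
   .mul 110 779,
   .mul 56 992,
   .mul 53 555,
   .mul 737 992,
   .mul 731 555,
   .mul 46 992,
   .mul 14 555,
   .mul 722 779,
   .mul 219 992,
   .mul 224 779,
   .mul 146 992,
   .mul 133 555,
   .mul 440 992,
   .mul 437 555,
   .mul 161 992,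
   .mul 155 555,
   .mul 430 779,
   .mul 381 992,
   .mul 368 555,
   .mul 923 1017,
   .mul 927 992,
   .mul 904 555,
   .mul 358 992,
   .mul 362 555,
   .mul 897 992,
   .mul 955 555,
   .mul 341 779,
   .mul 1004 555,
   .mul 537 779,
   .mul 776 992,
   .mul 799 555,
   .mul 116 992,
   .mul 85 555,
   .mul 827 779,
   .mul 409 1017,
   .mul 411 992,
   .mul 417 555,
   .mul 181 992,
   .mul 184 555,
   .mul 389 992,
   .mul 402 555,
   .mul 142 779,
   .mul 290 992,
   .mul 259 555,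
   .mul 872 779,
   .mul 33 992,
   .mul 27 555,
   .mul 750 992,
   .mul 718 555,
   .mul 14 1017,
   .mul 0 555,
   .mul 732 992,
   .mul 756 559,
   .mul 756 555,
   .mul 441 559]

/-- the indices of the generators -/
def Qc : List ℕ := [64, 2, 0, 18, 8, 13, 9, 169, 132, 538]

theorem fg_in : fg.all inM24 = true := by decide +kernel

theorem q_ok : ixAllL (fun a => Nat.blt a 1024) Qc = true := by decide +kernel

theorem z_ok : ixAllN (fun a => ixOr (ixNot (ixAllL (fun b => Nat.beq (mul a b) (mul b a)) Qc))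
    (ixOr (Nat.beq a root) (Nat.beq a 538))) 1024 = true := by decide +kernel

theorem run_ok : ixAllL (fun q => ixBit (ixRun (regFus code fg 1024) mul fsteps (ixOne 538)) q)
    ((List.range gens.length).map (fun i => rmb i root)) = true := by decide +kernel

/-- the group has no proper nontrivial subgroup which is strongly closed in it with respect
to `M24` -/
theorem noStronglyClosed : ∀ T : Subgroup (Equiv.Perm GolayPt), T ≤ tgGrp gens → T ≠ ⊥ →
    (∀ t ∈ T, ∀ γ ∈ M24, γ * t * γ⁻¹ ∈ tgGrp gens → γ * t * γ⁻¹ ∈ T) → tgGrp gens ≤ T :=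
  model.noStronglyClosed isP M24 leM24 (regFus code fg 1024)
    (cert.fus_sound M24 fg (fun g hg => inM24_sound g (List.all_eq_true.mp fg_in g hg)))
    Qc (ix_valid_of_check q_ok) 538 (by norm_num) z_ok _ (fun T h => cert.le_of_gens T h)
    fsteps run_ok

end Cfsg.Agent.Lib.Helper89.M24Syl
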