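import Mathlib
import Cfsg.Prelude.Def_Sporadic_a
import Cfsg.Agent.Lib.Helper89.M24SylFus
import Cfsg.Agent.Lib.Helper89.IdxQuot
import Cfsg.Agent.Lib.Helper89.IdxAbel

set_option autoImplicit false

/-!
# A Sylow `2`-subgroup of `M24` modulo its centre (helper89)

The quotient has order `512`.  The centres of its maximal subgroups have order at most `8`,
it has an elementary abelian subgroup of order `64`, and only one abelian subgroup of order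
`64`.
-/

namespace Cfsg.Agent.Lib.Helper89.M24Syl

open Cfsg Cfsg.Agent.Lib.Helper9 Cfsg.Agent.Lib.Helper95

/-- the representatives of the cosets of the centre, packed -/
def QREP : ℕ := 0x8fe3e8f63c8ee3a8e6388de368d6348ce328c6308be2e8b62c8ae2a8a62889e268962488e228862087e1e8761c86e1a8661885e168561484e128461083e0e8360c82e0a8260881e068160480e02806007fdfe7f5fc7edfa7e5f87ddf67d5f47cdf27c5f07bdee7b5ec7adea7a5e879de6795e478de2785e077dde775dc76dda765d875dd6755d474dd2745d073dce735cc72dca725c871dc6715c470dc2705c05fd7e5f57c5ed7a5e5785dd765d5745cd725c5705bd6e5b56c5ad6a5a56859d665956458d625856057d5e5755c56d5a5655855d565555454d525455053d4e5354c52d4a5254851d465154450d42505404fd3e4f53c4ed3a4e5384dd364d5344cd324c5304bd2e4b52c4ad2a4a52849d264952448d224852047d1e4751c46d1a4651845d164551444d124451043d0e4350c42d0a4250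841d064150440d02405003fcfe3f4fc3ecfa3e4f83dcf63d4f43ccf23c4f03bcee3b4ec3acea3a4e839ce6394e438ce2384e037cde374dc36cda364d835cd6354d434cd2344d033cce334cc32cca324c831cc6314c430cc2304c02fcbe2f4bc2ecba2e4b82dcb62d4b42ccb22c4b02bcae2b4ac2acaa2a4a829ca6294a428ca2284a027c9e2749c26c9a2649825c962549424c922449023c8e2348c22c8a2248821c862148420c82204801fc7e1f47c1ec7a1e4781dc761d4741cc721c4701bc6e1b46c1ac6a1a46819c661946418c621846017c5e1745c16c5a1645815c561545414c521445013c4e1344c12c4a1244811c461144410c42104400fc3e0f43c0ec3a0e4380dc360d4340cc320c4300bc2e0b42c0ac2a0a42809c260942408c220842007c1e0741c06c1a0641805c160541404c120441003c0e0340c02c0a0240801c060140400c0200400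

/-- the numbers of the cosets of the centre, packed -/
def QCIDX : ℕ := 0xed76fb1d9ef77fb9dde974fa1d1eb75fa9d5e170f81c1e371f89c5e572f91c9e773f99cdfd7eff1f9ff7fff9fdf97cfe1f1fb7dfe9f5f178fc1e1f379fc9e5f57afd1e9f77bfd9edb0586c563b2596cd67a25168d47a05068543ae576bd5fac566b55bbc5e6f57bbe5f6fd7fb65b6dd6fb45a6d56ba4526954ba65369d4fa8546a553aa556ad57ba5d6ed77b85c6e573904864523924964d27824160d078040605038e4763d1f8c466351b9c4e6753b9e4f67d3f964b65d2f944a6552b84426150b864361d0f8844625138a4562d179a4d66d37984c6653330184c46332194cc67221148c472010484432e174bc5f2c164b45b3c1e4f47b3e1f4fc7f361b4dc6f341a4d46b24124944b261349c4f28144a4532a154ac573a1d4ec77381c4e4730d06c30190f07c381d0904c20110b05c28150100c00010301c08050502c10090703c180d1d0ec70391f0fc783d190cc60311b0dc68351108c40211309c4825150ac5029170bc582d70385c4e372395c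ce7623158cc76030584c36e375bcdf6c365b4db7c3e5f4fb7e3f5fcff763b5dcef743a5d4eb6432594cb663359ccf68345a4d36a355acd77a3d5ecf7783c5e4f3cd66f3199cf67f399dc964f2191cb65f2995c160f0181c361f0985c562f1189c763f198ddd6ef71b9df6ff79bdd96cf61b1db6df69b5d168f41a1d369f49a5d56af51a9d76bf59adffffbfbfcfdfebf3f8fbfdbebf4f9fcbe3f0f7fbbdbecf5fabd3e8f3f9bcbe4f1f8bc3e0eff7bbbdcedf6bb3d8ebf5babd4e9f4ba3d0e7f3b9bcce5f2b93c8e3f1b8bc4e1f0b83c0dfefb7bbcddeeb73b8dbedb6bb4d9ecb63b0d7ebb5bacd5eab53a8d3e9b4ba4d1e8b43a0cfe7b3b9ccde6b3398cbe5b2b94c9e4b2390c7e3b1b8cc5e2b1388c3e1b0b84c1e0b03804d26d30994f27d389d4924d20914b25d28954120d00814321d08854522d10894723d188d5d2ed70b95f2fd78bd592cd60b15b2dd68b55128d40a15329d48a5552ad50a9572bd58adbfdfafb7cbddeaf378bbddaeb74b9dcae370b7dbadb6cb5daad368b3d9acb64b1d8ac360afd7abb5cadd6ab358abd5aab54a9d4aa3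50a7d3a9b4ca5d2a9348a3d1a8b44a1d0a83409fcfa7b3c9dcea73389bcda6b3499cca633097cba5b2c95caa532893c9a4b2491c8a43208fc7a3b1c8dc6a33188bc5a2b1489c4a231087c3a1b0c85c2a130883c1a0b0481c0a03007fbf9fafc7dbe9f2f87bbd9eaf479bc9e2f077bb9daec75ba9d2e873b99cae471b89c2e06fb79badc6db69b2d86bb59aad469b49a2d067b399acc65b2992c863b198ac461b0982c05faf97abc5dae972b85bad96ab459ac962b057ab95aac55aa952a853a994aa451a8942a04fa793a9c4da6932984ba592a9449a49229047a391a8c45a29128843a190a8441a0902803f9f8fa7c3d9e8f2783b9d8ea74399c8e270379b8da6c359a8d26833998ca6431988c2602f978ba5c2d968b2582b958aa5429948a250279389a4c259289248239188a442190882401f8f87a3c1d8e872381b8d86a34198c86230178b85a2c158a85228138984a241188842200f8783a1c0d86832180b8582a14098482210078381a0c058281208038180a04018080200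

/-- the representative of a coset -/
def qrep (k : ℕ) : ℕ := Nat.land (Nat.shiftRight QREP (Nat.mul 10 k)) 1023

/-- the number of the coset of an index -/
def qcidx (a : ℕ) : ℕ := Nat.land (Nat.shiftRight QCIDX (Nat.mul 9 a)) 511

/-- the product of cosets -/
def mulQ (k l : ℕ) : ℕ := qcidx (mul (qrep k) (qrep l))

/-- the inverse of a coset -/
def invQ (k : ℕ) : ℕ := qcidx (inv (qrep k))

/-- the trivial coset -/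
def oneQ : ℕ := qcidx root

theorem qz_lt : Nat.blt 538 1024 = true := by decide +kernel

theorem qZ1 : ixAllN (fun b => Nat.beq (mul 538 b) (mul b 538)) 1024 = true := by decide +kernel

theorem qR1 : ixAllN (fun k => ixAnd (Nat.blt (qrep k) 1024) (Nat.beq (qcidx (qrep k)) k)) 512
    = true := by decide +kernel

theorem qR2 : ixAllN (fun a => ixAnd (Nat.blt (qcidx a) 512)
    (ixAnd (ixOr (Nat.beq (qrep (qcidx a)) a) (Nat.beq (qrep (qcidx a)) (mul a 538)))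
      (Nat.beq (qcidx (mul a 538)) (qcidx a)))) 1024 = true := by decide +kernel

/-- the model of the quotient by the centre, for every group with the model of the Sylow
subgroup -/
theorem quotModel {G : Type*} [Group G] {e : ℕ → G}
    (D : IxModel (⊤ : Subgroup G) 1024 e mul inv root) :
    IxModel (⊤ : Subgroup (G ⧸ Subgroup.center G)) 512
      (fun k => (QuotientGroup.mk (e (qrep k)) : G ⧸ Subgroup.center G)) mulQ invQ oneQ :=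
  D.quotCenter qz_lt q_ok qZ1 z_ok qR1 qR2

/-- the cosets with a centralizer of index at most `2` -/
def QE : List ℕ := [13, 32, 128, 132, 169, 173, 403, 438, 474, 478, 507, 511]

/-- pairs `u`, `v`, packed -/
def qprs : List ℕ := [199901, 109664]

theorem qE_ok : ixAllN (fun k => ixOr (ixBit (ixMask QE) k)
    (ixNot (ixAllL (fun p => ixNot (ixTri mulQ 512 k (Nat.shiftRight p 9) (Nat.land p 511)))
      qprs))) 512 = true := by decide +kernel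

/-- the abelian subgroup of order `64` -/
def QA : List ℕ := [8, 9, 12, 13, 32, 33, 36, 37, 72, 73, 78, 79, 80, 81, 86, 87, 128, 129, 132, 133, 168, 169, 172, 173, 192, 193, 194, 195, 240, 241, 242, 243, 284, 285, 286, 287, 300, 301, 302, 303, 354, 355, 356, 357, 378, 379, 380, 381, 402, 403, 406, 407, 434, 435, 438, 439, 474, 475, 478, 479, 506, 507, 510, 511]

theorem qA1 : ixAllL (fun a => Nat.blt a 512) QA = true := by decide +kernel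

theorem qA2 : ixBit (ixMask QA) oneQ = true := by decide +kernel

theorem qA3 : ixAllL (fun a => ixAnd (Nat.beq (mulQ a a) oneQ)
    (ixAllL (fun b => ixAnd (ixBit (ixMask QA) (mulQ a b)) (Nat.beq (mulQ a b) (mulQ b a))) QA))
    QA = true := by decide +kernel

theorem qA_nodup : QA.Nodup := by decide +kernel

theorem qA_len : QA.length = 64 := by decide +kernel

/-- the certificates for the cosets outside the abelian subgroup -/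
def qcerts : List AbCert := [
  .nonab 0 [0, 2, 4, 6, 64, 66, 68, 70] 1 18,
  .nonab 1 [0, 2, 4, 6, 64, 66, 68, 70] 0 22,
  .small 2 [0, 1, 2, 3, 4, 5, 6, 7, 8],
  .small 3 [0, 1, 2, 3, 4, 5, 6, 7, 8],
  .nonab 4 [0, 2, 4, 6, 64, 66, 68, 70] 5 18,
  .nonab 5 [0, 2, 4, 6, 64, 66, 68, 70] 4 22,
  .small 6 [0, 1, 2, 3, 4, 5, 6, 7, 8],
  .small 7 [0, 1, 2, 3, 4, 5, 6, 7, 8],
  .small 10 [0, 1, 2, 3, 8, 9, 10, 11, 16],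
  .nonab 11 [0, 1, 2, 3, 8, 9, 10, 11] 17 73,
  .small 14 [0, 1, 2, 3, 8, 9, 10, 11, 16],
  .nonab 15 [0, 1, 2, 3, 8, 9, 10, 11] 17 73,
  .small 16 [0, 1, 2, 3, 8, 9, 10, 11, 16],
  .nonab 17 [0, 1, 2, 3, 8, 9, 10, 11] 11 75,
  .nonab 18 [0, 1, 2, 3, 64, 65, 68, 69] 0 4,
  .split 19 [0, 1, 2, 3] 0 9 [0, 1, 2, 3, 4, 5, 6, 7, 64] [0, 1, 2, 3, 8, 9, 10, 11, 64] [0, 1, 2, 3, 4, 5, 6, 7, 64],
  .small 20 [0, 1, 2, 3, 8, 9, 10, 11, 16],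
  .nonab 21 [0, 1, 2, 3, 8, 9, 10, 11] 11 75,
  .nonab 22 [0, 1, 2, 3, 64, 65, 68, 69] 1 5,
  .split 23 [0, 1, 2, 3] 1 9 [0, 1, 2, 3, 4, 5, 6, 7, 64] [0, 1, 2, 3, 8, 9, 10, 11, 64] [0, 1, 2, 3, 4, 5, 6, 7, 64],
  .small 24 [0, 1, 2, 3, 4, 5, 6, 7, 8],
  .small 25 [0, 1, 2, 3, 4, 5, 6, 7, 8],
  .nonab 26 [0, 1, 2, 3, 64, 65, 68, 69] 1 4,
  .nonab 27 [0, 1, 2, 3, 64, 65, 68, 69] 1 4,
  .small 28 [0, 1, 2, 3, 4, 5, 6, 7, 8],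
  .small 29 [0, 1, 2, 3, 4, 5, 6, 7, 8],
  .nonab 30 [0, 1, 2, 3, 64, 65, 68, 69] 0 5,
  .nonab 31 [0, 1, 2, 3, 64, 65, 68, 69] 0 5,
  .nonab 34 [0, 1, 2, 3, 8, 9, 10, 11] 17 73,
  .small 35 [0, 1, 2, 3, 8, 9, 10, 11, 16],
  .nonab 38 [0, 1, 2, 3, 8, 9, 10, 11] 17 73,
  .small 39 [0, 1, 2, 3, 8, 9, 10, 11, 16],
  .nonab 40 [0, 2, 4, 6, 64, 66, 68, 70] 4 22,
  .nonab 41 [0, 2, 4, 6, 64, 66, 68, 70] 5 18,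
  .small 42 [0, 1, 2, 3, 4, 5, 6, 7, 8],
  .small 43 [0, 1, 2, 3, 4, 5, 6, 7, 8],
  .nonab 44 [0, 2, 4, 6, 64, 66, 68, 70] 0 22,
  .nonab 45 [0, 2, 4, 6, 64, 66, 68, 70] 1 18,
  .small 46 [0, 1, 2, 3, 4, 5, 6, 7, 8],
  .small 47 [0, 1, 2, 3, 4, 5, 6, 7, 8],
  .nonab 48 [0, 1, 2, 3, 8, 9, 10, 11] 11 75,
  .small 49 [0, 1, 2, 3, 8, 9, 10, 11, 16],
  .split 50 [0, 1, 2, 3] 1 9 [0, 1, 2, 3, 4, 5, 6, 7, 64] [0, 1, 2, 3, 8, 9, 10, 11, 64] [0, 1, 2, 3, 4, 5, 6, 7, 64],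
  .nonab 51 [0, 1, 2, 3, 64, 65, 68, 69] 1 5,
  .nonab 52 [0, 1, 2, 3, 8, 9, 10, 11] 11 75,
  .small 53 [0, 1, 2, 3, 8, 9, 10, 11, 16],
  .split 54 [0, 1, 2, 3] 0 9 [0, 1, 2, 3, 4, 5, 6, 7, 64] [0, 1, 2, 3, 8, 9, 10, 11, 64] [0, 1, 2, 3, 4, 5, 6, 7, 64],
  .nonab 55 [0, 1, 2, 3, 64, 65, 68, 69] 0 4,
  .small 56 [0, 1, 2, 3, 4, 5, 6, 7, 8],
  .small 57 [0, 1, 2, 3, 4, 5, 6, 7, 8],
  .nonab 58 [0, 1, 2, 3, 64, 65, 68, 69] 0 5,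
  .nonab 59 [0, 1, 2, 3, 64, 65, 68, 69] 0 5,
  .small 60 [0, 1, 2, 3, 4, 5, 6, 7, 8],
  .small 61 [0, 1, 2, 3, 4, 5, 6, 7, 8],
  .nonab 62 [0, 1, 2, 3, 64, 65, 68, 69] 1 4,
  .nonab 63 [0, 1, 2, 3, 64, 65, 68, 69] 1 4,
  .small 64 [0, 2, 4, 6, 8, 10, 12, 14, 16],
  .small 65 [0, 2, 4, 6, 8, 10, 12, 14, 16],
  .small 66 [0, 2, 4, 6, 8, 10, 12, 14, 16],
  .small 67 [0, 2, 4, 6, 8, 10, 12, 14, 16],
  .small 68 [0, 1, 2, 3, 4, 5, 6, 7, 8],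
  .small 69 [0, 1, 2, 3, 4, 5, 6, 7, 8],
  .small 70 [0, 1, 2, 3, 4, 5, 6, 7, 8],
  .small 71 [0, 1, 2, 3, 4, 5, 6, 7, 8],
  .small 74 [0, 1, 8, 9, 16, 17, 24, 25, 72],
  .nonab 75 [0, 1, 8, 9, 16, 17, 24, 25] 17 19,
  .small 76 [0, 1, 8, 9, 16, 17, 24, 25, 72],
  .nonab 77 [0, 1, 8, 9, 16, 17, 24, 25] 17 19,
  .nonab 82 [0, 1, 8, 9, 16, 17, 24, 25] 17 19,
  .small 83 [0, 1, 8, 9, 16, 17, 24, 25, 72],
  .nonab 84 [0, 1, 8, 9, 16, 17, 24, 25] 17 19,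
  .small 85 [0, 1, 8, 9, 16, 17, 24, 25, 72],
  .small 88 [0, 1, 2, 3, 4, 5, 6, 7, 8],
  .small 89 [0, 1, 2, 3, 4, 5, 6, 7, 8],
  .small 90 [0, 1, 2, 3, 4, 5, 6, 7, 8],
  .small 91 [0, 1, 2, 3, 4, 5, 6, 7, 8],
  .small 92 [0, 1, 2, 3, 8, 9, 10, 11, 16],
  .small 93 [0, 1, 2, 3, 8, 9, 10, 11, 16],
  .small 94 [0, 1, 2, 3, 8, 9, 10, 11, 16],
  .small 95 [0, 1, 2, 3, 8, 9, 10, 11, 16],
  .small 96 [0, 1, 2, 3, 8, 9, 10, 11, 16],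
  .nonab 97 [0, 1, 8, 9, 16, 17, 24, 25] 17 19,
  .small 98 [0, 1, 2, 3, 8, 9, 10, 11, 16],
  .nonab 99 [0, 1, 8, 9, 16, 17, 24, 25] 9 11,
  .small 100 [0, 1, 2, 3, 8, 9, 10, 11, 16],
  .nonab 101 [0, 1, 8, 9, 16, 17, 24, 25] 9 11,
  .small 102 [0, 1, 2, 3, 8, 9, 10, 11, 16],
  .nonab 103 [0, 1, 8, 9, 16, 17, 24, 25] 17 19,
  .small 104 [0, 1, 2, 3, 4, 5, 6, 7, 8],
  .small 105 [0, 1, 2, 3, 4, 5, 6, 7, 8],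
  .small 106 [0, 1, 2, 3, 4, 5, 6, 7, 8],
  .small 107 [0, 1, 2, 3, 4, 5, 6, 7, 8],
  .small 108 [0, 1, 2, 3, 8, 9, 10, 11, 16],
  .small 109 [0, 1, 2, 3, 8, 9, 10, 11, 16],
  .small 110 [0, 1, 2, 3, 8, 9, 10, 11, 16],
  .small 111 [0, 1, 2, 3, 8, 9, 10, 11, 16],
  .small 112 [0, 2, 4, 6, 8, 10, 12, 14, 16],
  .small 113 [0, 2, 4, 6, 8, 10, 12, 14, 16],
  .small 114 [0, 2, 4, 6, 8, 10, 12, 14, 16],
  .small 115 [0, 2, 4, 6, 8, 10, 12, 14, 16],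
  .small 116 [0, 1, 2, 3, 4, 5, 6, 7, 8],
  .small 117 [0, 1, 2, 3, 4, 5, 6, 7, 8],
  .small 118 [0, 1, 2, 3, 4, 5, 6, 7, 8],
  .small 119 [0, 1, 2, 3, 4, 5, 6, 7, 8],
  .nonab 120 [0, 1, 8, 9, 16, 17, 24, 25] 17 19,
  .small 121 [0, 1, 2, 3, 8, 9, 10, 11, 16],
  .nonab 122 [0, 1, 8, 9, 16, 17, 24, 25] 9 11,
  .small 123 [0, 1, 2, 3, 8, 9, 10, 11, 16],
  .nonab 124 [0, 1, 8, 9, 16, 17, 24, 25] 9 11,
  .small 125 [0, 1, 2, 3, 8, 9, 10, 11, 16],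
  .nonab 126 [0, 1, 8, 9, 16, 17, 24, 25] 17 19,
  .small 127 [0, 1, 2, 3, 8, 9, 10, 11, 16],
  .nonab 130 [0, 1, 8, 9, 72, 73, 136, 137] 73 97,
  .small 131 [0, 1, 8, 9, 16, 17, 24, 25, 72],
  .nonab 134 [0, 1, 8, 9, 72, 73, 136, 137] 73 97,
  .small 135 [0, 1, 8, 9, 16, 17, 24, 25, 72],
  .nonab 136 [0, 2, 4, 6, 64, 66, 68, 70] 0 22,
  .nonab 137 [0, 2, 4, 6, 64, 66, 68, 70] 1 18,
  .small 138 [0, 1, 2, 3, 4, 5, 6, 7, 64],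
  .small 139 [0, 1, 2, 3, 4, 5, 6, 7, 64],
  .nonab 140 [0, 2, 4, 6, 64, 66, 68, 70] 4 22,
  .nonab 141 [0, 2, 4, 6, 64, 66, 68, 70] 5 18,
  .small 142 [0, 1, 2, 3, 4, 5, 6, 7, 64],
  .small 143 [0, 1, 2, 3, 4, 5, 6, 7, 64],
  .small 144 [0, 1, 2, 3, 4, 5, 6, 7, 64],
  .small 145 [0, 1, 2, 3, 4, 5, 6, 7, 64],
  .nonab 146 [0, 1, 2, 3, 64, 65, 68, 69] 1 4,
  .nonab 147 [0, 1, 2, 3, 64, 65, 68, 69] 1 4,
  .small 148 [0, 1, 2, 3, 4, 5, 6, 7, 64],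
  .small 149 [0, 1, 2, 3, 4, 5, 6, 7, 64],
  .nonab 150 [0, 1, 2, 3, 64, 65, 68, 69] 0 5,
  .nonab 151 [0, 1, 2, 3, 64, 65, 68, 69] 0 5,
  .nonab 152 [0, 1, 8, 9, 64, 65, 128, 129] 130 192,
  .small 153 [0, 1, 2, 3, 8, 9, 10, 11, 64],
  .split 154 [0, 1, 64, 65] 0 2 [0, 1, 2, 3, 4, 5, 6, 7, 64] [0, 1, 2, 3, 4, 5, 6, 7, 8] [0, 1, 8, 9, 64, 65, 72, 73, 128],
  .nonab 155 [0, 1, 2, 3, 64, 65, 68, 69] 0 4,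
  .nonab 156 [0, 1, 8, 9, 64, 65, 128, 129] 130 192,
  .small 157 [0, 1, 2, 3, 8, 9, 10, 11, 64],
  .split 158 [0, 1, 64, 65] 1 3 [0, 1, 2, 3, 4, 5, 6, 7, 64] [0, 1, 2, 3, 4, 5, 6, 7, 8] [0, 1, 8, 9, 64, 65, 72, 73, 128],
  .nonab 159 [0, 1, 2, 3, 64, 65, 68, 69] 1 5,
  .nonab 160 [0, 2, 4, 6, 64, 66, 68, 70] 5 18,
  .nonab 161 [0, 2, 4, 6, 64, 66, 68, 70] 4 22,
  .small 162 [0, 1, 2, 3, 4, 5, 6, 7, 64],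
  .small 163 [0, 1, 2, 3, 4, 5, 6, 7, 64],
  .nonab 164 [0, 2, 4, 6, 64, 66, 68, 70] 1 18,
  .nonab 165 [0, 2, 4, 6, 64, 66, 68, 70] 0 22,
  .small 166 [0, 1, 2, 3, 4, 5, 6, 7, 64],
  .small 167 [0, 1, 2, 3, 4, 5, 6, 7, 64],
  .small 170 [0, 1, 8, 9, 16, 17, 24, 25, 72],
  .nonab 171 [0, 1, 8, 9, 72, 73, 136, 137] 73 97,
  .small 174 [0, 1, 8, 9, 16, 17, 24, 25, 72],
  .nonab 175 [0, 1, 8, 9, 72, 73, 136, 137] 73 97,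
  .small 176 [0, 1, 2, 3, 4, 5, 6, 7, 64],
  .small 177 [0, 1, 2, 3, 4, 5, 6, 7, 64],
  .nonab 178 [0, 1, 2, 3, 64, 65, 68, 69] 0 5,
  .nonab 179 [0, 1, 2, 3, 64, 65, 68, 69] 0 5,
  .small 180 [0, 1, 2, 3, 4, 5, 6, 7, 64],
  .small 181 [0, 1, 2, 3, 4, 5, 6, 7, 64],
  .nonab 182 [0, 1, 2, 3, 64, 65, 68, 69] 1 4,
  .nonab 183 [0, 1, 2, 3, 64, 65, 68, 69] 1 4,
  .small 184 [0, 1, 2, 3, 8, 9, 10, 11, 64],
  .nonab 185 [0, 1, 8, 9, 64, 65, 128, 129] 130 192,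
  .nonab 186 [0, 1, 2, 3, 64, 65, 68, 69] 1 5,
  .split 187 [0, 1, 64, 65] 1 3 [0, 1, 2, 3, 4, 5, 6, 7, 64] [0, 1, 2, 3, 4, 5, 6, 7, 8] [0, 1, 8, 9, 64, 65, 72, 73, 128],
  .small 188 [0, 1, 2, 3, 8, 9, 10, 11, 64],
  .nonab 189 [0, 1, 8, 9, 64, 65, 128, 129] 130 192,
  .nonab 190 [0, 1, 2, 3, 64, 65, 68, 69] 0 4,
  .split 191 [0, 1, 64, 65] 0 2 [0, 1, 2, 3, 4, 5, 6, 7, 64] [0, 1, 2, 3, 4, 5, 6, 7, 8] [0, 1, 8, 9, 64, 65, 72, 73, 128],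
  .nonab 196 [0, 1, 2, 3, 8, 9, 10, 11] 11 19,
  .small 197 [0, 1, 2, 3, 8, 9, 10, 11, 16],
  .nonab 198 [0, 1, 2, 3, 8, 9, 10, 11] 11 19,
  .small 199 [0, 1, 2, 3, 8, 9, 10, 11, 16],
  .small 200 [0, 2, 4, 6, 8, 10, 12, 14, 16],
  .small 201 [0, 2, 4, 6, 8, 10, 12, 14, 16],
  .small 202 [0, 1, 2, 3, 4, 5, 6, 7, 8],
  .small 203 [0, 1, 2, 3, 4, 5, 6, 7, 8],
  .small 204 [0, 1, 2, 3, 4, 5, 6, 7, 8],
  .small 205 [0, 1, 2, 3, 4, 5, 6, 7, 8],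
  .small 206 [0, 2, 4, 6, 8, 10, 12, 14, 16],
  .small 207 [0, 2, 4, 6, 8, 10, 12, 14, 16],
  .small 208 [0, 2, 4, 6, 8, 10, 12, 14, 16],
  .small 209 [0, 2, 4, 6, 8, 10, 12, 14, 16],
  .small 210 [0, 1, 2, 3, 4, 5, 6, 7, 8],
  .small 211 [0, 1, 2, 3, 4, 5, 6, 7, 8],
  .small 212 [0, 1, 2, 3, 4, 5, 6, 7, 8],
  .small 213 [0, 1, 2, 3, 4, 5, 6, 7, 8],
  .small 214 [0, 2, 4, 6, 8, 10, 12, 14, 16],
  .small 215 [0, 2, 4, 6, 8, 10, 12, 14, 16],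
  .nonab 216 [0, 1, 2, 3, 8, 9, 10, 11] 11 19,
  .small 217 [0, 1, 2, 3, 8, 9, 10, 11, 64],
  .nonab 218 [0, 1, 2, 3, 8, 9, 10, 11] 11 19,
  .small 219 [0, 1, 2, 3, 8, 9, 10, 11, 64],
  .nonab 220 [0, 1, 2, 3, 8, 9, 10, 11] 9 17,
  .small 221 [0, 1, 2, 3, 8, 9, 10, 11, 16],
  .nonab 222 [0, 1, 2, 3, 8, 9, 10, 11] 9 17,
  .small 223 [0, 1, 2, 3, 8, 9, 10, 11, 16],
  .small 224 [0, 1, 2, 3, 4, 5, 6, 7, 8],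
  .small 225 [0, 1, 2, 3, 4, 5, 6, 7, 8],
  .small 226 [0, 1, 2, 3, 8, 9, 10, 11, 16],
  .small 227 [0, 1, 2, 3, 8, 9, 10, 11, 16],
  .small 228 [0, 1, 2, 3, 8, 9, 10, 11, 16],
  .small 229 [0, 1, 2, 3, 8, 9, 10, 11, 16],
  .small 230 [0, 1, 2, 3, 4, 5, 6, 7, 8],
  .small 231 [0, 1, 2, 3, 4, 5, 6, 7, 8],
  .small 232 [0, 1, 2, 3, 8, 9, 10, 11, 64],
  .nonab 233 [0, 1, 2, 3, 8, 9, 10, 11] 11 19,
  .small 234 [0, 1, 2, 3, 8, 9, 10, 11, 64],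
  .nonab 235 [0, 1, 2, 3, 8, 9, 10, 11] 11 19,
  .small 236 [0, 1, 2, 3, 8, 9, 10, 11, 16],
  .nonab 237 [0, 1, 2, 3, 8, 9, 10, 11] 9 17,
  .small 238 [0, 1, 2, 3, 8, 9, 10, 11, 16],
  .nonab 239 [0, 1, 2, 3, 8, 9, 10, 11] 9 17,
  .small 244 [0, 1, 2, 3, 8, 9, 10, 11, 16],
  .nonab 245 [0, 1, 2, 3, 8, 9, 10, 11] 11 19,
  .small 246 [0, 1, 2, 3, 8, 9, 10, 11, 16],
  .nonab 247 [0, 1, 2, 3, 8, 9, 10, 11] 11 19,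
  .small 248 [0, 1, 2, 3, 4, 5, 6, 7, 8],
  .small 249 [0, 1, 2, 3, 4, 5, 6, 7, 8],
  .small 250 [0, 1, 2, 3, 8, 9, 10, 11, 16],
  .small 251 [0, 1, 2, 3, 8, 9, 10, 11, 16],
  .small 252 [0, 1, 2, 3, 8, 9, 10, 11, 16],
  .small 253 [0, 1, 2, 3, 8, 9, 10, 11, 16],
  .small 254 [0, 1, 2, 3, 4, 5, 6, 7, 8],
  .small 255 [0, 1, 2, 3, 4, 5, 6, 7, 8],
  .nonab 256 [0, 1, 2, 3, 8, 9, 10, 11] 9 17,
  .small 257 [0, 1, 2, 3, 8, 9, 10, 11, 16],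
  .nonab 258 [0, 1, 2, 3, 8, 9, 10, 11] 9 17,
  .small 259 [0, 1, 2, 3, 8, 9, 10, 11, 16],
  .nonab 260 [0, 1, 2, 3, 8, 9, 10, 11] 11 19,
  .small 261 [0, 1, 2, 3, 8, 9, 10, 11, 64],
  .nonab 262 [0, 1, 2, 3, 8, 9, 10, 11] 11 19,
  .small 263 [0, 1, 2, 3, 8, 9, 10, 11, 64],
  .small 264 [0, 1, 2, 3, 8, 9, 10, 11, 16],
  .small 265 [0, 1, 2, 3, 8, 9, 10, 11, 16],
  .small 266 [0, 1, 2, 3, 4, 5, 6, 7, 8],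
  .small 267 [0, 1, 2, 3, 4, 5, 6, 7, 8],
  .small 268 [0, 1, 2, 3, 4, 5, 6, 7, 8],
  .small 269 [0, 1, 2, 3, 4, 5, 6, 7, 8],
  .small 270 [0, 1, 2, 3, 8, 9, 10, 11, 16],
  .small 271 [0, 1, 2, 3, 8, 9, 10, 11, 16],
  .small 272 [0, 1, 2, 3, 8, 9, 10, 11, 16],
  .small 273 [0, 1, 2, 3, 8, 9, 10, 11, 16],
  .small 274 [0, 1, 2, 3, 4, 5, 6, 7, 8],
  .small 275 [0, 1, 2, 3, 4, 5, 6, 7, 8],
  .small 276 [0, 1, 2, 3, 4, 5, 6, 7, 8],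
  .small 277 [0, 1, 2, 3, 4, 5, 6, 7, 8],
  .small 278 [0, 1, 2, 3, 8, 9, 10, 11, 16],
  .small 279 [0, 1, 2, 3, 8, 9, 10, 11, 16],
  .nonab 280 [0, 1, 2, 3, 8, 9, 10, 11] 11 19,
  .small 281 [0, 1, 2, 3, 8, 9, 10, 11, 16],
  .nonab 282 [0, 1, 2, 3, 8, 9, 10, 11] 11 19,
  .small 283 [0, 1, 2, 3, 8, 9, 10, 11, 16],
  .small 288 [0, 1, 2, 3, 4, 5, 6, 7, 8],
  .small 289 [0, 1, 2, 3, 4, 5, 6, 7, 8],
  .small 290 [0, 2, 4, 6, 8, 10, 12, 14, 16],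
  .small 291 [0, 2, 4, 6, 8, 10, 12, 14, 16],
  .small 292 [0, 2, 4, 6, 8, 10, 12, 14, 16],
  .small 293 [0, 2, 4, 6, 8, 10, 12, 14, 16],
  .small 294 [0, 1, 2, 3, 4, 5, 6, 7, 8],
  .small 295 [0, 1, 2, 3, 4, 5, 6, 7, 8],
  .small 296 [0, 1, 2, 3, 8, 9, 10, 11, 16],
  .nonab 297 [0, 1, 2, 3, 8, 9, 10, 11] 11 19,
  .small 298 [0, 1, 2, 3, 8, 9, 10, 11, 16],
  .nonab 299 [0, 1, 2, 3, 8, 9, 10, 11] 11 19,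
  .small 304 [0, 1, 2, 3, 8, 9, 10, 11, 16],
  .nonab 305 [0, 1, 2, 3, 8, 9, 10, 11] 9 17,
  .small 306 [0, 1, 2, 3, 8, 9, 10, 11, 16],
  .nonab 307 [0, 1, 2, 3, 8, 9, 10, 11] 9 17,
  .small 308 [0, 1, 2, 3, 8, 9, 10, 11, 64],
  .nonab 309 [0, 1, 2, 3, 8, 9, 10, 11] 11 19,
  .small 310 [0, 1, 2, 3, 8, 9, 10, 11, 64],
  .nonab 311 [0, 1, 2, 3, 8, 9, 10, 11] 11 19,
  .small 312 [0, 1, 2, 3, 4, 5, 6, 7, 8],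
  .small 313 [0, 1, 2, 3, 4, 5, 6, 7, 8],
  .small 314 [0, 2, 4, 6, 8, 10, 12, 14, 16],
  .small 315 [0, 2, 4, 6, 8, 10, 12, 14, 16],
  .small 316 [0, 2, 4, 6, 8, 10, 12, 14, 16],
  .small 317 [0, 2, 4, 6, 8, 10, 12, 14, 16],
  .small 318 [0, 1, 2, 3, 4, 5, 6, 7, 8],
  .small 319 [0, 1, 2, 3, 4, 5, 6, 7, 8],
  .small 320 [0, 1, 2, 3, 8, 9, 10, 11, 16],
  .small 321 [0, 1, 2, 3, 8, 9, 10, 11, 16],
  .small 322 [0, 1, 2, 3, 8, 9, 10, 11, 16],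
  .small 323 [0, 1, 2, 3, 8, 9, 10, 11, 16],
  .small 324 [0, 1, 2, 3, 4, 5, 6, 7, 8],
  .small 325 [0, 1, 2, 3, 4, 5, 6, 7, 8],
  .small 326 [0, 1, 2, 3, 4, 5, 6, 7, 8],
  .small 327 [0, 1, 2, 3, 4, 5, 6, 7, 8],
  .small 328 [0, 1, 2, 3, 8, 9, 10, 11, 16],
  .nonab 329 [0, 1, 8, 9, 16, 17, 24, 25] 9 11,
  .small 330 [0, 1, 2, 3, 8, 9, 10, 11, 16],
  .nonab 331 [0, 1, 8, 9, 16, 17, 24, 25] 17 19,
  .small 332 [0, 1, 2, 3, 8, 9, 10, 11, 16],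
  .nonab 333 [0, 1, 8, 9, 16, 17, 24, 25] 17 19,
  .small 334 [0, 1, 2, 3, 8, 9, 10, 11, 16],
  .nonab 335 [0, 1, 8, 9, 16, 17, 24, 25] 9 11,
  .nonab 336 [0, 1, 8, 9, 16, 17, 24, 25] 9 11,
  .small 337 [0, 1, 2, 3, 8, 9, 10, 11, 16],
  .nonab 338 [0, 1, 8, 9, 16, 17, 24, 25] 17 19,
  .small 339 [0, 1, 2, 3, 8, 9, 10, 11, 16],
  .nonab 340 [0, 1, 8, 9, 16, 17, 24, 25] 17 19,
  .small 341 [0, 1, 2, 3, 8, 9, 10, 11, 16],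
  .nonab 342 [0, 1, 8, 9, 16, 17, 24, 25] 9 11,
  .small 343 [0, 1, 2, 3, 8, 9, 10, 11, 16],
  .small 344 [0, 1, 2, 3, 4, 5, 6, 7, 8],
  .small 345 [0, 1, 2, 3, 4, 5, 6, 7, 8],
  .small 346 [0, 1, 2, 3, 4, 5, 6, 7, 8],
  .small 347 [0, 1, 2, 3, 4, 5, 6, 7, 8],
  .small 348 [0, 2, 4, 6, 8, 10, 12, 14, 16],
  .small 349 [0, 2, 4, 6, 8, 10, 12, 14, 16],
  .small 350 [0, 2, 4, 6, 8, 10, 12, 14, 16],
  .small 351 [0, 2, 4, 6, 8, 10, 12, 14, 16],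
  .small 352 [0, 1, 8, 9, 16, 17, 24, 25, 72],
  .nonab 353 [0, 1, 8, 9, 16, 17, 24, 25] 17 19,
  .small 358 [0, 1, 8, 9, 16, 17, 24, 25, 72],
  .nonab 359 [0, 1, 8, 9, 16, 17, 24, 25] 17 19,
  .small 360 [0, 1, 2, 3, 4, 5, 6, 7, 8],
  .small 361 [0, 1, 2, 3, 4, 5, 6, 7, 8],
  .small 362 [0, 1, 2, 3, 4, 5, 6, 7, 8],
  .small 363 [0, 1, 2, 3, 4, 5, 6, 7, 8],
  .small 364 [0, 2, 4, 6, 8, 10, 12, 14, 16],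
  .small 365 [0, 2, 4, 6, 8, 10, 12, 14, 16],
  .small 366 [0, 2, 4, 6, 8, 10, 12, 14, 16],
  .small 367 [0, 2, 4, 6, 8, 10, 12, 14, 16],
  .small 368 [0, 1, 2, 3, 8, 9, 10, 11, 16],
  .small 369 [0, 1, 2, 3, 8, 9, 10, 11, 16],
  .small 370 [0, 1, 2, 3, 8, 9, 10, 11, 16],
  .small 371 [0, 1, 2, 3, 8, 9, 10, 11, 16],
  .small 372 [0, 1, 2, 3, 4, 5, 6, 7, 8],
  .small 373 [0, 1, 2, 3, 4, 5, 6, 7, 8],
  .small 374 [0, 1, 2, 3, 4, 5, 6, 7, 8],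
  .small 375 [0, 1, 2, 3, 4, 5, 6, 7, 8],
  .nonab 376 [0, 1, 8, 9, 16, 17, 24, 25] 17 19,
  .small 377 [0, 1, 8, 9, 16, 17, 24, 25, 72],
  .nonab 382 [0, 1, 8, 9, 16, 17, 24, 25] 17 19,
  .small 383 [0, 1, 8, 9, 16, 17, 24, 25, 72],
  .nonab 384 [0, 1, 2, 3, 64, 65, 68, 69] 0 5,
  .nonab 385 [0, 1, 2, 3, 64, 65, 68, 69] 0 5,
  .small 386 [0, 1, 2, 3, 4, 5, 6, 7, 8],
  .small 387 [0, 1, 2, 3, 4, 5, 6, 7, 8],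
  .nonab 388 [0, 1, 2, 3, 64, 65, 68, 69] 1 4,
  .nonab 389 [0, 1, 2, 3, 64, 65, 68, 69] 1 4,
  .small 390 [0, 1, 2, 3, 4, 5, 6, 7, 8],
  .small 391 [0, 1, 2, 3, 4, 5, 6, 7, 8],
  .nonab 392 [0, 1, 2, 3, 64, 65, 68, 69] 1 5,
  .split 393 [0, 1, 2, 3] 1 9 [0, 1, 2, 3, 4, 5, 6, 7, 64] [0, 1, 2, 3, 8, 9, 10, 11, 64] [0, 1, 2, 3, 4, 5, 6, 7, 64],
  .small 394 [0, 1, 2, 3, 8, 9, 10, 11, 16],
  .nonab 395 [0, 1, 2, 3, 8, 9, 10, 11] 11 75,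
  .nonab 396 [0, 1, 2, 3, 64, 65, 68, 69] 0 4,
  .split 397 [0, 1, 2, 3] 0 9 [0, 1, 2, 3, 4, 5, 6, 7, 64] [0, 1, 2, 3, 8, 9, 10, 11, 64] [0, 1, 2, 3, 4, 5, 6, 7, 64],
  .small 398 [0, 1, 2, 3, 8, 9, 10, 11, 16],
  .nonab 399 [0, 1, 2, 3, 8, 9, 10, 11] 11 75,
  .small 400 [0, 1, 2, 3, 8, 9, 10, 11, 16],
  .nonab 401 [0, 1, 2, 3, 8, 9, 10, 11] 17 73,
  .small 404 [0, 1, 2, 3, 8, 9, 10, 11, 16],
  .nonab 405 [0, 1, 2, 3, 8, 9, 10, 11] 17 73,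
  .small 408 [0, 1, 2, 3, 4, 5, 6, 7, 8],
  .small 409 [0, 1, 2, 3, 4, 5, 6, 7, 8],
  .nonab 410 [0, 2, 4, 6, 64, 66, 68, 70] 5 18,
  .nonab 411 [0, 2, 4, 6, 64, 66, 68, 70] 4 22,
  .small 412 [0, 1, 2, 3, 4, 5, 6, 7, 8],
  .small 413 [0, 1, 2, 3, 4, 5, 6, 7, 8],
  .nonab 414 [0, 2, 4, 6, 64, 66, 68, 70] 1 18,
  .nonab 415 [0, 2, 4, 6, 64, 66, 68, 70] 0 22,
  .split 416 [0, 1, 2, 3] 0 9 [0, 1, 2, 3, 4, 5, 6, 7, 64] [0, 1, 2, 3, 8, 9, 10, 11, 64] [0, 1, 2, 3, 4, 5, 6, 7, 64],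
  .nonab 417 [0, 1, 2, 3, 64, 65, 68, 69] 0 4,
  .nonab 418 [0, 1, 2, 3, 8, 9, 10, 11] 11 75,
  .small 419 [0, 1, 2, 3, 8, 9, 10, 11, 16],
  .split 420 [0, 1, 2, 3] 1 9 [0, 1, 2, 3, 4, 5, 6, 7, 64] [0, 1, 2, 3, 8, 9, 10, 11, 64] [0, 1, 2, 3, 4, 5, 6, 7, 64],
  .nonab 421 [0, 1, 2, 3, 64, 65, 68, 69] 1 5,
  .nonab 422 [0, 1, 2, 3, 8, 9, 10, 11] 11 75,
  .small 423 [0, 1, 2, 3, 8, 9, 10, 11, 16],
  .nonab 424 [0, 1, 2, 3, 64, 65, 68, 69] 1 4,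
  .nonab 425 [0, 1, 2, 3, 64, 65, 68, 69] 1 4,
  .small 426 [0, 1, 2, 3, 4, 5, 6, 7, 8],
  .small 427 [0, 1, 2, 3, 4, 5, 6, 7, 8],
  .nonab 428 [0, 1, 2, 3, 64, 65, 68, 69] 0 5,
  .nonab 429 [0, 1, 2, 3, 64, 65, 68, 69] 0 5,
  .small 430 [0, 1, 2, 3, 4, 5, 6, 7, 8],
  .small 431 [0, 1, 2, 3, 4, 5, 6, 7, 8],
  .nonab 432 [0, 1, 2, 3, 8, 9, 10, 11] 17 73,
  .small 433 [0, 1, 2, 3, 8, 9, 10, 11, 16],
  .nonab 436 [0, 1, 2, 3, 8, 9, 10, 11] 17 73,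
  .small 437 [0, 1, 2, 3, 8, 9, 10, 11, 16],
  .small 440 [0, 1, 2, 3, 4, 5, 6, 7, 8],
  .small 441 [0, 1, 2, 3, 4, 5, 6, 7, 8],
  .nonab 442 [0, 2, 4, 6, 64, 66, 68, 70] 0 22,
  .nonab 443 [0, 2, 4, 6, 64, 66, 68, 70] 1 18,
  .small 444 [0, 1, 2, 3, 4, 5, 6, 7, 8],
  .small 445 [0, 1, 2, 3, 4, 5, 6, 7, 8],
  .nonab 446 [0, 2, 4, 6, 64, 66, 68, 70] 4 22,
  .nonab 447 [0, 2, 4, 6, 64, 66, 68, 70] 5 18,
  .split 448 [0, 1, 64, 65] 1 3 [0, 1, 2, 3, 4, 5, 6, 7, 64] [0, 1, 2, 3, 4, 5, 6, 7, 8] [0, 1, 8, 9, 64, 65, 72, 73, 128],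
  .nonab 449 [0, 1, 2, 3, 64, 65, 68, 69] 1 5,
  .nonab 450 [0, 1, 8, 9, 64, 65, 128, 129] 130 192,
  .small 451 [0, 1, 2, 3, 8, 9, 10, 11, 64],
  .split 452 [0, 1, 64, 65] 0 2 [0, 1, 2, 3, 4, 5, 6, 7, 64] [0, 1, 2, 3, 4, 5, 6, 7, 8] [0, 1, 8, 9, 64, 65, 72, 73, 128],
  .nonab 453 [0, 1, 2, 3, 64, 65, 68, 69] 0 4,
  .nonab 454 [0, 1, 8, 9, 64, 65, 128, 129] 130 192,
  .small 455 [0, 1, 2, 3, 8, 9, 10, 11, 64],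
  .nonab 456 [0, 1, 2, 3, 64, 65, 68, 69] 0 5,
  .nonab 457 [0, 1, 2, 3, 64, 65, 68, 69] 0 5,
  .small 458 [0, 1, 2, 3, 4, 5, 6, 7, 64],
  .small 459 [0, 1, 2, 3, 4, 5, 6, 7, 64],
  .nonab 460 [0, 1, 2, 3, 64, 65, 68, 69] 1 4,
  .nonab 461 [0, 1, 2, 3, 64, 65, 68, 69] 1 4,
  .small 462 [0, 1, 2, 3, 4, 5, 6, 7, 64],
  .small 463 [0, 1, 2, 3, 4, 5, 6, 7, 64],
  .small 464 [0, 1, 2, 3, 4, 5, 6, 7, 64],
  .small 465 [0, 1, 2, 3, 4, 5, 6, 7, 64],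
  .nonab 466 [0, 2, 4, 6, 64, 66, 68, 70] 4 22,
  .nonab 467 [0, 2, 4, 6, 64, 66, 68, 70] 5 18,
  .small 468 [0, 1, 2, 3, 4, 5, 6, 7, 64],
  .small 469 [0, 1, 2, 3, 4, 5, 6, 7, 64],
  .nonab 470 [0, 2, 4, 6, 64, 66, 68, 70] 0 22,
  .nonab 471 [0, 2, 4, 6, 64, 66, 68, 70] 1 18,
  .nonab 472 [0, 1, 8, 9, 72, 73, 136, 137] 73 97,
  .small 473 [0, 1, 8, 9, 16, 17, 24, 25, 72],
  .nonab 476 [0, 1, 8, 9, 72, 73, 136, 137] 73 97,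
  .small 477 [0, 1, 8, 9, 16, 17, 24, 25, 72],
  .nonab 480 [0, 1, 2, 3, 64, 65, 68, 69] 1 4,
  .nonab 481 [0, 1, 2, 3, 64, 65, 68, 69] 1 4,
  .small 482 [0, 1, 2, 3, 4, 5, 6, 7, 64],
  .small 483 [0, 1, 2, 3, 4, 5, 6, 7, 64],
  .nonab 484 [0, 1, 2, 3, 64, 65, 68, 69] 0 5,
  .nonab 485 [0, 1, 2, 3, 64, 65, 68, 69] 0 5,
  .small 486 [0, 1, 2, 3, 4, 5, 6, 7, 64],
  .small 487 [0, 1, 2, 3, 4, 5, 6, 7, 64],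
  .nonab 488 [0, 1, 2, 3, 64, 65, 68, 69] 0 4,
  .split 489 [0, 1, 64, 65] 0 2 [0, 1, 2, 3, 4, 5, 6, 7, 64] [0, 1, 2, 3, 4, 5, 6, 7, 8] [0, 1, 8, 9, 64, 65, 72, 73, 128],
  .small 490 [0, 1, 2, 3, 8, 9, 10, 11, 64],
  .nonab 491 [0, 1, 8, 9, 64, 65, 128, 129] 130 192,
  .nonab 492 [0, 1, 2, 3, 64, 65, 68, 69] 1 5,
  .split 493 [0, 1, 64, 65] 1 3 [0, 1, 2, 3, 4, 5, 6, 7, 64] [0, 1, 2, 3, 4, 5, 6, 7, 8] [0, 1, 8, 9, 64, 65, 72, 73, 128],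
  .small 494 [0, 1, 2, 3, 8, 9, 10, 11, 64],
  .nonab 495 [0, 1, 8, 9, 64, 65, 128, 129] 130 192,
  .small 496 [0, 1, 2, 3, 4, 5, 6, 7, 64],
  .small 497 [0, 1, 2, 3, 4, 5, 6, 7, 64],
  .nonab 498 [0, 2, 4, 6, 64, 66, 68, 70] 1 18,
  .nonab 499 [0, 2, 4, 6, 64, 66, 68, 70] 0 22,
  .small 500 [0, 1, 2, 3, 4, 5, 6, 7, 64],
  .small 501 [0, 1, 2, 3, 4, 5, 6, 7, 64],
  .nonab 502 [0, 2, 4, 6, 64, 66, 68, 70] 5 18,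
  .nonab 503 [0, 2, 4, 6, 64, 66, 68, 70] 4 22,
  .small 504 [0, 1, 8, 9, 16, 17, 24, 25, 72],
  .nonab 505 [0, 1, 8, 9, 72, 73, 136, 137] 73 97,
  .small 508 [0, 1, 8, 9, 16, 17, 24, 25, 72],
  .nonab 509 [0, 1, 8, 9, 72, 73, 136, 137] 73 97]

theorem qcov : ixAllN (fun k => ixBit (Nat.lor (ixMask QA) (abMask qcerts)) k) 512 = true := by
  decide +kernel

theorem qall : abAll mulQ invQ 512 64 qcerts = true := by decide +kernel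

/-- the three properties of the quotient by the centre, for every group with the model of the
Sylow subgroup -/
theorem quot_props {G : Type*} [Group G] {e : ℕ → G}
    (D : IxModel (⊤ : Subgroup G) 1024 e mul inv root) :
    (∀ M : Subgroup (G ⧸ Subgroup.center G), IsCoatom M →
        Nat.card ↥(Subgroup.center ↥M) ≤ 8) ∧
      (∃ A : Subgroup (G ⧸ Subgroup.center G),
        (IsMulCommutative ↥A ∧ ∀ a ∈ A, a ^ 2 = 1) ∧ Nat.card ↥A = 64) ∧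
      ∀ A B : Subgroup (G ⧸ Subgroup.center G),
        IsMulCommutative ↥A → Nat.card ↥A = 64 → IsMulCommutative ↥B → Nat.card ↥B = 64 →
          A = B := by
  have DQ := quotModel D
  refine ⟨fun M hM => ?_, ?_, fun A B hA hcA hB hcB => ?_⟩
  · exact DQ.coatom_center_le (j := 9) (by norm_num) QE qprs (fun p => Nat.shiftRight p 9)
      (fun p => Nat.land p 511) (b := 3) (by decide) qE_ok M hM
  · obtain ⟨A, hA, hc, hsq⟩ := DQ.exists_elemAb QA qA1 qA2 qA3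
    refine ⟨A, ⟨hc, hsq⟩, ?_⟩
    have h1 : Nat.card ↥A = (A : Set (G ⧸ Subgroup.center G)).ncard :=
      Nat.card_coe_set_eq _
    rw [h1, hA, DQ.ixSet_ncard (fun a ha => Nat.le_of_ble_eq_true ((ixAllL_iff _ _).mp qA1 a ha))
      qA_nodup, qA_len]
  · exact DQ.abelian_unique QA qcerts (by rw [qA_len]) qcov qall A B hA hcA hB hcB

end Cfsg.Agent.Lib.Helper89.M24Syl
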