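import Mathlib
import Cfsg.Prelude.Def_GeometricClasses
import Cfsg.Prelude.Def_LieClassical

set_option autoImplicit false

/-! Project OMP (helper71), piece OSQ: squares of a finite field of odd characteristic versus a
subfield of odd index (`OSQ1`) or of index two (`OSQ2`). -/

namespace Cfsg.Agent.Lib.Helper89.OMPOSQ

open Matrix Cfsg.Geo

variable {n : ℕ} {F : Type*} [Field F] [Fintype F]

theorem ringChar_ne_two_of {K : Type*} [Field K] (h2 : (2 : K) ≠ 0) : ringChar K ≠ 2 := by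
  intro h
  apply h2
  have h1 := ringChar.Nat.cast_ringChar (R := K)
  rw [h] at h1
  exact_mod_cast h1

theorem half_mul (A B : ℕ) (hA : A % 2 = 1) (hB : B % 2 = 1) :
    (A * B) / 2 = B * (A / 2) + B / 2 := by
  obtain ⟨m, rfl⟩ : ∃ m, A = 2 * m + 1 := ⟨A / 2, by omega⟩
  obtain ⟨e, rfl⟩ : ∃ e, B = 2 * e + 1 := ⟨B / 2, by omega⟩
  have h1 : (2 * m + 1) / 2 = m := by omega
  have h2 : (2 * e + 1) / 2 = e := by omega
  have h3 : (2 * m + 1) * (2 * e + 1) = 2 * ((2 * e + 1) * m + e) + 1 := by ring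
  rw [h1, h2, h3]
  omega

omit [Fintype F] in
/-- for `g` with `g ^ q₁ = g`, `q₁` odd: `g ^ (q₁ ^ k / 2) = (g ^ (q₁ / 2)) ^ k` -/
theorem pow_half_pow (g : F) (q₁ : ℕ) (hq₁ : q₁ % 2 = 1) (hg : g ^ q₁ = g) (k : ℕ) :
    g ^ (q₁ ^ k / 2) = (g ^ (q₁ / 2)) ^ k := by
  induction k with
  | zero => simp
  | succ k ih =>
    have hodd : q₁ ^ k % 2 = 1 := by
      rw [Nat.pow_mod, hq₁]; simp
    rw [pow_succ q₁ k, half_mul _ _ hodd hq₁, pow_add, pow_mul, hg, ih, pow_succ]

theorem subfield_pow_card (F₁ : Subfield F) {x : F} (hx : x ∈ F₁) : x ^ Nat.card F₁ = x := by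
  have : Fintype F₁ := Fintype.ofFinite _
  rw [Nat.card_eq_fintype_card]
  have h := FiniteField.pow_card (⟨x, hx⟩ : F₁)
  have h' := congrArg (Subtype.val) h
  simpa using h'

/-- OSQ1: for a subfield of odd index every non-zero element is a subfield element times a
square. -/
theorem OSQ1 (h2 : (2 : F) ≠ 0) (F₁ : Subfield F) (r : ℕ) (hr : Odd r)
    (hcard : Fintype.card F = Nat.card F₁ ^ r) (ζ : F) (hζ : ζ ≠ 0) :
    ∃ a s : F, a ∈ F₁ ∧ a ≠ 0 ∧ s ≠ 0 ∧ ζ = a * s ^ 2 := by
  have hF : ringChar F ≠ 2 := ringChar_ne_two_of h2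
  have hqodd : Fintype.card F % 2 = 1 := FiniteField.odd_card_of_char_ne_two hF
  have hr0 : r ≠ 0 := by
    rintro rfl
    simp at hr
  have hq₁ : Nat.card F₁ % 2 = 1 := by
    rw [hcard] at hqodd
    have h1 : Odd (Nat.card F₁ ^ r) := Nat.odd_iff.mpr hqodd
    exact Nat.odd_iff.mp ((Nat.odd_pow_iff hr0).mp h1)
  by_cases hsq : IsSquare ζ
  · obtain ⟨s, hs⟩ := hsq
    refine ⟨1, s, F₁.one_mem, one_ne_zero, ?_, ?_⟩
    · rintro rfl
      apply hζ
      simpa using hs
    · rw [one_mul, pow_two]; exact hs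
  · -- a non-square of `F₁`
    have : Fintype F₁ := Fintype.ofFinite _
    have h2' : (2 : F₁) ≠ 0 := by
      intro h
      apply h2
      have h3 : ((2 : F₁) : F) = ((0 : F₁) : F) := congrArg Subtype.val h
      have h4 : ((2 : F₁) : F) = (2 : F) := rfl
      have h5 : ((0 : F₁) : F) = (0 : F) := rfl
      rw [h4, h5] at h3
      exact h3
    have hF₁ : ringChar F₁ ≠ 2 := ringChar_ne_two_of h2'
    obtain ⟨g, hg⟩ := FiniteField.exists_nonsquare hF₁
    have hg0 : g ≠ 0 := by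
      rintro rfl
      exact hg ⟨0, by simp⟩
    have hgpow : g ^ (Fintype.card F₁ / 2) = -1 := by
      rcases FiniteField.pow_dichotomy hF₁ hg0 with h | h
      · exact absurd ((FiniteField.isSquare_iff hF₁ hg0).mpr h) hg
      · exact h
    have hgF : (g : F) ^ (Nat.card F₁ / 2) = -1 := by
      rw [Nat.card_eq_fintype_card]
      have := congrArg (Subtype.val) hgpow
      simpa using this
    have hgF0 : (g : F) ≠ 0 := by
      intro h
      apply hg0
      exact Subtype.ext h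
    have hgq : (g : F) ^ (Fintype.card F / 2) = -1 := by
      rw [hcard, pow_half_pow (g : F) (Nat.card F₁) hq₁ (subfield_pow_card F₁ g.2) r, hgF]
      exact hr.neg_one_pow
    have hζq : ζ ^ (Fintype.card F / 2) = -1 := by
      rcases FiniteField.pow_dichotomy hF hζ with h | h
      · exact absurd ((FiniteField.isSquare_iff hF hζ).mpr h) hsq
      · exact h
    have hdiv0 : ζ / (g : F) ≠ 0 := div_ne_zero hζ hgF0
    have hdiv : IsSquare (ζ / (g : F)) := by
      rw [FiniteField.isSquare_iff hF hdiv0, div_pow, hζq, hgq]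
      simp
    obtain ⟨s, hs⟩ := hdiv
    refine ⟨(g : F), s, g.2, hgF0, ?_, ?_⟩
    · rintro rfl
      apply hdiv0
      simpa using hs
    · rw [pow_two, ← hs]
      field_simp

/-- OSQ2: the elements of the subfield of index 2 are squares. -/
theorem OSQ2 (h2 : (2 : F) ≠ 0) (F₁ : Subfield F) (hcard : Fintype.card F = Nat.card F₁ ^ 2)
    (x : F) (hx : x ∈ F₁) : IsSquare x := by
  have hF : ringChar F ≠ 2 := ringChar_ne_two_of h2
  have hqodd : Fintype.card F % 2 = 1 := FiniteField.odd_card_of_char_ne_two hF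
  have hq₁ : Nat.card F₁ % 2 = 1 := by
    rw [hcard] at hqodd
    have h1 : Odd (Nat.card F₁ ^ 2) := Nat.odd_iff.mpr hqodd
    exact Nat.odd_iff.mp ((Nat.odd_pow_iff (by norm_num)).mp h1)
  by_cases hx0 : x = 0
  · rw [hx0]; exact ⟨0, by simp⟩
  · rw [FiniteField.isSquare_iff hF hx0, hcard]
    have : Fintype F₁ := Fintype.ofFinite _
    have h1 : x ^ (Nat.card F₁ - 1) = 1 := by
      rw [Nat.card_eq_fintype_card]
      have hx0' : (⟨x, hx⟩ : F₁) ≠ 0 := by
        intro h
        apply hx0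
        exact congrArg Subtype.val h
      have h := FiniteField.pow_card_sub_one_eq_one (⟨x, hx⟩ : F₁) hx0'
      have h' := congrArg (Subtype.val) h
      simpa using h'
    have h3 : Nat.card F₁ ^ 2 / 2 = (Nat.card F₁ - 1) * ((Nat.card F₁ + 1) / 2) := by
      obtain ⟨e, he⟩ : ∃ e, Nat.card F₁ = 2 * e + 1 := ⟨Nat.card F₁ / 2, by omega⟩
      rw [he]
      have h4 : (2 * e + 1) ^ 2 = 2 * (2 * e * (e + 1)) + 1 := by ring
      have h5 : (2 * e + 1 + 1) / 2 = e + 1 := by omega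
      have h6 : 2 * e + 1 - 1 = 2 * e := by omega
      rw [h4, h5, h6]
      omega
    rw [h3, pow_mul, h1, one_pow]

end Cfsg.Agent.Lib.Helper89.OMPOSQ
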