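import Mathlib
import Cfsg.Prelude.Def_Sporadic_a
import Cfsg.Agent.Lib.Helper89.TabGroup
import Cfsg.Agent.Lib.Helper89.IdxModel

set_option autoImplicit false

/-!
# Certified regular representations of groups of permutations of the 24 points (helper89)

Permutations are coded by numbers (24 digits in base 32).  A certificate lists the codes of all
elements of the group generated by some tables, with right multiplication tables; checking it
yields an index model (`IxModel`) of the group.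
-/

namespace Cfsg.Agent.Lib.Helper89

open Cfsg Cfsg.Agent.Lib.Helper9 Cfsg.Agent.Lib.Helper95

/-! ### Codes of permutations -/

/-- digit `i` of a code (base `32`) -/
def pcDig (c i : ℕ) : ℕ := Nat.mod (Nat.div c (Nat.pow 32 i)) 32

/-- the number with the `k` digits `f s, f (s+1), ...` -/
def pcEnc (f : ℕ → ℕ) (k : ℕ) : ℕ → ℕ :=
  Nat.rec (motive := fun _ => ℕ → ℕ) (fun _ => 0)
    (fun _ ih s => Nat.add (f s) (Nat.mul 32 (ih (Nat.succ s)))) k

theorem pcEnc_succ (f : ℕ → ℕ) (k s : ℕ) :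
    pcEnc f (k + 1) s = f s + 32 * pcEnc f k (s + 1) := rfl

theorem pcDig_pcEnc (f : ℕ → ℕ) : ∀ (k s i : ℕ), i < k → (∀ j < k, f (s + j) < 32) →
    pcDig (pcEnc f k s) i = f (s + i) := by
  intro k
  induction k with
  | zero => intro s i hi; omega
  | succ k ih =>
    intro s i hi hf
    rw [pcEnc_succ]
    have h0 : f s < 32 := by simpa using hf 0 (Nat.succ_pos k)
    cases i with
    | zero =>
      show (f s + 32 * pcEnc f k (s + 1)) / 32 ^ 0 % 32 = f (s + 0)
      rw [pow_zero, Nat.div_one, Nat.add_mul_mod_self_left, Nat.mod_eq_of_lt h0, Nat.add_zero]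
    | succ i =>
      show (f s + 32 * pcEnc f k (s + 1)) / 32 ^ (i + 1) % 32 = f (s + (i + 1))
      have h1 : (f s + 32 * pcEnc f k (s + 1)) / 32 ^ (i + 1) = pcEnc f k (s + 1) / 32 ^ i := by
        rw [pow_succ', ← Nat.div_div_eq_div_mul, Nat.add_mul_div_left _ _ (by norm_num : 0 < 32),
          Nat.div_eq_of_lt h0, Nat.zero_add]
      rw [h1]
      have h2 := ih (s + 1) i (by omega) (fun j hj => by
        have := hf (j + 1) (by omega)
        rwa [show s + (j + 1) = s + 1 + j by omega] at this)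
      rw [show s + (i + 1) = s + 1 + i by omega]
      exact h2

theorem pcEnc_congr {f g : ℕ → ℕ} : ∀ (k s : ℕ), (∀ j < k, f (s + j) = g (s + j)) →
    pcEnc f k s = pcEnc g k s := by
  intro k
  induction k with
  | zero => intro s _; rfl
  | succ k ih =>
    intro s h
    rw [pcEnc_succ, pcEnc_succ, ih (s + 1) (fun j hj => by
      have := h (j + 1) (by omega)
      rwa [show s + (j + 1) = s + 1 + j by omega] at this)]
    have h0 := h 0 (Nat.succ_pos k)
    rw [Nat.add_zero] at h0
    rw [h0]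

/-- the product of codes -/
def pcMul (a b : ℕ) : ℕ := pcEnc (fun i => pcDig a (pcDig b i)) 24 0

/-- the code of a permutation -/
def pcOf (σ : Equiv.Perm GolayPt) : ℕ := pcEnc (fun i => idx (σ (pt i))) 24 0

/-- the code of the identity -/
def pcId : ℕ := pcEnc (fun i => i) 24 0

/-- the code of a table -/
def pcTab (T : List ℕ) : ℕ := pcEnc (fun i => T.getD i 0) 24 0

theorem pcDig_pcOf (σ : Equiv.Perm GolayPt) {i : ℕ} (hi : i < 24) :
    pcDig (pcOf σ) i = idx (σ (pt i)) := by
  have h := pcDig_pcEnc (fun i => idx (σ (pt i))) 24 0 i hi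
    (fun j _ => lt_trans (idx_lt _) (by norm_num))
  rw [Nat.zero_add] at h
  exact h

theorem pcOf_injective : Function.Injective pcOf := by
  intro σ τ h
  apply Equiv.ext
  intro p
  have h1 := pcDig_pcOf σ (idx_lt p)
  have h2 := pcDig_pcOf τ (idx_lt p)
  rw [h, h2, pt_idx] at h1
  have h3 := congrArg pt h1
  rw [pt_idx, pt_idx] at h3
  exact h3.symm

theorem pcOf_mul (σ τ : Equiv.Perm GolayPt) : pcOf (σ * τ) = pcMul (pcOf σ) (pcOf τ) := by
  apply pcEnc_congr
  intro j hj
  simp only [Nat.zero_add]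
  rw [pcDig_pcOf τ hj, pcDig_pcOf σ (idx_lt _), pt_idx, Equiv.Perm.mul_apply]

theorem pcOf_one : pcOf 1 = pcId := by
  apply pcEnc_congr
  intro j hj
  simp only [Nat.zero_add]
  rw [Equiv.Perm.one_apply, idx_pt hj]

theorem pcOf_tperm {T : List ℕ} (h : permOK T = true) : pcOf (tperm T) = pcTab T := by
  apply pcEnc_congr
  intro j hj
  simp only [Nat.zero_add]
  rw [tperm_apply h, idx_pt hj, idx_pt (getD_lt_of_valid ((permOK_iff T).mp h).1 _)]

/-! ### Certificates -/

/-- the codes are increasing -/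
def regSortedOK (code : ℕ → ℕ) (n : ℕ) : Bool :=
  ixAllN (fun k => Nat.blt (code k) (code (Nat.succ k))) (Nat.pred n)

/-- `rmb i x` is the index of the product of the element `x` by the generator `i` -/
def regRmbOK (gens : List (List ℕ)) (code : ℕ → ℕ) (rmb : ℕ → ℕ → ℕ) (n : ℕ) : Bool :=
  ixAllN (fun i => ixAllN (fun x => ixAnd (Nat.blt (rmb i x) n)
    (Nat.beq (code (rmb i x)) (pcMul (code x) (pcTab (gens.getD i []))))) n) gens.length

/-- every index other than the root is reached from an index of lower level -/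
def regTreeOK (rmb : ℕ → ℕ → ℕ) (par pj lvl : ℕ → ℕ) (root n r : ℕ) : Bool :=
  ixAllN (fun k => ixOr (Nat.beq k root)
    (ixAnd (Nat.blt (par k) n) (ixAnd (Nat.blt (lvl (par k)) (lvl k))
      (ixAnd (Nat.blt (pj k) r) (Nat.beq (rmb (pj k) (par k)) k))))) n

/-- the multiplier `0` is the identity, and the multiplier `j > 0` is an earlier multiplier
times a generator -/
def regRmOK (rmb rm : ℕ → ℕ → ℕ) (mi mj : ℕ → ℕ) (n m r : ℕ) : Bool :=
  ixAnd (ixAllN (fun x => Nat.beq (rm 0 x) x) n)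
    (ixAllN (fun j => ixOr (Nat.beq j 0) (ixAnd (Nat.blt (mj j) j) (ixAnd (Nat.blt (mi j) r)
      (ixAllN (fun x => Nat.beq (rm j x) (rmb (mi j) (rm (mj j) x))) n)))) m)

/-- the product of two indices, by two multipliers -/
def regMul (rm : ℕ → ℕ → ℕ) (ja jb : ℕ → ℕ) (a b : ℕ) : ℕ := rm (jb b) (rm (ja b) a)

/-- every element is the product of two multipliers, and `inv` gives inverses -/
def regDecOK (rm : ℕ → ℕ → ℕ) (ja jb inv : ℕ → ℕ) (root n m : ℕ) : Bool :=
  ixAllN (fun b => ixAnd (Nat.blt (ja b) m) (ixAnd (Nat.blt (jb b) m)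
    (ixAnd (Nat.beq (regMul rm ja jb root b) b)
      (ixAnd (Nat.blt (inv b) n) (Nat.beq (regMul rm ja jb b (inv b)) root))))) n

/-- a certified regular representation of the group generated by the tables `gens` -/
structure RegCert (gens : List (List ℕ)) (n : ℕ) (code : ℕ → ℕ) (root : ℕ)
    (rmb : ℕ → ℕ → ℕ) (par pj lvl : ℕ → ℕ) (m : ℕ) (rm : ℕ → ℕ → ℕ) (mi mj ja jb inv : ℕ → ℕ) :
    Prop where
  gens_ok : gens.all permOK = true
  root_lt : Nat.blt root n = true
  code_root : Nat.beq (code root) pcId = true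
  sorted : regSortedOK code n = true
  rmb_ok : regRmbOK gens code rmb n = true
  tree : regTreeOK rmb par pj lvl root n gens.length = true
  rm_ok : regRmOK rmb rm mi mj n m gens.length = true
  dec : regDecOK rm ja jb inv root n m = true

/-- the permutation with the code of the index `k` -/
noncomputable def regE (code : ℕ → ℕ) (k : ℕ) : Equiv.Perm GolayPt :=
  if h : ∃ σ : Equiv.Perm GolayPt, pcOf σ = code k then h.choose else 1

section

variable {gens : List (List ℕ)} {n : ℕ} {code : ℕ → ℕ} {root : ℕ} {rmb : ℕ → ℕ → ℕ}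
  {par pj lvl : ℕ → ℕ} {m : ℕ} {rm : ℕ → ℕ → ℕ} {mi mj ja jb inv : ℕ → ℕ}

theorem RegCert.gen_mem (C : RegCert gens n code root rmb par pj lvl m rm mi mj ja jb inv)
    {i : ℕ} (hi : i < gens.length) :
    permOK (gens.getD i []) = true ∧ tperm (gens.getD i []) ∈ tgGrp gens := by
  have hmem : gens.getD i [] ∈ gens := by
    rw [List.getD_eq_getElem _ _ hi]; exact List.getElem_mem hi
  exact ⟨List.all_eq_true.mp C.gens_ok _ hmem, Subgroup.subset_closure ⟨_, hmem, rfl⟩⟩

theorem RegCert.code_lt (C : RegCert gens n code root rmb par pj lvl m rm mi mj ja jb inv) :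
    ∀ b, b < n → ∀ a, a < b → code a < code b := by
  have hs : ∀ k, k < Nat.pred n → code k < code (k + 1) := fun k hk =>
    Nat.blt_eq.mp ((ixAllN_iff _ _).mp C.sorted k hk)
  intro b
  induction b with
  | zero => intro _ a ha; omega
  | succ b ih =>
    intro hb a ha
    have h1 : code b < code (b + 1) := hs b (by
      have : Nat.pred n = n - 1 := rfl
      omega)
    rcases Nat.lt_succ_iff_lt_or_eq.mp ha with h | h
    · exact lt_trans (ih (by omega) a h) h1
    · rw [h]; exact h1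

theorem RegCert.code_inj (C : RegCert gens n code root rmb par pj lvl m rm mi mj ja jb inv)
    {a b : ℕ} (ha : a < n) (hb : b < n) (h : code a = code b) : a = b := by
  rcases Nat.lt_trichotomy a b with h1 | h1 | h1
  · exact absurd h (Nat.ne_of_lt (C.code_lt b hb a h1))
  · exact h1
  · exact absurd h.symm (Nat.ne_of_lt (C.code_lt a ha b h1))

theorem RegCert.rmb_spec (C : RegCert gens n code root rmb par pj lvl m rm mi mj ja jb inv)
    {i x : ℕ} (hi : i < gens.length) (hx : x < n) :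
    rmb i x < n ∧ code (rmb i x) = pcMul (code x) (pcTab (gens.getD i [])) := by
  have h := (ixAllN_iff _ _).mp ((ixAllN_iff _ _).mp C.rmb_ok i hi) x hx
  rw [ixAnd_iff] at h
  exact ⟨Nat.blt_eq.mp h.1, Nat.eq_of_beq_eq_true h.2⟩

theorem RegCert.exists_perm (C : RegCert gens n code root rmb par pj lvl m rm mi mj ja jb inv) :
    ∀ L k, k < n → lvl k = L → ∃ σ ∈ tgGrp gens, pcOf σ = code k := by
  intro L
  induction L using Nat.strong_induction_on with
  | _ L ih =>
    intro k hk hL
    have h := (ixAllN_iff _ _).mp C.tree k hk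
    rw [ixOr_iff, ixAnd_iff, ixAnd_iff, ixAnd_iff] at h
    rcases h with h | ⟨h1, h2, h3, h4⟩
    · rw [Nat.eq_of_beq_eq_true h]
      exact ⟨1, Subgroup.one_mem _, by rw [pcOf_one, Nat.eq_of_beq_eq_true C.code_root]⟩
    · have h1' := Nat.blt_eq.mp h1
      have h2' := Nat.blt_eq.mp h2
      have h3' := Nat.blt_eq.mp h3
      have h4' := Nat.eq_of_beq_eq_true h4
      obtain ⟨σ, hσ, hσc⟩ := ih (lvl (par k)) (by rw [← hL]; exact h2') (par k) h1' rfl
      obtain ⟨hok, hmem⟩ := C.gen_mem h3'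
      refine ⟨σ * tperm (gens.getD (pj k) []), Subgroup.mul_mem _ hσ hmem, ?_⟩
      rw [pcOf_mul, hσc, pcOf_tperm hok, ← (C.rmb_spec h3' h1').2, h4']

theorem RegCert.e_spec (C : RegCert gens n code root rmb par pj lvl m rm mi mj ja jb inv)
    {k : ℕ} (hk : k < n) : pcOf (regE code k) = code k ∧ regE code k ∈ tgGrp gens := by
  obtain ⟨σ, hσ, hσc⟩ := C.exists_perm (lvl k) k hk rfl
  have hex : ∃ σ : Equiv.Perm GolayPt, pcOf σ = code k := ⟨σ, hσc⟩
  have h1 : pcOf (regE code k) = code k := by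
    unfold regE
    rw [dif_pos hex]
    exact hex.choose_spec
  refine ⟨h1, ?_⟩
  have h2 : regE code k = σ := pcOf_injective (by rw [h1, hσc])
  rw [h2]; exact hσ

theorem RegCert.e_root (C : RegCert gens n code root rmb par pj lvl m rm mi mj ja jb inv) :
    regE code root = 1 := by
  apply pcOf_injective
  rw [(C.e_spec (Nat.blt_eq.mp C.root_lt)).1, pcOf_one, Nat.eq_of_beq_eq_true C.code_root]

theorem RegCert.e_rmb (C : RegCert gens n code root rmb par pj lvl m rm mi mj ja jb inv)
    {i x : ℕ} (hi : i < gens.length) (hx : x < n) :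
    regE code (rmb i x) = regE code x * tperm (gens.getD i []) := by
  obtain ⟨h1, h2⟩ := C.rmb_spec hi hx
  apply pcOf_injective
  rw [(C.e_spec h1).1, pcOf_mul, (C.e_spec hx).1, pcOf_tperm (C.gen_mem hi).1, h2]

theorem RegCert.e_gen (C : RegCert gens n code root rmb par pj lvl m rm mi mj ja jb inv)
    {i : ℕ} (hi : i < gens.length) :
    rmb i root < n ∧ regE code (rmb i root) = tperm (gens.getD i []) := by
  have hr := Nat.blt_eq.mp C.root_lt
  refine ⟨(C.rmb_spec hi hr).1, ?_⟩
  rw [C.e_rmb hi hr, C.e_root, one_mul]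

theorem RegCert.e_rm (C : RegCert gens n code root rmb par pj lvl m rm mi mj ja jb inv) :
    ∀ j, j < m → ∀ x, x < n →
      rm j x < n ∧ regE code (rm j x) = regE code x * regE code (rm j root) := by
  have hr := Nat.blt_eq.mp C.root_lt
  have hrm := C.rm_ok
  unfold regRmOK at hrm
  rw [ixAnd_iff] at hrm
  obtain ⟨hrm0, hrm1⟩ := hrm
  have h0 : ∀ x, x < n → rm 0 x = x := fun x hx =>
    Nat.eq_of_beq_eq_true ((ixAllN_iff _ _).mp hrm0 x hx)
  intro j
  induction j using Nat.strong_induction_on with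
  | _ j ih =>
    intro hj x hx
    have h := (ixAllN_iff _ _).mp hrm1 j hj
    rw [ixOr_iff, ixAnd_iff, ixAnd_iff] at h
    rcases h with h | ⟨h1, h2, h3⟩
    · rw [Nat.eq_of_beq_eq_true h, h0 x hx, h0 root hr, C.e_root, mul_one]
      exact ⟨hx, rfl⟩
    · have h1' := Nat.blt_eq.mp h1
      have h2' := Nat.blt_eq.mp h2
      have h3' : ∀ y, y < n → rm j y = rmb (mi j) (rm (mj j) y) := fun y hy =>
        Nat.eq_of_beq_eq_true ((ixAllN_iff _ _).mp h3 y hy)
      have hjm : mj j < m := lt_trans h1' hj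
      obtain ⟨i1, i2⟩ := ih (mj j) h1' hjm x hx
      obtain ⟨r1, r2⟩ := ih (mj j) h1' hjm root hr
      rw [h3' x hx, h3' root hr]
      refine ⟨(C.rmb_spec h2' i1).1, ?_⟩
      rw [C.e_rmb h2' i1, C.e_rmb h2' r1, i2, r2, C.e_root, one_mul, mul_assoc]

theorem RegCert.dec_spec (C : RegCert gens n code root rmb par pj lvl m rm mi mj ja jb inv)
    {b : ℕ} (hb : b < n) : ja b < m ∧ jb b < m ∧ regMul rm ja jb root b = b ∧ inv b < n ∧
      regMul rm ja jb b (inv b) = root := by
  have h := (ixAllN_iff _ _).mp C.dec b hb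
  rw [ixAnd_iff, ixAnd_iff, ixAnd_iff, ixAnd_iff] at h
  exact ⟨Nat.blt_eq.mp h.1, Nat.blt_eq.mp h.2.1, Nat.eq_of_beq_eq_true h.2.2.1,
    Nat.blt_eq.mp h.2.2.2.1, Nat.eq_of_beq_eq_true h.2.2.2.2⟩

theorem RegCert.mul_spec (C : RegCert gens n code root rmb par pj lvl m rm mi mj ja jb inv)
    {a b : ℕ} (ha : a < n) (hb : b < n) : regMul rm ja jb a b < n ∧
      regE code (regMul rm ja jb a b) = regE code a * regE code b := by
  have hr := Nat.blt_eq.mp C.root_lt
  obtain ⟨d1, d2, d3, -, -⟩ := C.dec_spec hb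
  obtain ⟨a1, a2⟩ := C.e_rm (ja b) d1 a ha
  obtain ⟨a3, a4⟩ := C.e_rm (jb b) d2 _ a1
  obtain ⟨r1, -⟩ := C.e_rm (ja b) d1 root hr
  obtain ⟨-, r4⟩ := C.e_rm (jb b) d2 _ r1
  refine ⟨a3, ?_⟩
  have hb' : regE code b = regE code (rm (ja b) root) * regE code (rm (jb b) root) := by
    have : regE code (regMul rm ja jb root b) = regE code b := by rw [d3]
    rw [← this]
    exact r4
  show regE code (rm (jb b) (rm (ja b) a)) = _
  rw [a4, a2, hb', mul_assoc]

/-- the index model given by a certificate -/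
theorem RegCert.model (C : RegCert gens n code root rmb par pj lvl m rm mi mj ja jb inv) :
    IxModel (tgGrp gens) n (regE code) (regMul rm ja jb) inv root := by
  have hr := Nat.blt_eq.mp C.root_lt
  have hinv : ∀ a, a < n → inv a < n ∧ regE code (inv a) = (regE code a)⁻¹ := by
    intro a ha
    obtain ⟨-, -, -, d4, d5⟩ := C.dec_spec ha
    refine ⟨d4, ?_⟩
    have h1 := (C.mul_spec ha d4).2
    rw [d5, C.e_root] at h1
    exact eq_inv_of_mul_eq_one_right h1.symm
  refine ⟨fun a ha => (C.e_spec ha).2, ?_, ?_, fun a ha b hb => (C.mul_spec ha hb).1,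
    fun a ha b hb => (C.mul_spec ha hb).2, fun a ha => (hinv a ha).1, fun a ha => (hinv a ha).2,
    hr, C.e_root⟩
  · intro x hx
    refine Subgroup.closure_induction (p := fun x _ => ∃ a < n, regE code a = x) ?_ ?_ ?_ ?_ hx
    · rintro σ ⟨g, hg, rfl⟩
      obtain ⟨i, hi, rfl⟩ := List.getElem_of_mem hg
      obtain ⟨h1, h2⟩ := C.e_gen hi
      refine ⟨_, h1, ?_⟩
      rw [h2, List.getD_eq_getElem _ _ hi]
    · exact ⟨root, hr, C.e_root⟩
    · rintro x y _ _ ⟨a, ha, rfl⟩ ⟨b, hb, rfl⟩
      exact ⟨_, (C.mul_spec ha hb).1, (C.mul_spec ha hb).2⟩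
    · rintro x _ ⟨a, ha, rfl⟩
      exact ⟨_, (hinv a ha).1, (hinv a ha).2⟩
  · intro a ha b hb h
    apply C.code_inj ha hb
    rw [← (C.e_spec ha).1, ← (C.e_spec hb).1, h]

/-- a subgroup containing the generators contains the group -/
theorem RegCert.le_of_gens (C : RegCert gens n code root rmb par pj lvl m rm mi mj ja jb inv)
    (T : Subgroup (Equiv.Perm GolayPt))
    (h : ∀ q ∈ (List.range gens.length).map (fun i => rmb i root), regE code q ∈ T) :
    tgGrp gens ≤ T := by
  apply tgGrp_le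
  intro g hg
  obtain ⟨i, hi, rfl⟩ := List.getElem_of_mem hg
  have h1 := h (rmb i root) (List.mem_map.mpr ⟨i, List.mem_range.mpr hi, rfl⟩)
  rw [(C.e_gen hi).2, List.getD_eq_getElem _ _ hi] at h1
  exact h1

/-- the conjugate of the element `a` by the fusing table number `gi` is the element `b` -/
def regFus (code : ℕ → ℕ) (fg : List (List ℕ)) (n : ℕ) (a b gi : ℕ) : Bool :=
  ixAnd (Nat.blt b n) (ixAnd (Nat.blt gi fg.length)
    (Nat.beq (pcMul (pcTab (fg.getD gi [])) (code a)) (pcMul (code b) (pcTab (fg.getD gi [])))))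

theorem RegCert.fus_sound (C : RegCert gens n code root rmb par pj lvl m rm mi mj ja jb inv)
    (H : Subgroup (Equiv.Perm GolayPt)) (fg : List (List ℕ))
    (hfg : ∀ g ∈ fg, permOK g = true ∧ tperm g ∈ H) :
    ∀ a b gi, a < n → regFus code fg n a b gi = true →
      b < n ∧ ∃ γ ∈ H, γ * regE code a * γ⁻¹ = regE code b := by
  intro a b gi ha h
  unfold regFus at h
  rw [ixAnd_iff, ixAnd_iff] at h
  obtain ⟨h1, h2, h3⟩ := h
  have hb := Nat.blt_eq.mp h1
  have hgi := Nat.blt_eq.mp h2
  have h3' := Nat.eq_of_beq_eq_true h3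
  have hmem : fg.getD gi [] ∈ fg := by
    rw [List.getD_eq_getElem _ _ hgi]; exact List.getElem_mem hgi
  obtain ⟨hok, hH⟩ := hfg _ hmem
  refine ⟨hb, tperm (fg.getD gi []), hH, ?_⟩
  rw [mul_inv_eq_iff_eq_mul]
  apply pcOf_injective
  rw [pcOf_mul, pcOf_mul, pcOf_tperm hok, (C.e_spec ha).1, (C.e_spec hb).1, h3']

end

end Cfsg.Agent.Lib.Helper89
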