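import Mathlib
import Cfsg.Agent.Lib.Helper72.SCDefs

/-!
# SC-FFO (helper89): a nontrivial best offender inside an abelian group of exponent `p`
with `|V| ≤ |A| |C_V(A)|`, in `V ⋊ Aut V`.
-/

set_option autoImplicit false

namespace Cfsg.Agent.Lib.Helper89.SC

open Cfsg.Agent.Lib.Helper72.SC
open scoped commutatorElement

universe u

private theorem scffo_inr_mul_inl {V : Type u} [Group V] (b : MulAut V) (v : V) :
    (SemidirectProduct.inr b : Gam V) * SemidirectProduct.inl v =
      SemidirectProduct.inl (b v) * SemidirectProduct.inr b := by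
  ext <;> simp

private theorem scffo_comm_iff {V : Type u} [Group V] (b : MulAut V) (v : V) :
    (SemidirectProduct.inr b : Gam V) * SemidirectProduct.inl v =
      SemidirectProduct.inl v * SemidirectProduct.inr b ↔ b v = v := by
  rw [scffo_inr_mul_inl]
  constructor
  · intro h
    exact SemidirectProduct.inl_injective (mul_right_cancel h)
  · intro h
    rw [h]

private theorem scffo_card_fix {V : Type u} [Group V] (B : Subgroup (MulAut V)) :
    Nat.card ↥(Vs V ⊓ Subgroup.centralizer ((up B : Subgroup (Gam V)) : Set (Gam V))) =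
      Nat.card {v : V // ∀ b ∈ B, b v = v} := by
  symm
  have hmem : ∀ v : {v : V // ∀ b ∈ B, b v = v}, (SemidirectProduct.inl v.1 : Gam V) ∈
      Vs V ⊓ Subgroup.centralizer ((up B : Subgroup (Gam V)) : Set (Gam V)) := by
    intro v
    refine Subgroup.mem_inf.mpr ⟨⟨v.1, rfl⟩, ?_⟩
    rw [Subgroup.mem_centralizer_iff]
    rintro _ ⟨b, hb, rfl⟩
    exact (scffo_comm_iff b v.1).mpr (v.2 b hb)
  refine Nat.card_congr (Equiv.ofBijective
    (fun v : {v : V // ∀ b ∈ B, b v = v} =>
      (⟨SemidirectProduct.inl v.1, hmem v⟩ :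
        ↥(Vs V ⊓ Subgroup.centralizer ((up B : Subgroup (Gam V)) : Set (Gam V))))) ⟨?_, ?_⟩)
  · intro v w h
    apply Subtype.ext
    exact SemidirectProduct.inl_injective (congrArg Subtype.val h)
  · rintro ⟨g, hg0⟩
    obtain ⟨hVs, hg⟩ := Subgroup.mem_inf.mp hg0
    obtain ⟨v, rfl⟩ : ∃ v : V, (SemidirectProduct.inl v : Gam V) = g := hVs
    refine ⟨⟨v, fun b hb => ?_⟩, rfl⟩
    rw [Subgroup.mem_centralizer_iff] at hg
    exact (scffo_comm_iff b v).mp (hg _ ⟨b, hb, rfl⟩)

theorem ffo : FfoStmt.{u} := by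
  intro V _ _ p _ A _hV _hVp hA hAp hAne hcard
  classical
  set f : Subgroup (MulAut V) → ℕ :=
    fun B => Nat.card ↥B * Nat.card {v : V // ∀ b ∈ B, b v = v} with hf
  have : Nonempty {B : Subgroup (MulAut V) // B ≤ A} := ⟨⟨⊥, bot_le⟩⟩
  obtain ⟨⟨B0, hB0A⟩, hmax⟩ :=
    Finite.exists_max (fun B : {B : Subgroup (MulAut V) // B ≤ A} => f B.1)
  have hinj : Function.Injective (SemidirectProduct.inr : MulAut V →* Gam V) :=
    SemidirectProduct.inr_injective
  have hex : ∃ B : Subgroup (MulAut V), B ≤ A ∧ B ≠ ⊥ ∧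
      ∀ B' : Subgroup (MulAut V), B' ≤ A → f B' ≤ f B := by
    by_cases hB0 : B0 = ⊥
    · refine ⟨A, le_refl A, hAne, fun B' hB' => ?_⟩
      have h1 : f B' ≤ f B0 := hmax ⟨B', hB'⟩
      have h2 : f B0 = Nat.card V := by
        rw [hB0]
        show Nat.card ↥(⊥ : Subgroup (MulAut V)) *
          Nat.card {v : V // ∀ b ∈ (⊥ : Subgroup (MulAut V)), b v = v} = Nat.card V
        rw [Subgroup.card_bot, one_mul]
        refine Nat.card_congr (Equiv.subtypeUnivEquiv ?_)
        intro v b hb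
        rw [Subgroup.mem_bot] at hb
        rw [hb]
        rfl
      rw [h2] at h1
      exact h1.trans hcard
    · exact ⟨B0, hB0A, hB0, fun B' hB' => hmax ⟨B', hB'⟩⟩
  obtain ⟨B, hBA, hBne, hBmax⟩ := hex
  refine ⟨B, hBA, ⟨?_, ?_, ?_⟩, ?_⟩
  · intro C hC
    have hCeq : C = up (C.comap (SemidirectProduct.inr : MulAut V →* Gam V)) := by
      unfold up
      rw [Subgroup.map_comap_eq_self]
      intro g hg
      obtain ⟨b, _, rfl⟩ := hC hg
      exact ⟨b, rfl⟩
    have hB'B : C.comap (SemidirectProduct.inr : MulAut V →* Gam V) ≤ B := by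
      intro b hb
      have h1 : (SemidirectProduct.inr b : Gam V) ∈ up B := hC hb
      obtain ⟨b', hb', h⟩ := h1
      rw [← hinj h]
      exact hb'
    have c1 : Nat.card ↥(up (C.comap (SemidirectProduct.inr : MulAut V →* Gam V))) =
        Nat.card ↥(C.comap (SemidirectProduct.inr : MulAut V →* Gam V)) :=
      Subgroup.card_map_of_injective hinj
    have c2 : Nat.card ↥(up B) = Nat.card ↥B := Subgroup.card_map_of_injective hinj
    rw [hCeq, scffo_card_fix, scffo_card_fix, c1, c2]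
    exact hBmax _ (hB'B.trans hBA)
  · have h0 : ⁅up B, up B⁆ = ⊥ := by
      rw [Subgroup.commutator_eq_bot_iff_le_centralizer]
      rintro _ ⟨b, hb, rfl⟩
      rw [Subgroup.mem_centralizer_iff]
      rintro _ ⟨b', hb', rfl⟩
      rw [← map_mul, ← map_mul, hA b' (hBA hb') b (hBA hb)]
    rw [h0]
    exact bot_le
  · rintro _ ⟨b, hb, rfl⟩
    rw [← map_pow, hAp b (hBA hb), map_one]
    exact Subgroup.one_mem _
  · intro hbot
    apply hBne
    rw [Subgroup.eq_bot_iff_forall]
    intro b hb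
    ext v
    have h1 : ⁅(SemidirectProduct.inl v : Gam V), SemidirectProduct.inr b⁆ ∈ ⁅Vs V, up B⁆ :=
      Subgroup.commutator_mem_commutator ⟨v, rfl⟩ ⟨b, hb, rfl⟩
    rw [hbot, Subgroup.mem_bot, commutatorElement_eq_one_iff_mul_comm] at h1
    exact (scffo_comm_iff b v).mp h1.symm

end Cfsg.Agent.Lib.Helper89.SC
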