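import Cfsg.Agent.Lib.Helper89.WCtlMain
import Cfsg.Agent.Lib.Helper91.CentSys
import Cfsg.Agent.Lib.Helper58.CharP

/-!
# The centre of a fusion system and control of weak closure of elements

* `mem_center_iff`: in a saturated fusion system over a finite `p`-group `S`, the centre consists
  of the elements of `S` fixed by every map of the system whose source contains them.
* `mem_center_of_mem_normalizer_center`, `center_normalizer_eq`: the skeleton `wctl_fix` in terms
  of the centres of `F` and of the normalizer system of `W(S)`.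
* `locOK_of_center_cond`: the local hypothesis follows from the group-theoretic condition
  `O_p(G) ∩ Z(G) = O_p(G) ∩ Z(N_G(W(P)))`.
-/

set_option autoImplicit false
universe u

namespace Cfsg.Agent.Lib.Helper89.WCtl

open Cfsg Cfsg.FusionSystem Cfsg.Agent.Lib.Helper90 Cfsg.Agent.Lib.Helper91
  Cfsg.Agent.Lib.Helper88

section center

variable {Ω : Type u} [Group Ω] {S : Subgroup Ω} {F : FusionSystem S}

/-- The elements `x` of `S` such that every map of the system extends to a map fixing `x`. -/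
def cextSub (F : FusionSystem S) : Subgroup Ω where
  carrier := {x | x ∈ S ∧ ∀ (P : Subgroup Ω) (f : Ω → Ω), Mor F P f →
    ∃ f', Mor F (P ⊔ Subgroup.zpowers x) f' ∧ (∀ y ∈ P, f' y = f y) ∧ f' x = x}
  mul_mem' := by
    rintro a b ⟨haS, ha⟩ ⟨hbS, hb⟩
    refine ⟨S.mul_mem haS hbS, fun P f hf => ?_⟩
    obtain ⟨f₁, hf₁, hf₁P, hf₁a⟩ := ha P f hf
    obtain ⟨f₂, hf₂, hf₂P, hf₂b⟩ := hb _ f₁ hf₁
    have ha1 : a ∈ P ⊔ Subgroup.zpowers a := Subgroup.mem_sup_right (Subgroup.mem_zpowers a)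
    have ha2 : a ∈ (P ⊔ Subgroup.zpowers a) ⊔ Subgroup.zpowers b := Subgroup.mem_sup_left ha1
    have hb2 : b ∈ (P ⊔ Subgroup.zpowers a) ⊔ Subgroup.zpowers b :=
      Subgroup.mem_sup_right (Subgroup.mem_zpowers b)
    have hle : P ⊔ Subgroup.zpowers (a * b) ≤
        (P ⊔ Subgroup.zpowers a) ⊔ Subgroup.zpowers b :=
      sup_le (le_sup_left.trans le_sup_left)
        ((Subgroup.zpowers_le).2 (Subgroup.mul_mem _ ha2 hb2))
    refine ⟨f₂, hf₂.restrict hle, fun y hy => ?_, ?_⟩
    · rw [hf₂P y (Subgroup.mem_sup_left hy), hf₁P y hy]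
    · rw [hf₂.map_mul ha2 hb2, hf₂P a ha1, hf₁a, hf₂b]
  one_mem' := by
    refine ⟨S.one_mem, fun P f hf => ⟨f, ?_, fun y _ => rfl, hf.map_one⟩⟩
    rw [Subgroup.zpowers_one_eq_bot, sup_bot_eq]
    exact hf
  inv_mem' := by
    rintro a ⟨haS, ha⟩
    refine ⟨S.inv_mem haS, fun P f hf => ?_⟩
    obtain ⟨f₁, hf₁, hf₁P, hf₁a⟩ := ha P f hf
    refine ⟨f₁, ?_, hf₁P, ?_⟩
    · rw [Subgroup.zpowers_inv]
      exact hf₁
    · rw [hf₁.map_inv (Subgroup.mem_sup_right (Subgroup.mem_zpowers a)), hf₁a]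

theorem center_le_cextSub (F : FusionSystem S) : F.center ≤ cextSub F := by
  apply sSup_le
  intro Q hQ x hx
  refine ⟨hQ.1 hx, fun P f hf => ?_⟩
  obtain ⟨φ, hφ, hφf⟩ := hf
  obtain ⟨ψ, hψ, hψP, hψQ⟩ := hQ.2 P φ hφ
  have hle : P ⊔ Subgroup.zpowers x ≤ P ⊔ Q :=
    sup_le_sup_left ((Subgroup.zpowers_le).2 hx) P
  refine ⟨extFun (P ⊔ Q) ψ, (mor_of_hom hψ).restrict hle, fun y hy => ?_, ?_⟩
  · rw [extFun_apply' _ _ (Subgroup.mem_sup_left hy), ← hφf ⟨y, hy⟩]
    exact hψP ⟨y, hy⟩
  · rw [extFun_apply' _ _ (Subgroup.mem_sup_right hx)]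
    exact hψQ ⟨x, hx⟩

theorem center_le_top (F : FusionSystem S) : F.center ≤ S :=
  fun _ hx => (center_le_cextSub F hx).1

theorem fixAll_of_mem_center {x : Ω} (hx : x ∈ F.center) : FixAll F x := by
  intro P f hf hxP
  obtain ⟨f', _, hf'P, hf'x⟩ := (center_le_cextSub F hx).2 P f hf
  rw [← hf'P x hxP]
  exact hf'x

theorem mor_map_zpow {P : Subgroup Ω} {f : Ω → Ω} (hf : Mor F P f) {x : Ω} (hx : x ∈ P)
    (k : ℤ) : f (x ^ k) = f x ^ k := by
  obtain ⟨φ, _, hφf⟩ := hf
  have h1 := map_zpow φ ⟨x, hx⟩ k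
  rw [hφf, hφf] at h1
  exact h1

theorem isCentral_zpowers_of_fixAll [Finite S] {p : ℕ} [Fact p.Prime] (hS : IsPGroup p S)
    (hF : F.IsSaturated p) {x : Ω} (hxS : x ∈ S) (hfix : FixAll F x) :
    F.IsCentral (Subgroup.zpowers x) := by
  have hZS : Subgroup.zpowers x ≤ S := (Subgroup.zpowers_le).2 hxS
  have hxZ : x ∈ Subgroup.centralizer (S : Set Ω) := by
    rw [Subgroup.mem_centralizer_iff]
    intro s hs
    have h1 : s * x * s⁻¹ = x := hfix S _ (mor_conj F le_rfl hs) hxS
    calc s * x = s * x * s⁻¹ * s := by group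
      _ = x * s := by rw [h1]
  have key : ∀ (P : Subgroup Ω) (f : Ω → Ω), Mor F P f →
      CExt F (Subgroup.zpowers x) P f := by
    refine alperin_induction_card hS hF (fun P f => CExt F (Subgroup.zpowers x) P f)
      ?_ ?_ ?_ ?_ ?_
    · intro P f g h hfg
      exact cext_congr h hfg
    · intro P P₀ f _ h h0
      obtain ⟨f', hf', hP, hZ⟩ := h
      exact ⟨f', hf'.restrict (sup_le_sup_right h0 _), fun y hy => hP y (h0 hy), hZ⟩
    · intro P Q f g _ _ hPQ hf hg
      exact cext_comp hPQ hf hg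
    · intro P f hf h
      exact cext_inv hf h
    · intro P hfa hrec IHA f hf hfP
      have hPS : P ≤ S := hfa.1
      have : Finite P := finite_of_le hPS
      by_cases hxP : x ∈ P
      · have hZP : Subgroup.zpowers x ≤ P := (Subgroup.zpowers_le).2 hxP
        refine ⟨f, ?_, fun y _ => rfl, fun y hy => ?_⟩
        · rw [sup_eq_left.2 hZP]
          exact hf
        · obtain ⟨k, rfl⟩ := Subgroup.mem_zpowers_iff.1 hy
          rw [mor_map_zpow hf hxP, hfix P f hf hxP]
      · have himg : img P f = P := hf.img_eq_self hfP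
        obtain ⟨f', hf', hf'eq⟩ := receptive_extend' hrec hf himg
        have hxE : x ∈ extFn S P f :=
          hf.centralizerIn_le_extFn ⟨hxS, Subgroup.centralizer_le (fun _ hy => hPS hy) hxZ⟩
        have hlt : P < extFn S P f :=
          lt_of_le_of_ne hf.le_extFn (fun h => hxP (by rw [h]; exact hxE))
        have : Finite (extFn S P f) := finite_of_le hf'.le
        obtain ⟨f'', hf'', hE, hZ⟩ := IHA _ f' (card_lt_of_lt hlt) hf'
        exact ⟨f'', hf''.restrict (sup_le_sup_right hf.le_extFn _),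
          fun y hy => (hE y (hf.le_extFn hy)).trans (hf'eq y hy), hZ⟩
  refine ⟨hZS, fun P φ hφ => ?_⟩
  obtain ⟨f', ⟨ψ, hψ, hψf⟩, hf'P, hf'Z⟩ := key P _ (mor_of_hom hφ)
  refine ⟨ψ, hψ, fun y => ?_, fun y => ?_⟩
  · rw [hψf]
    show f' (y : Ω) = φ y
    rw [hf'P y y.2, extFun_apply]
  · rw [hψf]
    exact hf'Z y y.2

theorem mem_center_of_fixAll [Finite S] {p : ℕ} [Fact p.Prime] (hS : IsPGroup p S)
    (hF : F.IsSaturated p) {x : Ω} (hxS : x ∈ S) (hfix : FixAll F x) : x ∈ F.center :=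
  (le_sSup (isCentral_zpowers_of_fixAll hS hF hxS hfix) : Subgroup.zpowers x ≤ F.center)
    (Subgroup.mem_zpowers x)

/-- The centre of a saturated fusion system: the elements fixed by all maps. -/
theorem mem_center_iff [Finite S] {p : ℕ} [Fact p.Prime] (hS : IsPGroup p S)
    (hF : F.IsSaturated p) {x : Ω} : x ∈ F.center ↔ x ∈ S ∧ FixAll F x :=
  ⟨fun h => ⟨center_le_top F h, fixAll_of_mem_center h⟩,
    fun h => mem_center_of_fixAll hS hF h.1 h.2⟩

end center

section control

variable {W : ∀ (Q : Type u) [Group Q], Subgroup Q} {p : ℕ}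
  {Ω : Type u} [Group Ω] {S : Subgroup Ω}

theorem normalizerIn_wOf_eq [Finite S] (hW2 : FunctorIso p W) (hS : IsPGroup p S) :
    normalizerIn S (wOf W S) = S :=
  inf_eq_left.2 (fun _ hs =>
    (normalizerIn_le_wOf W hW2 hS le_rfl ⟨hs, Subgroup.le_normalizer hs⟩).2)

/-- An element of the centre of `N_F(W(S))` satisfying the local hypothesis is in the centre
of `F`. -/
theorem mem_center_of_mem_normalizer_center [Fact p.Prime] (hW2 : FunctorIso p W)
    (hWZ : FunctorZ p W) [Finite S] (hS : IsPGroup p S) (F : FusionSystem S)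
    (hF : F.IsSaturated p) (N : FusionSystem (normalizerIn S (wOf W S)))
    (hN : F.IsNormalizerSystem (wOf W S) N) {x : Ω} (hx : x ∈ N.center)
    (hloc : LocOK p W S x) : x ∈ F.center := by
  have hVS : wOf W S ≤ S := wOf_le W S
  have hNS : normalizerIn S (wOf W S) = S := normalizerIn_wOf_eq hW2 hS
  have hfixN : FixAll N x := fixAll_of_mem_center hx
  have hxN : x ∈ normalizerIn S (wOf W S) := center_le_top N hx
  have hxS : x ∈ S := hxN.1
  have hxZ : x ∈ centralizerIn S S := by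
    refine ⟨hxS, ?_⟩
    show x ∈ Subgroup.centralizer (S : Set Ω)
    rw [Subgroup.mem_centralizer_iff]
    intro s hs
    have hsN : s ∈ normalizerIn S (wOf W S) := by rw [hNS]; exact hs
    have h1 : s * x * s⁻¹ = x := hfixN _ _ (mor_conj N le_rfl hsN) hxN
    calc s * x = s * x * s⁻¹ * s := by group
      _ = x * s := by rw [h1]
  have hA : AutW W F S x := by
    intro ψ hψ hψV
    have hψN : Mor N (wOf W S) ψ :=
      (isNormalizerSystem_mor_iff hVS hN).2
        ⟨hψ, le_normalizerIn hVS, fun y hy => le_normalizerIn hVS (hψV y hy),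
          extQ_of_le le_rfl hψ hψV⟩
    exact hfixN _ _ hψN (wOf_center W hWZ hS hxS hxZ.2)
  exact mem_center_of_fixAll hS hF hxS
    (wctl_fix hW2 hWZ x (Nat.card S) S F rfl hS hF hxZ hloc hA)

/-- The centre of `F` is contained in the centre of `N_F(W(S))`. -/
theorem center_le_normalizer_center [Fact p.Prime] (hW2 : FunctorIso p W)
    [Finite S] (hS : IsPGroup p S) (F : FusionSystem S)
    (hF : F.IsSaturated p) (N : FusionSystem (normalizerIn S (wOf W S)))
    (hN : F.IsNormalizerSystem (wOf W S) N) : F.center ≤ N.center := by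
  intro x hx
  have hVS : wOf W S ≤ S := wOf_le W S
  have hNS : normalizerIn S (wOf W S) = S := normalizerIn_wOf_eq hW2 hS
  have hVn : S ≤ Subgroup.normalizer ((wOf W S : Subgroup Ω) : Set Ω) := fun s hs => by
    have h : s ∈ normalizerIn S (wOf W S) := by rw [hNS]; exact hs
    exact h.2
  have hfn : F.IsFullyNormalized (wOf W S) := fullyNormalized_of_normal hVS hVn
  have hNsat : N.IsSaturated p := Cfsg.Agent.S5098.result p hS F hF (wOf W S) hfn N hN
  have : Finite (normalizerIn S (wOf W S)) := finite_of_le inf_le_left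
  have hNp : IsPGroup p (normalizerIn S (wOf W S)) := hS.to_le inf_le_left
  have hfix : FixAll F x := fixAll_of_mem_center hx
  have hxS : x ∈ S := center_le_top F hx
  have hxN : x ∈ normalizerIn S (wOf W S) := by rw [hNS]; exact hxS
  exact mem_center_of_fixAll hNp hNsat hxN
    (fun P f hf hxP => hfix P f (mor_of_normalizerSys hVS hN hf) hxP)

/-- Control of weak closure of elements: if the local hypothesis holds for every element of
`Z(S)`, then `Z(N_F(W(S))) = Z(F)`. -/
theorem center_normalizer_eq [Fact p.Prime] (hW2 : FunctorIso p W)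
    (hWZ : FunctorZ p W) [Finite S] (hS : IsPGroup p S) (F : FusionSystem S)
    (hF : F.IsSaturated p) (hloc : ∀ x ∈ centralizerIn S S, LocOK p W S x)
    (N : FusionSystem (normalizerIn S (wOf W S)))
    (hN : F.IsNormalizerSystem (wOf W S) N) : N.center = F.center := by
  apply le_antisymm
  · intro x hx
    have hNS : normalizerIn S (wOf W S) = S := normalizerIn_wOf_eq hW2 hS
    have hfixN : FixAll N x := fixAll_of_mem_center hx
    have hxN : x ∈ normalizerIn S (wOf W S) := center_le_top N hx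
    have hxZ : x ∈ centralizerIn S S := by
      refine ⟨hxN.1, ?_⟩
      show x ∈ Subgroup.centralizer (S : Set Ω)
      rw [Subgroup.mem_centralizer_iff]
      intro s hs
      have hsN : s ∈ normalizerIn S (wOf W S) := by rw [hNS]; exact hs
      have h1 : s * x * s⁻¹ = x := hfixN _ _ (mor_conj N le_rfl hsN) hxN
      calc s * x = s * x * s⁻¹ * s := by group
        _ = x * s := by rw [h1]
    exact mem_center_of_mem_normalizer_center hW2 hWZ hS F hF N hN hx (hloc x hxZ)
  · exact center_le_normalizer_center hW2 hS F hF N hN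

/-- The local hypothesis from the group-theoretic condition
`O_p(G) ∩ Z(G) = O_p(G) ∩ Z(N_G(W(P)))`. -/
theorem locOK_of_center_cond [Fact p.Prime] (hWZ : FunctorZ p W)
    (hC : ∀ (G : Type u) [Group G] [Finite G] (P : Sylow p G),
      Cfsg.pCore p G ⊓ Subgroup.center G = Cfsg.pCore p G ⊓
        (Subgroup.center ↥(Subgroup.normalizer
          (((W ↥(P : Subgroup G)).map (P : Subgroup G).subtype : Subgroup G) : Set G))).map
          (Subgroup.normalizer
            (((W ↥(P : Subgroup G)).map (P : Subgroup G).subtype : Subgroup G) : Set G)).subtype)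
    {x : Ω} (hxZ : x ∈ centralizerIn S S) : LocOK p W S x := by
  intro R hRS _ hxR L _ _ ι _ T hT hcore hN g
  have hzT : ι ⟨x, hxR⟩ ∈ (T : Subgroup L) := by
    rw [hT]
    exact ⟨_, rfl⟩
  have hzc : ι ⟨x, hxR⟩ ∈ Subgroup.centralizer ((T : Subgroup L) : Set L) := by
    rw [Subgroup.mem_centralizer_iff]
    intro t ht
    have ht' : t ∈ ι.range := hT ▸ ht
    obtain ⟨r, rfl⟩ := ht'
    rw [← map_mul, ← map_mul]
    congr 1
    exact Subtype.ext (Subgroup.mem_centralizer_iff.1 hxZ.2 r (hRS r.2))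
  have hzO : ι ⟨x, hxR⟩ ∈ pCore p L :=
    hcore (Subgroup.centralizer_le (Cfsg.Agent.Lib.Helper58.pCore_le_sylow T) hzc)
  have hzW : ι ⟨x, hxR⟩ ∈ wOf W (T : Subgroup L) := wOf_center W hWZ T.isPGroup' hzT hzc
  have hzN : ι ⟨x, hxR⟩ ∈
      Subgroup.normalizer ((wOf W (T : Subgroup L) : Subgroup L) : Set L) :=
    Subgroup.le_normalizer hzW
  have hzR : ι ⟨x, hxR⟩ ∈ Cfsg.pCore p L ⊓
      (Subgroup.center ↥(Subgroup.normalizer
        ((wOf W (T : Subgroup L) : Subgroup L) : Set L))).map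
        (Subgroup.normalizer ((wOf W (T : Subgroup L) : Subgroup L) : Set L)).subtype := by
    refine ⟨hzO, ⟨⟨ι ⟨x, hxR⟩, hzN⟩, ?_, rfl⟩⟩
    show (⟨ι ⟨x, hxR⟩, hzN⟩ : ↥(Subgroup.normalizer
        ((wOf W (T : Subgroup L) : Subgroup L) : Set L))) ∈ Subgroup.center _
    rw [Subgroup.mem_center_iff]
    intro n
    apply Subtype.ext
    have h1 := hN n.1 n.2
    show (n : L) * ι ⟨x, hxR⟩ = ι ⟨x, hxR⟩ * (n : L)
    calc (n : L) * ι ⟨x, hxR⟩ = (n : L) * ι ⟨x, hxR⟩ * (n : L)⁻¹ * (n : L) := by group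
      _ = ι ⟨x, hxR⟩ * (n : L) := by rw [h1]
  have hzL : ι ⟨x, hxR⟩ ∈ Cfsg.pCore p L ⊓ Subgroup.center L := by
    rw [hC L T]
    exact hzR
  have h2 := Subgroup.mem_center_iff.1 hzL.2 g
  rw [h2, mul_inv_cancel_right]

end control

end Cfsg.Agent.Lib.Helper89.WCtl
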