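import Cfsg.Agent.Lib.Helper89.WCtlLocal
import Cfsg.Agent.Lib.Helper90.AlpCard
import Cfsg.Agent.Lib.Helper91.KLQuot

/-!
# Control of weak closure of elements: the induction

`wctl_fix`: let `W` be a characteristic functor on finite `p`-groups containing the centre, `F` a
saturated fusion system over `S`, and `x ∈ Z(S)` an element satisfying the local hypothesis
`LocOK`.  If every `F`-automorphism of `W(S)` fixes `x`, then every map of `F` fixes `x`.
-/

set_option autoImplicit false
universe u

namespace Cfsg.Agent.Lib.Helper89.WCtl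

open Cfsg Cfsg.FusionSystem Cfsg.Agent.Lib.Helper90 Cfsg.Agent.Lib.Helper91
  Cfsg.Agent.Lib.Helper88

variable {W : ∀ (Q : Type u) [Group Q], Subgroup Q} {p : ℕ}
  {Ω : Type u} [Group Ω]

/-- Automorphisms of a normal centric subgroup `U` of `S` fix `x`. -/
theorem aut_fix_of_normal_centric {S : Subgroup Ω} {F : FusionSystem S} [Finite S]
    [Fact p.Prime] (hW2 : FunctorIso p W) (hWZ : FunctorZ p W)
    (hS : IsPGroup p S) (hF : F.IsSaturated p) {x : Ω} (hxZ : x ∈ centralizerIn S S)
    (hloc : LocOK p W S x) (hA : AutW W F S x) {U : Subgroup Ω} (hUS : U ≤ S)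
    (hUn : S ≤ Subgroup.normalizer (U : Set Ω)) (hUc : centralizerIn S U ≤ U) :
    ∀ χ : Ω → Ω, Mor F U χ → (∀ y ∈ U, χ y ∈ U) → χ x = x := by
  obtain ⟨U', hconj, hfa, hrec⟩ := hF U hUS
  obtain ⟨c, hc, hcimg⟩ := isConj_iff.1 hconj
  obtain ⟨θ, hθ, rfl⟩ := exists_normalizer_map hS hfa hrec hc hcimg
  have hNU : normalizerIn S U = S := inf_eq_left.2 hUn
  rw [hNU] at hθ
  have hθS : ∀ y ∈ S, θ y ∈ S := fun y hy => hθ.mem hy
  have hsurj := hθ.surj_of_finite hθS
  have hxS : x ∈ S := hxZ.1
  have hθx : θ x = x :=
    hA θ (hθ.restrict (wOf_le W S)) (wOf_mor_self W hW2 hS hθ hθS)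
  have hxU : x ∈ U := hUc ⟨hxS, mem_centralizer_of_le hUS hxZ⟩
  have hU'S : img U θ ≤ S := hfa.1
  have hθU : Mor F U θ := hθ.restrict hUS
  have hU'c : centralizerIn S (img U θ) ≤ img U θ := by
    intro c' hc'
    obtain ⟨d, hd, rfl⟩ := hsurj c' hc'.1
    have hdU : d ∈ U := by
      apply hUc
      refine ⟨hd, ?_⟩
      show d ∈ Subgroup.centralizer (U : Set Ω)
      rw [Subgroup.mem_centralizer_iff]
      intro u hu
      apply hθ.inj (S.mul_mem (hUS hu) hd) (S.mul_mem hd (hUS hu))
      rw [hθ.map_mul (hUS hu) hd, hθ.map_mul hd (hUS hu)]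
      exact Subgroup.mem_centralizer_iff.1 hc'.2 (θ u) (hθU.mem_img_of_mem hu)
    exact hθU.mem_img_of_mem hdU
  have hNU' : normalizerIn S (img U θ) = S := by
    apply inf_eq_left.2
    intro a ha
    have : Finite (img U θ) := finite_of_le hU'S
    apply mem_normalizer_of_finite
    intro y hy
    obtain ⟨b, hb, rfl⟩ := hsurj a ha
    obtain ⟨u, hu, rfl⟩ := hθU.mem_img.1 hy
    have h1 : θ b * θ u * (θ b)⁻¹ = θ (b * u * b⁻¹) := by
      rw [hθ.map_mul (S.mul_mem hb (hUS hu)) (S.inv_mem hb), hθ.map_mul hb (hUS hu),
        hθ.map_inv hb]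
    rw [h1]
    exact hθU.mem_img_of_mem (conj_mem_of_mem_normalizer (hUn hb) hu)
  have hK : AutW W F (normalizerIn S (img U θ)) x := by
    rw [hNU']
    exact hA
  exact fix_of_conj hθ hUS hxU hθx
    (aut_fix_of_local hW2 hWZ hS hF hfa hrec hU'c hxZ hloc hK)

/-- The skeleton theorem. -/
theorem wctl_fix [Fact p.Prime] (hW2 : FunctorIso p W) (hWZ : FunctorZ p W) (x : Ω) :
    ∀ (n : ℕ) (S : Subgroup Ω) [Finite S] (F : FusionSystem S), Nat.card S = n →
      IsPGroup p S → F.IsSaturated p → x ∈ centralizerIn S S → LocOK p W S x →
      AutW W F S x → FixAll F x := by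
  intro n
  induction n using Nat.strong_induction_on with
  | _ n IH =>
  intro S _ F hn hS hF hxZ hloc hA
  have hxS : x ∈ S := hxZ.1
  have hgood : ∀ (P : Subgroup Ω) (f : Ω → Ω), Mor F P f → ∀ y ∈ P, (f y = x ↔ y = x) := by
    refine alperin_induction_card hS hF (fun P f => ∀ y ∈ P, (f y = x ↔ y = x))
      ?_ ?_ ?_ ?_ ?_
    · intro P f g h hfg y hy
      rw [← hfg y hy]
      exact h y hy
    · intro P P₀ f _ h h0 y hy
      exact h y (h0 hy)
    · intro P Q f g _ _ hPQ hf hg y hy
      show g (f y) = x ↔ y = x
      rw [hg _ (hPQ y hy), hf y hy]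
    · intro P f hf h z hz
      obtain ⟨y, hy, rfl⟩ := hf.mem_img.1 hz
      rw [hf.invFn_apply hy]
      exact (h y hy).symm
    · intro P hfa hrec IHA f hf hfP
      have hPS : P ≤ S := hfa.1
      have : Finite P := finite_of_le hPS
      by_cases hxP : x ∈ P
      swap
      · intro y hy
        constructor
        · intro h
          exact absurd (h ▸ hfP y hy) hxP
        · intro h
          exact absurd (h ▸ hy) hxP
      suffices hfx : f x = x by
        intro y hy
        constructor
        · intro h
          exact hf.inj hy hxP (h.trans hfx.symm)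
        · intro h
          rw [h]
          exact hfx
      by_cases hc : centralizerIn S P ≤ P
      swap
      · -- `P` is not centric: extend `f`
        have himg : img P f = P := hf.img_eq_self hfP
        obtain ⟨f', hf', hf'eq⟩ := receptive_extend' hrec hf himg
        have hlt : P < extFn S P f := by
          refine lt_of_le_of_ne hf.le_extFn (fun h => hc ?_)
          have h1 : centralizerIn S P ≤ extFn S P f := hf.centralizerIn_le_extFn
          rwa [← h] at h1
        have : Finite (extFn S P f) := finite_of_le hf'.le
        have hg : ∀ y ∈ extFn S P f, (f' y = x ↔ y = x) :=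
          IHA _ f' (card_lt_of_lt hlt) hf'
        rw [← hf'eq x hxP]
        exact (hg x (hf.le_extFn hxP)).2 rfl
      -- `P` is centric: the local step, for which we need `K(N_S(P))`
      have hKall : ∀ (m : ℕ) (T : Subgroup Ω), T ≤ S → x ∈ T →
          (Nat.card P < Nat.card T ∨ T = S) → Nat.card S - Nat.card T = m → AutW W F T x := by
        intro m
        induction m using Nat.strong_induction_on with
        | _ m IHK =>
        intro T hTS hxT hT hm
        by_cases hTeq : T = S
        · rw [hTeq]
          exact hA
        have hTlt : T < S := lt_of_le_of_ne hTS hTeq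
        have hPT : Nat.card P < Nat.card T := hT.resolve_right hTeq
        have : Finite T := finite_of_le hTS
        have hTp : IsPGroup p T := hS.to_le hTS
        have hVT : wOf W T ≤ T := wOf_le W T
        have hVS : wOf W T ≤ S := hVT.trans hTS
        have hNT : T < normalizerIn S T := lt_normalizerIn hS hTlt
        have hNV : normalizerIn S T ≤ normalizerIn S (wOf W T) :=
          normalizerIn_le_wOf W hW2 hS hTS
        have hNVS : normalizerIn S (wOf W T) ≤ S := inf_le_left
        have : Finite (normalizerIn S (wOf W T)) := finite_of_le hNVS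
        have : Finite (normalizerIn S T) := finite_of_le inf_le_left
        have hc1 : Nat.card T < Nat.card (normalizerIn S T) := card_lt_of_lt hNT
        have hc2 : Nat.card (normalizerIn S T) ≤ Nat.card (normalizerIn S (wOf W T)) :=
          Subgroup.card_le_of_le hNV
        obtain ⟨V', hconj, hfaV, hrecV⟩ := hF (wOf W T) hVS
        obtain ⟨c, hc', hcimg⟩ := isConj_iff.1 hconj
        obtain ⟨θ, hθ, hθimg⟩ := exists_normalizer_map hS hfaV hrecV hc' hcimg
        have hθgood : ∀ y ∈ normalizerIn S (wOf W T), (θ y = x ↔ y = x) :=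
          IHA _ θ (by omega) hθ
        have hxN : x ∈ normalizerIn S (wOf W T) := hNV (hNT.le hxT)
        have hθx : θ x = x := (hθgood x hxN).2 rfl
        have hxV : x ∈ wOf W T :=
          wOf_center W hWZ hTp hxT (mem_centralizer_of_le hTS hxZ)
        have hVN : wOf W T ≤ normalizerIn S (wOf W T) := le_normalizerIn hVS
        refine fix_of_conj hθ hVN hxV hθx ?_
        rw [hθimg]
        intro ψ' hψ' hψ'V
        have hV'S : V' ≤ S := hfaV.1
        have hxV' : x ∈ V' := by
          have h1 := (hθ.restrict hVN).mem_img_of_mem hxV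
          rwa [hθimg, hθx] at h1
        have hcS' : Nat.card (normalizerIn S (wOf W T)) ≤ Nat.card (normalizerIn S V') := by
          refine card_le_of_mor_into hθ inf_le_left (fun a ha => ?_)
          have := hθ.map_normalizerIn hVN ha ha.2
          rwa [hθimg] at this
        have : Finite V' := finite_of_le hV'S
        by_cases hS' : normalizerIn S V' = S
        · -- `V'` is normal in `S`
          have hV'n : S ≤ Subgroup.normalizer (V' : Set Ω) := by
            intro s hs
            have h : s ∈ normalizerIn S V' := by rw [hS']; exact hs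
            exact h.2
          have himg' : img V' ψ' = V' := hψ'.img_eq_self hψ'V
          obtain ⟨ψ₂, hψ₂, hψ₂eq⟩ := receptive_extend' hrecV hψ' himg'
          have hUle : V' ⊔ centralizerIn S V' ≤ extFn S V' ψ' :=
            sup_le hψ'.le_extFn hψ'.centralizerIn_le_extFn
          have hψ₂U : Mor F (V' ⊔ centralizerIn S V') ψ₂ := hψ₂.restrict hUle
          have himg₂ : img V' ψ₂ = V' := by
            rw [img_congr hψ₂eq]
            exact himg'
          have hUU : ∀ z ∈ V' ⊔ centralizerIn S V', ψ₂ z ∈ V' ⊔ centralizerIn S V' := by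
            refine hψ₂U.map_sup_le (fun y hy => by rw [hψ₂eq y hy]; exact hψ'V y hy)
              (fun c hc => ?_)
            have := map_centralizerIn hψ₂U (le_sup_left : V' ≤ V' ⊔ centralizerIn S V')
              (le_sup_right (a := V') hc) hc.2
            rwa [himg₂] at this
          have hUS : V' ⊔ centralizerIn S V' ≤ S := hψ₂U.le
          have hUn := normalizer_sup_centralizer hV'S hV'n
          have hUc : centralizerIn S (V' ⊔ centralizerIn S V') ≤ V' ⊔ centralizerIn S V' := by
            intro z hz
            exact Subgroup.mem_sup_right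
              ⟨hz.1, Subgroup.centralizer_le (fun y hy => Subgroup.mem_sup_left hy) hz.2⟩
          have h1 := aut_fix_of_normal_centric hW2 hWZ hS hF hxZ hloc hA hUS hUn hUc
            ψ₂ hψ₂U hUU
          rw [← hψ₂eq x hxV']
          exact h1
        · -- `N_S(V') < S`: induction on `|S|`
          have hS'lt : normalizerIn S V' < S := lt_of_le_of_ne inf_le_left hS'
          have : Finite (normalizerIn S V') := finite_of_le inf_le_left
          have hS'p : IsPGroup p (normalizerIn S V') := hS.to_le inf_le_left
          have hfnV : F.IsFullyNormalized V' := fullyNormalized_of_fa_rec hS hfaV hrecV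
          have hE : F.IsNormalizerSystem V' (normalizerSys F V' hV'S) :=
            normalizerSys_isNormalizerSystem hV'S
          have hEsat := Cfsg.Agent.S5098.result p hS F hF V' hfnV _ hE
          have hxS' : x ∈ normalizerIn S V' := le_normalizerIn hV'S hxV'
          have hxZ' : x ∈ centralizerIn (normalizerIn S V') (normalizerIn S V') :=
            ⟨hxS', mem_centralizer_of_le inf_le_left hxZ⟩
          have hZZ : centralizerIn S S ≤
              centralizerIn (normalizerIn S V') (normalizerIn S V') := by
            intro z hz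
            refine ⟨⟨hz.1, ?_⟩, mem_centralizer_of_le inf_le_left hz⟩
            apply mem_normalizer_of_finite
            intro v hv
            have h1 := Subgroup.mem_centralizer_iff.1 hz.2 v (hV'S hv)
            rw [← h1, mul_inv_cancel_right]
            exact hv
          have hloc' : LocOK p W (normalizerIn S V') x := locOK_mono inf_le_left hZZ hloc
          have hcardS' : Nat.card (normalizerIn S V') < Nat.card S := card_lt_of_lt hS'lt
          have hA' : AutW W (normalizerSys F V' hV'S) (normalizerIn S V') x := by
            intro ψ hψ hψW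
            exact IHK (Nat.card S - Nat.card (normalizerIn S V')) (by omega)
              (normalizerIn S V') inf_le_left hxS' (Or.inl (by omega)) rfl ψ
              (mor_of_normalizerSys hV'S hE hψ) hψW
          have hfix := IH (Nat.card (normalizerIn S V')) (by rw [← hn]; exact hcardS')
            (normalizerIn S V') (normalizerSys F V' hV'S) rfl hS'p hEsat hxZ' hloc' hA'
          have hψ'E : Mor (normalizerSys F V' hV'S) V' ψ' :=
            (mor_normalizerSys_iff hV'S).2
              ⟨hψ', le_normalizerIn hV'S, fun y hy => le_normalizerIn hV'S (hψ'V y hy),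
                extQ_of_le le_rfl hψ' hψ'V⟩
          exact hfix V' ψ' hψ'E hxV'
      refine aut_fix_of_local hW2 hWZ hS hF hfa hrec hc hxZ hloc ?_ f hf hfP
      have hPR : P ≤ normalizerIn S P := le_normalizerIn hPS
      by_cases hPeq : P = S
      · have hN : normalizerIn S P = S := by
          rw [hPeq]
          exact inf_eq_left.2 Subgroup.le_normalizer
        rw [hN]
        exact hA
      · have hPlt : P < S := lt_of_le_of_ne hPS hPeq
        have : Finite (normalizerIn S P) := finite_of_le inf_le_left
        exact hKall _ (normalizerIn S P) inf_le_left (hPR hxP)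
          (Or.inl (card_lt_of_lt (lt_normalizerIn hS hPlt))) rfl
  intro P f hf hxP
  exact (hgood P f hf x hxP).2 rfl

end Cfsg.Agent.Lib.Helper89.WCtl
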